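import Cfsg.Agent.H44.A9M

/-! A group containing `3³ : S₄` with `3³` a strongly closed trivial intersection subgroup. -/

set_option autoImplicit false
set_option maxRecDepth 100000
set_option linter.style.haveILetI false
open Cfsg H28

namespace H44

theorem cubic_cls {J K G : Type*} [AddCommGroup J] [Group K] [DistribMulAction K J] [Fintype J]
    [Fintype K] [Group G] [Fintype G] {φ : SD J K →* G} {A : SD J K → Prop} {f : ℕ → SD J K → Z12}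
    (h : Spec φ A fun a m => toC (f a m)) (h3 : ∀ j ∈ (SD.JJ : Subgroup (SD J K)), j ^ 3 = 1)
    (hA : ∀ j ∈ SD.JJ, j ≠ 1 → A j) {n c : ℕ} {cls : SD J K → Fin c} {tab : ℕ → Fin c → Z12}
    (hf : ∀ a < n, ∀ m, f a m = tab a (cls m)) {α β γ : List ℤ} {s t u : Fin c → ℤ}
    (hα : α.getD 0 0 = 0 ∧ (∀ i, ctab n α tab i = zi (s i)) ∧ ∀ m, s (cls m) = 0 ∨ m.k = 1 ∧ m ≠ 1)
    (hβ : β.getD 0 0 = 0 ∧ (∀ i, ctab n β tab i = zi (t i)) ∧ ∀ m, t (cls m) = 0 ∨ m.k = 1 ∧ m ≠ 1)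
    (hγ : γ.getD 0 0 = 0 ∧ (∀ i, ctab n γ tab i = zi (u i)) ∧ ∀ m, u (cls m) = 0 ∨ m.k = 1 ∧ m ≠ 1)
    {N : ℤ} (hN : (∀ m, u (cls m) = 0 ∨ s (cls m⁻¹) = 0) ∧ ∑ l : J, ∑ k : J,
      s (cls (SD.inl k)) * t (cls ((SD.inl k)⁻¹ * SD.inl l)) * u (cls (SD.inl l)) = N) :
    (Nat.card (SD J K) : ℚ) * Nat.card G * ∑ χ : IrrCharacter G,
      (Emb.lf α (Emb.col (vec φ fun a m => toC (f a m)) n χ) : ℚ) *
      Emb.lf β (Emb.col (vec φ fun a m => toC (f a m)) n χ) *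
      Emb.lf γ (Emb.col (vec φ fun a m => toC (f a m)) n χ) / dg χ = N := by
  have e : ∀ {α : List ℤ} {s : Fin c → ℤ}, (∀ i, ctab n α tab i = zi (s i)) → ∀ m,
      cmb n α (fun a m => toC (f a m)) m = s (cls m) := fun h m => by rw [cmb_cls _ hf, h, toC_zi]
  refine h.cubic h3 hA n hα.1 hβ.1 hγ.1 (fun m hm => (hα.2.2 m).resolve_left fun h0 => hm ?_)
    (fun m hm => (hβ.2.2 m).resolve_left fun h0 => hm ?_)
    (fun m hm => (hγ.2.2 m).resolve_left fun h0 => hm ?_) (fun m hm => ?_) SD.inl_injective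
    SD.mem_range_inl ?_
  · simp [e hα.2.1, h0]
  · simp [e hβ.2.1, h0]
  · simp [e hγ.2.1, h0]
  · simp [e hα.2.1, (hN.1 m).resolve_left fun h0 => hm (by simp [e hγ.2.1, h0])]
  · simp [e hα.2.1, e hβ.2.1, e hγ.2.1, ← hN.2]

theorem a9_arith {g x y u w : ℤ} (hg : 0 < g) (hB : 6 * g * (x + y) = x * y)
    (hC : 8 * g * (2 * w + u) = 3 * u * w) (hD : x + y = w + 2 * u) (hx : 27 ∣ x - 12)
    (hy : 27 ∣ y - 12) (hu : 27 ∣ u - 8) (hs : x ^ 2 + y ^ 2 ≤ 648 * g) : g = 1 := by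
  obtain ⟨D, hD'⟩ : ∃ D, D = x + y := ⟨_, rfl⟩
  have hB' : 6 * g * D = x * y := hD' ▸ hB
  have h0 : D * D = x ^ 2 + y ^ 2 + 2 * (x * y) := by rw [hD']; ring
  have h1 : D * D - 12 * g * D ≤ 648 * g := by linarith
  have h2 : 24 * g * D ≤ D * D := by nlinarith [sq_nonneg (x - y)]
  rcases lt_or_ge 0 D with h | h
  · have h3 : 24 * g ≤ D := by nlinarith
    have h4 : g ≤ 2 := by nlinarith
    by_contra h5
    obtain rfl : g = 2 := by omega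
    have : D ≤ 49 := by nlinarith
    omega
  exfalso
  have h3 : -54 < D := by nlinarith [sq_nonneg D, show D ≠ 0 by omega]
  obtain rfl : w = D - 2 * u := by omega
  have h4 : D = -3 ∨ D = -30 := by omega
  rcases h4 with rfl | rfl
  · have h5 : u + 2 ∣ 2 := ⟨8 * g - 2 * u + 1, by linarith⟩
    have := Int.le_of_dvd two_pos h5
    have := Int.le_of_dvd two_pos ((neg_dvd).2 h5)
    omega
  · have h5 : u + 20 ∣ 100 := ⟨4 * g - u + 5, by linarith⟩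
    have h6 := Int.le_of_dvd (by norm_num) h5
    have h7 := Int.le_of_dvd (by norm_num) ((neg_dvd).2 h5)
    have h8 : u = -19 := by
      have : u = -100 ∨ u = -73 ∨ u = -46 ∨ u = -19 ∨ u = 8 ∨ u = 35 ∨ u = 62 := by omega
      rcases this with rfl | rfl | rfl | rfl | rfl | rfl | rfl <;> simp at h5 ⊢
    obtain rfl : g = 19 := by subst h8; omega
    obtain rfl : y = -30 - x := by omega
    have h9 : -111 ≤ x ∧ x ≤ 111 := by constructor <;> nlinarith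
    have : x = -96 ∨ x = -69 ∨ x = -42 ∨ x = -15 ∨ x = 12 ∨ x = 39 ∨ x = 66 ∨ x = 93 := by omega
    rcases this with rfl | rfl | rfl | rfl | rfl | rfl | rfl | rfl <;> simp at hB

namespace K24

def αa : List ℤ := [0, 3, 3, -4, -4, 3, -4, 3, 0, 0]
def αb : List ℤ := [0, 0, 0, 2, 2, 0, 2, 0, -3, -3]
def αc : List ℤ := [0, -3, -3, -1, -1, -3, -1, -3, 3, 3]
def αd : List ℤ := [0, 6, 6, 8, 8, 6, 8, 6, 12, 12]
def dl (c : ℕ) (n : ℤ) (i : Fin 14) : ℤ := if i.val = c then n else 0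

theorem ha : αa.getD 0 0 = 0 ∧ (∀ i, ctab 10 αa tab i = zi (dl 5 108 i)) ∧
    ∀ m, dl 5 108 (cls m) = 0 ∨ m.k = 1 ∧ m ≠ 1 := by decide +kernel
theorem hb : αb.getD 0 0 = 0 ∧ (∀ i, ctab 10 αb tab i = zi (dl 6 54 i)) ∧
    ∀ m, dl 6 54 (cls m) = 0 ∨ m.k = 1 ∧ m ≠ 1 := by decide +kernel
theorem hc : αc.getD 0 0 = 0 ∧ (∀ i, ctab 10 αc tab i = zi (dl 7 81 i)) ∧
    ∀ m, dl 7 81 (cls m) = 0 ∨ m.k = 1 ∧ m ≠ 1 := by decide +kernel
theorem hd : ∀ m, ctab 10 αd tab (cls m) =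
    zi ((if m = 1 then 648 else 0) - 27 * if m.k = 1 then 24 else 0) := by decide +kernel
theorem cube : ∀ j ∈ (SD.JJ : Subgroup (SD J3 K24)), j ^ 3 = 1 :=
  (by decide +kernel : ∀ j : SD J3 K24, j.k = 1 → j ^ 3 = 1)
theorem card_M : Nat.card (SD J3 K24) = 648 := by rw [SD.card_eq, card_eq]; simp

theorem run_eq : Emb.run rows [[]] =
  [[[1, 0, 0, 0, 0, -1, -1, 0, -1, 0], [0, 1, 1, 1, 1, 1, 1, 0, 1, 2], [0, 1, 1, 1, 1, 0, 1, 1, 2, 1],
    [0, 1, 0, 0, 0, 0, 0, 0, 0, 0], [0, 0, 1, 0, 0, 0, 0, 0, 0, 0], [0, 0, 0, 1, 1, 1, 0, 1, 1, 1],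
    [0, 0, 0, 1, 0, 0, 0, 0, 0, 0], [0, 0, 0, 0, 1, 0, 0, 0, 0, 0], [0, 0, 0, 0, 0, 1, 0, 0, 0, 0],
    [0, 0, 0, 0, 0, 0, 1, 1, 0, 0], [0, 0, 0, 0, 0, 0, 1, 0, 0, 1], [0, 0, 0, 0, 0, 0, 0, 1, 0, 1],
    [0, 0, 0, 0, 0, 0, 0, 0, 1, 0]],
  [[1, 0, 0, 0, 0, -1, -1, 0, -1, 0], [0, 1, 1, 1, 1, 1, 1, 0, 1, 2], [0, 1, 1, 1, 1, 0, 1, 1, 2, 1],
    [0, 1, 0, 0, 0, 0, 0, 0, 0, 0], [0, 0, 1, 0, 0, 0, 0, 0, 0, 0], [0, 0, 0, 1, 1, 1, 0, 1, 1, 1],
    [0, 0, 0, 1, 0, 0, 0, 0, 0, 0], [0, 0, 0, 0, 1, 0, 0, 0, 0, 0], [0, 0, 0, 0, 0, 1, 0, 0, 0, 0],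
    [0, 0, 0, 0, 0, 0, 1, 1, 0, 1], [0, 0, 0, 0, 0, 0, 1, 0, 0, 0], [0, 0, 0, 0, 0, 0, 0, 1, 0, 0],
    [0, 0, 0, 0, 0, 0, 0, 0, 1, 0], [0, 0, 0, 0, 0, 0, 0, 0, 0, 1]],
  [[1, 0, 0, 0, 0, -1, -1, 0, -1, 0], [0, 1, 1, 1, 1, 1, 1, 1, 1, 2], [0, 1, 1, 1, 1, 0, 1, 1, 2, 1],
    [0, 1, 0, 0, 0, 0, 0, -1, 0, 0], [0, 0, 1, 0, 0, 0, 0, -1, 0, 0], [0, 0, 0, 1, 1, 1, 0, 0, 1, 1],
    [0, 0, 0, 1, 0, 0, 0, 0, 0, 0], [0, 0, 0, 0, 1, 0, 0, 0, 0, 0], [0, 0, 0, 0, 0, 1, 0, 0, 0, 0],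
    [0, 0, 0, 0, 0, 0, 1, 0, 0, 1], [0, 0, 0, 0, 0, 0, 1, 0, 0, 0], [0, 0, 0, 0, 0, 0, 0, 0, 1, 0],
    [0, 0, 0, 0, 0, 0, 0, 0, 0, 1]],
  [[1, 0, 0, 0, 0, -1, -1, 0, -1, 0], [0, 1, 1, 1, 1, 1, 1, 1, 2, 2], [0, 1, 1, 1, 1, 0, 1, 1, 1, 1],
    [0, 1, 0, 0, 0, 0, 0, -1, 0, 0], [0, 0, 1, 0, 0, 0, 0, -1, 0, 0], [0, 0, 0, 1, 1, 1, 0, 0, 0, 1],
    [0, 0, 0, 1, 0, 0, 0, 0, 1, 0], [0, 0, 0, 0, 1, 0, 0, 0, 1, 0], [0, 0, 0, 0, 0, 1, 0, 0, 0, 0],
    [0, 0, 0, 0, 0, 0, 1, 0, 0, 1], [0, 0, 0, 0, 0, 0, 1, 0, 0, 0], [0, 0, 0, 0, 0, 0, 0, 0, 0, 1]]] := by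
  decide +kernel

set_option maxHeartbeats 2000000 in
theorem range_eq_top {G : Type*} [Group G] [Finite G] {φ : SD J3 K24 →* G}
    (hφ : Function.Injective φ) (hTI : STI φ fun m => m ∈ SD.JJ ∧ m ≠ 1) : φ.range = ⊤ := by
  classical
  haveI := Fintype.ofFinite G
  have h : Spec φ (fun m => ∃ i : ℕ, m ^ i ∈ SD.JJ ∧ m ^ i ≠ 1) fun a m => toC (mval ms a m) := by
    refine ⟨hφ, hTI.pow, by ext; simp [mval, toC_zi], mval_gen ms, fun a ha m hm => ?_, by simp⟩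
    by_cases h : a < 10
    · rw [mval_eq a h] at hm
      obtain ⟨i, -, hi⟩ := cls_pow m (((tab_supp a h _).resolve_left ha).resolve_right fun e =>
        hm (by rw [e, map_zero]))
      exact ⟨i, hi⟩
    · exact absurd (by rw [mval_of_le ms (show 9 < a by omega), map_zero]) hm
  obtain ⟨s, hs, x, hx⟩ := h.exists_sol rows_gram (fun a ha b hb => inner_cls card_cls
    (mval_eq a ha) (mval_eq b (hb.trans_lt ha)) (tab_gram a ha b hb)) dg
  change Emb.Sol _ _ 10 _ _ at hx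
  have hA : ∀ j ∈ (SD.JJ : Subgroup (SD J3 K24)), j ≠ 1 → ∃ i : ℕ, j ^ i ∈ SD.JJ ∧ j ^ i ≠ 1 :=
    fun j h1 h2 => ⟨1, by simpa using ⟨h1, h2⟩⟩
  have e1 := cubic_cls h cube hA mval_eq ha ha hb (N := 15116544) (by decide +kernel)
  have e2 := cubic_cls h cube hA mval_eq ha ha hc (N := 0) (by decide +kernel)
  have e3 := cubic_cls h cube hA mval_eq ha hb hb (N := 7558272) (by decide +kernel)
  have e4 := cubic_cls h cube hA mval_eq ha hb hc (N := 11337408) (by decide +kernel)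
  have e5 := cubic_cls h cube hA mval_eq ha hc hc (N := 17006112) (by decide +kernel)
  have e6 := cubic_cls h cube hA mval_eq hb hb hc (N := 11337408) (by decide +kernel)
  have e7 := cubic_cls h cube hA mval_eq hb hc hc (N := 8503056) (by decide +kernel)
  have hG : Nat.card G = 648 * φ.range.index := by
    rw [← φ.range.card_mul_index, ← Nat.card_congr (MonoidHom.ofInjective hφ).toEquiv, card_M]
  rw [← Spec.sol_cubic hx, card_M, hG] at e1 e2 e3 e4 e5 e6 e7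
  have hm := Spec.sol_mod hx (h.dg_modEq 10 (α := αd) rfl (q := 27)
    ((isCharacter_regChar (G := K24)).comp SD.π).isGeneralizedCharacter (funext fun m => by
      rw [cmb_cls _ mval_eq, hd, toC_zi]
      simp [regChar, -Nat.card_eq_fintype_card, card_M, card_eq, SD.π]
      norm_num))
  have hq := Spec.sol_sq hx
  have hn := Spec.sol_ne hx
  have hl := hn.length_eq
  have d := fun a : ℕ => h.sol_deg hx (by norm_num) (List.replicate a 0 ++ [1])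
  have d0 := d 0; have d1 := d 1; have d2 := d 2; have d3 := d 3; have d4 := d 4
  have d5 := d 5; have d6 := d 6; have d7 := d 7; have d8 := d 8; have d9 := d 9
  clear d hx
  rw [hG] at hq
  rw [← Subgroup.index_eq_one]
  have hg : 0 < φ.range.index := Nat.pos_of_ne_zero Subgroup.index_ne_zero_of_finite
  generalize φ.range.index = g at *
  rw [run_eq] at hs
  simp only [List.mem_cons, List.not_mem_nil, or_false] at hs
  rcases hs with rfl | rfl | rfl | rfl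
  · match x, hl with
    | [x0, x1, x2, x3, x4, x5, x6, x7, x8, x9, x10, x11, x12], _ =>
      simp [Emb.lf, αa, αb, αc, -mul_eq_zero] at e2 e3 e4 e5 e6 e7 hn
      have : (g : ℚ) / x11 = 0 := by
        linear_combination (-e2 + 3 * e3 + 3 * e4 - e5 - 2 * e6 - 2 * e7) / (81 * 648 * 648)
      simp [hg.ne', hn] at this
  · match x, hl with
    | [x0, x1, x2, x3, x4, x5, x6, x7, x8, x9, x10, x11, x12, x13], _ =>
      simp [Emb.lf, αa, αb, αc, αd, List.replicate] at e1 e3 e6 hn hm hq d0 d3 d4 d6 d8 d9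
      obtain rfl : x7 = x6 := by omega
      have hB : (g : ℚ) / x12 + g / x13 = 1 / 6 := by
        linear_combination (-e1 - 3 * e3 + 4 * e6) / (108 * 648 * 648)
      have hC : (g : ℚ) / x7 + g / x7 + g / x10 = 3 / 8 := by
        linear_combination (e1 - e3) / (48 * 648 * 648)
      obtain ⟨-, -, -, -, -, -, n7, -, -, -, n10, -, n12, n13⟩ := hn
      have n7' : (x7 : ℚ) ≠ 0 := by exact_mod_cast n7
      have n10' : (x10 : ℚ) ≠ 0 := by exact_mod_cast n10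
      have n12' : (x12 : ℚ) ≠ 0 := by exact_mod_cast n12
      have n13' : (x13 : ℚ) ≠ 0 := by exact_mod_cast n13
      field_simp at hB hC
      have hq' : x12 ^ 2 + x13 ^ 2 ≤ 648 * (g : ℤ) := by
        have := sq_nonneg x0; have := sq_nonneg x1; have := sq_nonneg x2; have := sq_nonneg x3
        have := sq_nonneg x4; have := sq_nonneg x5; have := sq_nonneg x7; have := sq_nonneg x8
        have := sq_nonneg x9; have := sq_nonneg x10; have := sq_nonneg x11; linarith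
      exact_mod_cast a9_arith (g := g) (x := x12) (y := x13) (u := x7) (w := x10) (by omega)
        (by exact_mod_cast (by linarith : (6 * g * (x12 + x13) : ℚ) = x12 * x13))
        (by exact_mod_cast (by linarith : (8 * g * (2 * x10 + x7) : ℚ) = 3 * x7 * x10)) (by omega)
        (by omega) (by omega) (by omega) hq'
  · match x, hl with
    | [x0, x1, x2, x3, x4, x5, x6, x7, x8, x9, x10, x11, x12], _ =>
      simp [Emb.lf, List.replicate] at hn d1 d2 d7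
      omega
  · match x, hl with
    | [x0, x1, x2, x3, x4, x5, x6, x7, x8, x9, x10, x11], _ =>
      simp [Emb.lf, List.replicate] at hn d1 d2 d7
      omega

end K24

end H44
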