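/- Classes and centralizers in the simple group of order 168. -/
import Cfsg.Agent.H19.L3Fin
import Cfsg.Agent.S0495
import Cfsg.Agent.S0255
import Cfsg.Agent.H55.Basic
import Cfsg.Agent.H58.SmallQuot
import Cfsg.Agent.H87.Count
import Cfsg.Agent.H87.PrimeSylow

set_option autoImplicit false

namespace H44.L168

open Subgroup
open scoped MatrixGroups

variable {G : Type*} [Group G] [Finite G]

theorem equiv_sl [IsSimpleGroup G] (h : Nat.card G = 168) : Nonempty (G ≃* SL(3, ZMod 2)) := by
  have : Fact (Nat.Prime 7) := ⟨by norm_num⟩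
  refine ⟨((Cfsg.Agent.S0495.result h (ZMod.card 7)).some.trans
    (Cfsg.Agent.S0255.result (ZMod.card 7) (ZMod.card 2)).some).trans
      (H55.quotCenterEquivSelf ?_)⟩
  rw [eq_bot_iff]
  intro A hA
  obtain ⟨r, hr, hA⟩ := Matrix.SpecialLinearGroup.mem_center_iff.mp hA
  have : r = 1 := by clear hA; revert r; decide
  rw [this, map_one] at hA
  exact Subtype.ext hA.symm

/-- An element of order four. -/
def b : SL(3, ZMod 2) := ⟨!![0, 1, 1; 0, 1, 0; 1, 0, 0], by decide +kernel⟩

/-- An element of order seven. -/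
def d : SL(3, ZMod 2) := ⟨!![0, 1, 0; 0, 0, 1; 1, 1, 0], by decide +kernel⟩

theorem exists_reps [IsSimpleGroup G] (h : Nat.card G = 168) : ∃ t a b c d : G,
    orderOf t = 2 ∧ orderOf a = 3 ∧ orderOf b = 4 ∧ orderOf c = 7 ∧ orderOf d = 7 ∧
      ∀ g, g = 1 ∨ IsConj t g ∨ IsConj a g ∨ IsConj b g ∨ IsConj c g ∨ IsConj d g := by
  obtain ⟨e⟩ := equiv_sl h
  have : Fact (Nat.Prime 7) := ⟨by norm_num⟩
  obtain ⟨h1, h2, h3, h4, h5, h6⟩ := H19.ab2_rel
  have hb : ¬ b ^ 2 ^ 1 = 1 ∧ b ^ 2 ^ (1 + 1) = 1 ∧ d ^ 7 = 1 ∧ d ≠ 1 := by decide +kernel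
  refine ⟨e.symm H19.a2, e.symm H19.b2, e.symm b, e.symm (H19.a2 * H19.b2), e.symm d,
    ?_, ?_, ?_, ?_, ?_, fun g => ?_⟩
  · rw [MulEquiv.orderOf_eq]; exact orderOf_eq_prime h1 h2
  · rw [MulEquiv.orderOf_eq]; exact orderOf_eq_prime h3 h4
  · rw [MulEquiv.orderOf_eq]; exact orderOf_eq_prime_pow hb.1 hb.2.1
  · rw [MulEquiv.orderOf_eq]; exact orderOf_eq_prime h5 h6
  · rw [MulEquiv.orderOf_eq]; exact orderOf_eq_prime hb.2.2.1 hb.2.2.2
  · obtain ⟨r, hr, s, hs⟩ := H19.exists_rep2 (e g)
    have hc : IsConj (e.symm r.1) g := isConj_iff.2 ⟨e.symm s, by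
      rw [← map_inv, ← map_mul, ← map_mul, ← hs, e.symm_apply_apply]⟩
    simp only [H19.reps2, List.mem_cons, List.not_mem_nil, or_false] at hr
    rcases hr with rfl | rfl | rfl | rfl | rfl | rfl
    · left; simpa using hc.symm
    · exact Or.inr (Or.inl hc)
    · exact Or.inr (Or.inr (Or.inl hc))
    · exact Or.inr (Or.inr (Or.inr (Or.inl hc)))
    · exact Or.inr (Or.inr (Or.inr (Or.inr (Or.inl hc))))
    · exact Or.inr (Or.inr (Or.inr (Or.inr (Or.inr hc))))

omit [Finite G] in
theorem ord_conj {x y : G} (h : IsConj x y) : orderOf x = orderOf y := by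
  obtain ⟨c, rfl⟩ := isConj_iff.1 h
  exact ((MulAut.conj c).orderOf_eq x).symm

variable [IsSimpleGroup G] (h : Nat.card G = 168)
include h

theorem ord_cases (g : G) :
    orderOf g = 1 ∨ orderOf g = 2 ∨ orderOf g = 3 ∨ orderOf g = 4 ∨ orderOf g = 7 := by
  obtain ⟨t, a, b, c, d, h1, h2, h3, h4, h5, h6⟩ := exists_reps h
  rcases h6 g with e | e | e | e | e | e
  · simp [e]
  all_goals rw [← ord_conj e]; simp [*]

theorem conj_of_ord {s t : G} (e : orderOf s = orderOf t) (h7 : orderOf s ≠ 7) : IsConj s t := by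
  obtain ⟨u, a, b, c, d, h1, h2, h3, h4, h5, h6⟩ := exists_reps h
  rcases h6 s with e1 | e1 | e1 | e1 | e1 | e1
  · subst e1
    rw [orderOf_one, eq_comm, orderOf_eq_one_iff] at e
    rw [e]
  all_goals
    have f1 := ord_conj e1
    rcases h6 t with e2 | e2 | e2 | e2 | e2 | e2
    · subst e2; rw [orderOf_one] at e; omega
    all_goals first
      | exact e1.symm.trans e2
      | (have f2 := ord_conj e2; omega)

theorem not_dvd_cent {x : G} (hx : x ≠ 1) {q : ℕ} (hq : q.Prime) (hc : (orderOf x).Coprime q) :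
    ¬ q ∣ Nat.card (centralizer ({x} : Set G)) := fun hd => by
  have : Fact q.Prime := ⟨hq⟩
  obtain ⟨y, hy⟩ := exists_prime_orderOf_dvd_card' q hd
  have hy' : orderOf (y : G) = q := by rw [orderOf_coe, hy]
  have hcm : Commute x y := (mem_centralizer_singleton_iff.1 y.2).symm
  have h1 := hcm.orderOf_mul_eq_mul_orderOf_of_coprime (hy' ▸ hc)
  have h2 := ord_cases h (x * y)
  have h3 := ord_cases h x
  have h4 := ord_cases h (y : G)
  have h5 : orderOf x ≠ 1 := mt orderOf_eq_one_iff.1 hx
  have h6 := hq.one_lt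
  rw [h1, hy'] at h2
  rw [hy'] at h4
  generalize orderOf x = n at *
  rcases h3 with rfl | rfl | rfl | rfl | rfl <;> rcases h4 with rfl | rfl | rfl | rfl | rfl <;>
    first | omega | (revert hc; decide)

omit [Finite G] [IsSimpleGroup G] in
theorem cent_data (x : G) : orderOf x ∣ Nat.card (centralizer ({x} : Set G)) ∧
    Nat.card (centralizer ({x} : Set G)) ∈ Nat.divisors 168 :=
  ⟨Subgroup.orderOf_dvd_natCard _ (mem_centralizer_singleton_iff.2 rfl),
    Nat.mem_divisors.2 ⟨h ▸ card_subgroup_dvd_card _, by norm_num⟩⟩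

theorem card_cent3 {x : G} (hx : orderOf x = 3) : Nat.card (centralizer ({x} : Set G)) = 3 := by
  have h0 : x ≠ 1 := by rintro rfl; simp at hx
  obtain ⟨h1, h2⟩ := cent_data h x
  have h3 := not_dvd_cent h h0 Nat.prime_two (by rw [hx]; decide)
  have h4 := not_dvd_cent h h0 (q := 7) (by norm_num) (by rw [hx]; decide)
  rw [hx] at h1
  generalize Nat.card (centralizer ({x} : Set G)) = c at *
  revert h1; revert c; decide

theorem card_cent7 {x : G} (hx : orderOf x = 7) : Nat.card (centralizer ({x} : Set G)) = 7 := by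
  have h0 : x ≠ 1 := by rintro rfl; simp at hx
  obtain ⟨h1, h2⟩ := cent_data h x
  have h3 := not_dvd_cent h h0 Nat.prime_two (by rw [hx]; decide)
  have h4 := not_dvd_cent h h0 Nat.prime_three (by rw [hx]; decide)
  rw [hx] at h1
  generalize Nat.card (centralizer ({x} : Set G)) = c at *
  revert h1; revert c; decide

theorem card_cent_le {x : G} (hx : orderOf x = 2 ∨ orderOf x = 4) :
    Nat.card (centralizer ({x} : Set G)) ∣ 8 := by
  have h0 : x ≠ 1 := by rintro rfl; simp at hx
  obtain ⟨-, h2⟩ := cent_data h x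
  have h3 := not_dvd_cent h h0 (q := 7) (by norm_num) (by rcases hx with e | e <;> rw [e] <;> decide)
  have h4 := not_dvd_cent h h0 Nat.prime_three (by rcases hx with e | e <;> rw [e] <;> decide)
  generalize Nat.card (centralizer ({x} : Set G)) = c at *
  revert c; decide

omit [IsSimpleGroup G] in
theorem card_syl2 (T : Sylow 2 G) : Nat.card (T : Subgroup G) = 8 := by
  rw [T.card_eq_multiplicity, h, show (168 : ℕ) = 2 ^ 3 * 21 from rfl,
    Nat.factorization_mul (by norm_num) (by norm_num), Nat.Prime.factorization_pow Nat.prime_two]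
  simp [Nat.factorization_eq_zero_of_not_dvd (show ¬ 2 ∣ 21 by norm_num)]

omit [IsSimpleGroup G] in
theorem card_syl3 (T : Sylow 3 G) : Nat.card (T : Subgroup G) = 3 := by
  rw [T.card_eq_multiplicity, h, show (168 : ℕ) = 3 ^ 1 * 56 from rfl,
    Nat.factorization_mul (by norm_num) (by norm_num), Nat.Prime.factorization_pow Nat.prime_three]
  simp [Nat.factorization_eq_zero_of_not_dvd (show ¬ 3 ∣ 56 by norm_num)]

omit [IsSimpleGroup G] in
theorem card_syl7 [Fact (Nat.Prime 7)] (T : Sylow 7 G) : Nat.card (T : Subgroup G) = 7 := by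
  rw [T.card_eq_multiplicity, h, show (168 : ℕ) = 7 ^ 1 * 24 from rfl,
    Nat.factorization_mul (by norm_num) (by norm_num),
    Nat.Prime.factorization_pow (by norm_num : Nat.Prime 7)]
  simp [Nat.factorization_eq_zero_of_not_dvd (show ¬ 7 ∣ 24 by norm_num)]

omit [IsSimpleGroup G] in
theorem exists_central (T : Sylow 2 G) :
    ∃ z ∈ (T : Subgroup G), orderOf z = 2 ∧ (T : Subgroup G) ≤ centralizer {z} := by
  have : Nontrivial (T : Subgroup G) :=
    Finite.one_lt_card_iff_nontrivial.1 (by rw [card_syl2 h]; norm_num)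
  have h1 := T.isPGroup'.center_nontrivial
  have h2 : 2 ∣ Nat.card (center (T : Subgroup G)) := by
    obtain ⟨k, hk, e⟩ := (T.isPGroup'.to_subgroup (center (T : Subgroup G))).nontrivial_iff_card.1 h1
    rw [e]; exact dvd_pow_self 2 hk.ne'
  obtain ⟨z, hz⟩ := exists_prime_orderOf_dvd_card' 2 h2
  refine ⟨((z : (T : Subgroup G)) : G), (z : (T : Subgroup G)).2, by rw [orderOf_coe, orderOf_coe, hz],
    fun s hs => mem_centralizer_singleton_iff.2 ?_⟩
  exact congrArg Subtype.val (mem_center_iff.1 z.2 ⟨s, hs⟩)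

theorem card_cent2 {x : G} (hx : orderOf x = 2) : Nat.card (centralizer ({x} : Set G)) = 8 := by
  obtain ⟨T⟩ : Nonempty (Sylow 2 G) := inferInstance
  obtain ⟨z, -, h1, h2⟩ := exists_central h T
  have h3 := H87.card_class_mul_card_centralizer x
  have h4 := H87.card_class_mul_card_centralizer z
  have h5 : IsConj x z := conj_of_ord h (by rw [hx, h1]) (by omega)
  have h6 : Nat.card {g // IsConj x g} = Nat.card {g // IsConj z g} :=
    Nat.card_congr (Equiv.subtypeEquivRight fun g => ⟨h5.symm.trans, h5.trans⟩)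
  have h7 : Nat.card (centralizer ({z} : Set G)) = 8 :=
    Nat.dvd_antisymm (card_cent_le h (Or.inl h1)) (card_syl2 h T ▸ card_dvd_of_le h2)
  rw [h7, h] at h4
  rw [h6, h, show Nat.card {g // IsConj z g} = 21 by omega] at h3
  omega

theorem card_ord_eq {x : G} (hx : orderOf x ≠ 7) :
    Nat.card {g : G // orderOf g = orderOf x} * Nat.card (centralizer ({x} : Set G)) = 168 := by
  rw [← h, ← H87.card_class_mul_card_centralizer x]
  congr 1
  exact Nat.card_congr (Equiv.subtypeEquivRight fun g =>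
    ⟨fun e => conj_of_ord h e.symm hx, fun e => (ord_conj e).symm⟩)

theorem card_ord2 : Nat.card {g : G // orderOf g = 2} = 21 := by
  obtain ⟨t, a, b, c, d, h1, h2, h3, h4, h5, h6⟩ := exists_reps h
  have := card_ord_eq h (x := t) (by omega)
  rw [card_cent2 h h1, h1] at this
  omega

theorem card_ord3 : Nat.card {g : G // orderOf g = 3} = 56 := by
  obtain ⟨t, a, b, c, d, h1, h2, h3, h4, h5, h6⟩ := exists_reps h
  have := card_ord_eq h (x := a) (by omega)
  rw [card_cent3 h h2, h2] at this
  omega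

theorem card_cls7 {x : G} (hx : orderOf x = 7) : Nat.card {g : G // IsConj x g} = 24 := by
  have := H87.card_class_mul_card_centralizer x
  rw [card_cent7 h hx, h] at this
  omega

theorem card_sylow7 [Fact (Nat.Prime 7)] : Nat.card (Sylow 7 G) = 8 := by
  obtain ⟨P⟩ : Nonempty (Sylow 7 G) := inferInstance
  have h1 := card_sylow_modEq_one 7 G
  have h2 : Nat.card (Sylow 7 G) ∈ Nat.divisors 24 := by
    refine Nat.mem_divisors.2 ⟨?_, by norm_num⟩
    have := P.card_dvd_index
    have e := (P : Subgroup G).card_mul_index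
    rw [card_syl7 h, h] at e
    rwa [show (P : Subgroup G).index = 24 by omega] at this
  have h3 : Nat.card (Sylow 7 G) ≠ 1 := fun e => by
    have : Subsingleton (Sylow 7 G) := (Nat.card_eq_one_iff_unique.1 e).1
    have hn : (P : Subgroup G).Normal := P.normal_of_subsingleton
    have h4 := card_syl7 h P
    rcases hn.eq_bot_or_eq_top with e | e <;> rw [e] at h4
    · simp at h4
    · rw [card_top, h] at h4; omega
  generalize Nat.card (Sylow 7 G) = n at *
  revert h1; revert n; unfold Nat.ModEq; decide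

theorem card_ord7 : Nat.card {g : G // orderOf g = 7} = 48 := by
  have : Fact (Nat.Prime 7) := ⟨by norm_num⟩
  obtain ⟨P⟩ : Nonempty (Sylow 7 G) := inferInstance
  rw [H87.card_orderOf_eq_prime P (card_syl7 h P), card_sylow7 h]

theorem card_sylow3 : Nat.card (Sylow 3 G) = 28 := by
  obtain ⟨P⟩ : Nonempty (Sylow 3 G) := inferInstance
  have := H87.card_orderOf_eq_prime P (card_syl3 h P)
  rw [card_ord3 h] at this
  omega

theorem card_ord4 : Nat.card {g : G // orderOf g = 4} = 42 := by
  classical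
  have := Fintype.ofFinite G
  have e : ∀ k, Nat.card {g : G // orderOf g = k} =
      (Finset.univ.filter fun g : G => orderOf g = k).card := fun k => by
    rw [Nat.card_eq_fintype_card, Fintype.card_subtype]
  have h1 := Finset.card_eq_sum_card_fiberwise (s := (Finset.univ : Finset G))
    (t := ({1, 2, 3, 4, 7} : Finset ℕ)) (f := orderOf) fun g _ => by
      simpa using ord_cases h g
  have h2 : Nat.card {g : G // orderOf g = 1} = 1 := by
    simp only [orderOf_eq_one_iff]; simp
  rw [Finset.card_univ, ← Nat.card_eq_fintype_card, h] at h1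
  simp only [← e] at h1
  rw [Finset.sum_insert (by decide), Finset.sum_insert (by decide), Finset.sum_insert (by decide),
    Finset.sum_pair (by decide), h2, card_ord2 h, card_ord3 h, card_ord7 h] at h1
  omega

theorem card_cent4 {x : G} (hx : orderOf x = 4) : Nat.card (centralizer ({x} : Set G)) = 4 := by
  have := card_ord_eq h (x := x) (by omega)
  rw [hx, card_ord4 h] at this
  omega

theorem card_norm7 [Fact (Nat.Prime 7)] (P : Sylow 7 G) :
    Nat.card (normalizer ((P : Subgroup G) : Set G)) = 21 := by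
  have h1 := (normalizer ((P : Subgroup G) : Set G)).card_mul_index
  have h2 : _ = (normalizer ((P : Subgroup G) : Set G)).index := P.card_eq_index_normalizer
  rw [← h2, card_sylow7 h, h] at h1
  omega

theorem card_norm3 (P : Sylow 3 G) : Nat.card (normalizer ((P : Subgroup G) : Set G)) = 6 := by
  have h1 := (normalizer ((P : Subgroup G) : Set G)).card_mul_index
  have h2 : _ = (normalizer ((P : Subgroup G) : Set G)).index := P.card_eq_index_normalizer
  rw [← h2, card_sylow3 h, h] at h1
  omega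

theorem not_conj_inv {x : G} (hx : orderOf x = 7) : ¬ IsConj x x⁻¹ := fun hc => by
  have : Fact (Nat.Prime 7) := ⟨by norm_num⟩
  obtain ⟨g, hg⟩ := isConj_iff.1 hc
  obtain ⟨P, hP⟩ := H87.exists_sylow_mem_of_orderOf hx
  have h0 : x ≠ 1 := H87.ne_one_of_orderOf_prime hx
  have h1 := H87.zpowers_eq_of_mem_prime (card_syl7 h P) hP h0
  have h2 : g ∈ normalizer ((P : Subgroup G) : Set G) := by
    rw [← h1]
    refine mem_normalizer_fintype ?_
    rintro _ ⟨k, rfl⟩
    exact ⟨-k, by simp only; rw [← conj_zpow, hg]; simp⟩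
  have h3 : g ^ 21 = 1 := by
    rw [← card_norm7 h P, ← orderOf_dvd_iff_pow_eq_one]
    exact Subgroup.orderOf_dvd_natCard _ h2
  have h4 : Commute (g ^ 2) x := by
    have : g * x⁻¹ * g⁻¹ = x := by rw [← conj_inv, hg, inv_inv]
    calc g ^ 2 * x = g * (g * x * g⁻¹) * g := by rw [sq]; group
      _ = (g * x⁻¹ * g⁻¹) * g ^ 2 := by rw [hg, sq]; group
      _ = x * g ^ 2 := by rw [this]
  have h5 : Commute g x := by
    have : g = (g ^ 2) ^ 11 := by
      rw [← pow_mul, show 2 * 11 = 21 + 1 from rfl, pow_succ, h3, one_mul]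
    rw [this]; exact h4.pow_left 11
  rw [h5.eq, mul_inv_cancel_right] at hg
  have h6 : x ^ 2 = 1 := by rw [sq]; nth_rw 2 [hg]; simp
  have := orderOf_dvd_of_pow_eq_one h6
  rw [hx] at this
  omega

end H44.L168
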