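/- Sylow `2`-subgroups, four-groups and maximal subgroups of the simple group of order 168. -/
import Cfsg.Agent.H44.L168a
import Cfsg.Agent.H98.Sylow
import Cfsg.Agent.H87.Simple
import Cfsg.Agent.S0228

set_option autoImplicit false

namespace H44.L168

open Subgroup H98
open scoped MatrixGroups

variable {G : Type*} [Group G] [Finite G]

theorem sym4_of_card (h : Nat.card G = 24) (h6 : ∀ g : G, orderOf g ≠ 6) :
    Nonempty (G ≃* Equiv.Perm (Fin 4)) := by
  classical
  have hnc : ∀ z x : G, orderOf z = 2 → orderOf x = 3 → ¬ Commute z x := fun z x hz hx hc =>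
    h6 (z * x) (by rw [hc.orderOf_mul_eq_mul_orderOf_of_coprime (by rw [hz, hx]; decide), hz, hx])
  have h3 : ∀ P : Sylow 3 G, Nat.card (P : Subgroup G) = 3 := fun P => by
    rw [P.card_eq_multiplicity, h, show (24 : ℕ) = 3 ^ 1 * 8 from rfl,
      Nat.factorization_mul (by norm_num) (by norm_num), Nat.Prime.factorization_pow Nat.prime_three]
    simp [Nat.factorization_eq_zero_of_not_dvd (show ¬ 3 ∣ 8 by norm_num)]
  obtain ⟨P⟩ : Nonempty (Sylow 3 G) := inferInstance
  obtain ⟨x, hxP, hx1⟩ := H87.exists_ne_one_mem_prime (h3 P)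
  have hx := H87.orderOf_eq_of_mem_prime (h3 P) hxP hx1
  have hC : ¬ 2 ∣ Nat.card (centralizer ((P : Subgroup G) : Set G)) := fun hd => by
    obtain ⟨z, hz⟩ := exists_prime_orderOf_dvd_card' 2 hd
    exact hnc z x (by rw [orderOf_coe, hz]) hx (mem_centralizer_iff.1 z.2 x hxP).symm
  have hn : Nat.card (Sylow 3 G) = 4 := by
    have h1 := card_sylow_modEq_one 3 G
    have h2 : _ = (normalizer ((P : Subgroup G) : Set G)).index := P.card_eq_index_normalizer
    have h4 := H87.relIndex_dvd_prime_sub_one (h3 P)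
    have h5 := (centralizer ((P : Subgroup G) : Set G)).card_mul_index
    have h7 := relIndex_mul_index (centralizer_le_normalizer ((P : Subgroup G) : Set G))
    rw [← h7, ← h2, h] at h5
    have h8 : Nat.card (Sylow 3 G) ∈ Nat.divisors 24 :=
      Nat.mem_divisors.2 ⟨⟨_, by rw [← h5, mul_comm, mul_comm _ (Nat.card (Sylow 3 G)), mul_assoc]⟩,
        by norm_num⟩
    have h9 : Nat.card (Sylow 3 G) = 1 ∨ Nat.card (Sylow 3 G) = 4 := by
      generalize Nat.card (Sylow 3 G) = n at *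
      revert h1; clear h2 h5; revert n; unfold Nat.ModEq; decide
    refine h9.resolve_left fun e => ?_
    rw [e] at h5
    rcases (Nat.dvd_prime Nat.prime_two).1 h4 with e | e <;> rw [e] at h5 <;> omega
  have := Fintype.ofFinite (Sylow 3 G)
  let φ := MulAction.toPermHom G (Sylow 3 G)
  have hN : Nat.card (normalizer ((P : Subgroup G) : Set G)) = 6 := by
    have h2 : _ = (normalizer ((P : Subgroup G) : Set G)).index := P.card_eq_index_normalizer
    have h5 := (normalizer ((P : Subgroup G) : Set G)).card_mul_index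
    rw [← h2, hn, h] at h5
    omega
  have hfix : ∀ g ∈ φ.ker, ∀ Q : Sylow 3 G, g • Q = Q := fun g hg Q =>
    DFunLike.congr_fun (MonoidHom.mem_ker.1 hg) Q
  have hK : φ.ker = ⊥ := by
    have h1 : Nat.card φ.ker ∣ 6 :=
      hN ▸ card_dvd_of_le fun g hg => Sylow.smul_eq_iff_mem_normalizer.1 (hfix g hg P)
    have h2 : ¬ 3 ∣ Nat.card φ.ker := fun hd => by
      obtain ⟨y, hy⟩ := exists_prime_orderOf_dvd_card' 3 hd
      have hy' : orderOf (y : G) = 3 := by rw [orderOf_coe, hy]
      have : Subsingleton (Sylow 3 G) := ⟨fun Q R => H87.sylow_eq_of_mem_prime (h3 Q)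
        ((H87.smul_sylow_eq_iff_of_orderOf hy' Q).1 (hfix _ y.2 Q))
        ((H87.smul_sylow_eq_iff_of_orderOf hy' R).1 (hfix _ y.2 R))
        (H87.ne_one_of_orderOf_prime hy')⟩
      have := Nat.card_unique (α := Sylow 3 G)
      omega
    have h4 : Nat.card φ.ker ≠ 2 := fun e => by
      obtain ⟨z, hz, hz1⟩ := H87.exists_ne_one_mem_prime e
      refine hnc z x (H87.orderOf_eq_of_mem_prime e hz hz1) hx ?_
      obtain ⟨w, -, hw⟩ := (Nat.card_eq_two_iff' (1 : φ.ker)).1 e
      have e1 := hw ⟨z, hz⟩ (fun q => hz1 (congrArg Subtype.val q))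
      have e2 := hw ⟨x * z * x⁻¹, φ.normal_ker.conj_mem z hz x⟩
        (fun q => hz1 (by simpa using congrArg Subtype.val q))
      exact (mul_inv_eq_iff_eq_mul.1 (congrArg Subtype.val (e2.trans e1.symm))).symm
    rw [← card_eq_one]
    have h5 : Nat.card φ.ker ∈ Nat.divisors 6 := Nat.mem_divisors.2 ⟨h1, by norm_num⟩
    generalize Nat.card φ.ker = c at *
    revert h2 h4; clear h1; revert c; decide
  have hb : Function.Bijective φ := (Nat.bijective_iff_injective_and_card φ).2
    ⟨(MonoidHom.ker_eq_bot_iff φ).1 hK, by rw [Nat.card_perm, hn, h]; rfl⟩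
  exact ⟨(MulEquiv.ofBijective φ hb).trans
    (Equiv.permCongrHom (Finite.equivFinOfCardEq hn))⟩

/-- First four-group of the dihedral group of order eight. -/
def K1 : Subgroup (DihedralGroup 4) where
  carrier := {a | a = 1 ∨ a = .r 2 ∨ a = .sr 0 ∨ a = .sr 2}
  mul_mem' := by simp only [Set.mem_ofPred_eq]; decide
  one_mem' := Or.inl rfl
  inv_mem' := by simp only [Set.mem_ofPred_eq]; decide

/-- Second four-group of the dihedral group of order eight. -/
def K2 : Subgroup (DihedralGroup 4) where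
  carrier := {a | a = 1 ∨ a = .r 2 ∨ a = .sr 1 ∨ a = .sr 3}
  mul_mem' := by simp only [Set.mem_ofPred_eq]; decide
  one_mem' := Or.inl rfl
  inv_mem' := by simp only [Set.mem_ofPred_eq]; decide

instance : DecidablePred (· ∈ K1) := fun a =>
  inferInstanceAs (Decidable (a = 1 ∨ a = .r 2 ∨ a = .sr 0 ∨ a = .sr 2))

instance : DecidablePred (· ∈ K2) := fun a =>
  inferInstanceAs (Decidable (a = 1 ∨ a = .r 2 ∨ a = .sr 1 ∨ a = .sr 3))

omit [Finite G] in
theorem klein_iff {U : Subgroup G} : IsKleinFour U ↔ Nat.card U = 4 ∧ ∀ u ∈ U, u * u = 1 := by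
  refine ⟨fun h => ⟨h.card_four, fun u hu =>
    congrArg Subtype.val (IsKleinFour.mul_self (⟨u, hu⟩ : U))⟩, fun ⟨h1, h2⟩ => ⟨h1, ?_⟩⟩
  have : Finite U := Nat.finite_of_card_ne_zero (by omega)
  have : Nontrivial U := Finite.one_lt_card_iff_nontrivial.1 (by omega)
  exact (Monoid.exponent_eq_prime_iff Nat.prime_two).2 fun g hg =>
    orderOf_eq_prime (Subtype.ext (by simpa [sq] using h2 g g.2)) hg

theorem klein_K1 : IsKleinFour K1 :=
  klein_iff.2 ⟨by rw [Nat.card_eq_fintype_card]; decide, by decide⟩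

theorem klein_K2 : IsKleinFour K2 :=
  klein_iff.2 ⟨by rw [Nat.card_eq_fintype_card]; decide, by decide⟩

theorem eq_K {U : Subgroup (DihedralGroup 4)} (h : IsKleinFour U) : U = K1 ∨ U = K2 := by
  have hc : ∀ a ∈ U, ∀ b ∈ U, a * b = b * a := fun a ha b hb =>
    congrArg Subtype.val ((IsKleinFour.isMulCommutative (G := U)).is_comm.comm ⟨a, ha⟩ ⟨b, hb⟩)
  obtain ⟨h1, h2⟩ := klein_iff.1 h
  have key : ∀ a b : DihedralGroup 4, a * a = 1 → b * b = 1 → a * b = b * a → a ∈ K1 ∨ b ∈ K2 := by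
    decide
  by_cases e : U ≤ K1
  · exact Or.inl (eq_of_le_of_card_ge e (by rw [h1, klein_K1.card_four]))
  · obtain ⟨a, ha, ha'⟩ := SetLike.not_le_iff_exists.1 e
    exact Or.inr (eq_of_le_of_card_ge (fun b hb => (key a b (h2 a ha) (h2 b hb)
      (hc a ha b hb)).resolve_left ha') (by rw [h1, klein_K2.card_four]))

omit [Finite G] in
theorem klein_map {H : Type*} [Group H] {f : H →* G} (hf : Function.Injective f) {U : Subgroup H} :
    IsKleinFour (U.map f) ↔ IsKleinFour U := by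
  rw [klein_iff, klein_iff, card_map_of_injective hf]
  refine and_congr_right fun _ => ⟨fun h u hu => hf ?_, ?_⟩
  · rw [map_mul, h _ (mem_map_of_mem f hu), map_one]
  · rintro h _ ⟨u, hu, rfl⟩
    rw [← map_mul, h u hu, map_one]

omit [Finite G] in
theorem exists_klein {H : Type*} [Group H] {M : Subgroup G} (e : M ≃* H) (V : Subgroup H)
    [hV : V.Normal] (hk : IsKleinFour V) : ∃ U : Subgroup G, IsKleinFour U ∧ M ≤ normalizer U := by
  refine ⟨(V.map e.symm.toMonoidHom).map M.subtype,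
    (klein_map M.subtype_injective).2 ((klein_map e.symm.injective).2 hk), ?_⟩
  have := hV.map e.symm.toMonoidHom e.symm.surjective
  have h1 := le_normalizer_map (H := V.map e.symm.toMonoidHom) M.subtype
  rwa [normalizer_eq_top, ← MonoidHom.range_eq_map, range_subtype] at h1

variable [IsSimpleGroup G] (h : Nat.card G = 168)
include h

theorem not_comm : ¬ IsMulCommutative G := fun hc => by
  obtain ⟨t, a, b, c, d, h1, -⟩ := exists_reps h
  have h2 := card_cent2 h h1
  have : centralizer ({t} : Set G) = ⊤ :=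
    eq_top_iff.2 fun g _ => mem_centralizer_singleton_iff.2 (hc.is_comm.comm g t)
  rw [this, card_top, h] at h2
  omega

theorem card_le {H : Subgroup G} (hH : H ≠ ⊤) : Nat.card H ≤ 24 := by
  have h1 := H87.two_mul_card_dvd_factorial (not_comm h) H hH
  have h2 : 7 ≤ H.index := (Nat.Prime.dvd_factorial (by norm_num)).1
    (Dvd.dvd.trans (by rw [h]; norm_num) h1)
  have h3 := H.card_mul_index
  rw [h] at h3
  nlinarith

theorem exists_hom {z : G} (hz : orderOf z = 2) : ∃ f : DihedralGroup 4 →* G,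
    Function.Injective f ∧ f.range = centralizer {z} ∧ f (.r 2) = z := by
  obtain ⟨e⟩ := equiv_sl h
  let y : SL(3, ZMod 2) := H19.b2⁻¹ * H19.a2 * H19.b2
  have h0 : H19.a2 * H19.a2 = 1 ∧ (H19.b2⁻¹ * H19.a2 * H19.b2) * (H19.b2⁻¹ * H19.a2 * H19.b2) = 1 ∧
      (H19.a2 * (H19.b2⁻¹ * H19.a2 * H19.b2)) ^ 2 ≠ 1 ∧
      ((H19.a2 * (H19.b2⁻¹ * H19.a2 * H19.b2)) ^ 2) ^ 2 = 1 := by decide +kernel
  obtain ⟨x, y, h1, h2, h3⟩ : ∃ x y : G, x * x = 1 ∧ y * y = 1 ∧ (x * y) ^ 2 = z := by
    have h4 : orderOf (e.symm ((H19.a2 * y) ^ 2)) = 2 := by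
      rw [MulEquiv.orderOf_eq]; exact orderOf_eq_prime h0.2.2.2 h0.2.2.1
    obtain ⟨g, hg⟩ := isConj_iff.1 (conj_of_ord h (h4.trans hz.symm) (by omega))
    refine ⟨MulAut.conj g (e.symm H19.a2), MulAut.conj g (e.symm y), ?_, ?_, ?_⟩
    · rw [← map_mul, ← map_mul, h0.1, map_one, map_one]
    · rw [← map_mul, ← map_mul, h0.2.1, map_one, map_one]
    · rw [← map_mul, ← map_mul, ← map_pow, ← map_pow]; exact hg
  have hz1 : z ≠ 1 := H87.ne_one_of_orderOf_prime hz
  have hz2 : z * z = 1 := by rw [← sq, ← hz, pow_orderOf_eq_one]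
  have hzi : z⁻¹ = z := inv_eq_of_mul_eq_one_right hz2
  have hxi : x⁻¹ = x := inv_eq_of_mul_eq_one_right h1
  have hyi : y⁻¹ = y := inv_eq_of_mul_eq_one_right h2
  have h4 : z = (y * x) ^ 2 := by rw [← hzi, ← h3, ← inv_pow, mul_inv_rev, hxi, hyi]
  have hx : x ∈ centralizer ({z} : Set G) := mem_centralizer_singleton_iff.2 (by
    nth_rw 1 [h4]; rw [← h3]; simp only [sq, mul_assoc])
  have hy : y ∈ centralizer ({z} : Set G) := mem_centralizer_singleton_iff.2 (by
    nth_rw 2 [h4]; rw [← h3]; simp only [sq, mul_assoc])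
  obtain ⟨φ⟩ := H58.nonempty_equiv_dihedral_four (card_cent2 h hz) (x := ⟨x, hx⟩) (y := ⟨y, hy⟩)
    (Subtype.ext h1) (Subtype.ext h2) fun q => hz1 (by rw [← h3, sq]; exact congrArg Subtype.val q)
  refine ⟨(centralizer ({z} : Set G)).subtype.comp φ.symm.toMonoidHom,
    (subtype_injective _).comp φ.symm.injective, ?_, ?_⟩
  · rw [MonoidHom.range_comp, MonoidHom.range_eq_top.2 φ.symm.surjective,
      ← MonoidHom.range_eq_map, range_subtype]
  · have key : ∀ a : DihedralGroup 4, a ≠ 1 → (∀ b, b * a = a * b) → a = .r 2 := by decide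
    let z' : centralizer ({z} : Set G) := ⟨z, mem_centralizer_singleton_iff.2 rfl⟩
    rw [← key (φ z') (fun q => hz1 (congrArg Subtype.val (φ.map_eq_one_iff.1 q))) fun b => by
      obtain ⟨b, rfl⟩ := φ.surjective b
      rw [← map_mul, ← map_mul]
      exact congrArg φ (Subtype.ext (mem_centralizer_singleton_iff.1 b.2))]
    simp [z']

theorem eq_of_central {z w : G} (hz : orderOf z = 2) (hw : w ≠ 1)
    (hc : centralizer ({z} : Set G) ≤ centralizer {w}) : w = z := by
  obtain ⟨f, h1, h2, h3⟩ := exists_hom h hz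
  have key : ∀ a : DihedralGroup 4, a ≠ 1 → (∀ b, b * a = a * b) → a = .r 2 := by decide
  obtain ⟨a, rfl⟩ : w ∈ f.range := h2 ▸ mem_centralizer_singleton_iff.2
    (mem_centralizer_singleton_iff.1 (hc (mem_centralizer_singleton_iff.2 rfl))).symm
  rw [← h3, key a (by rintro rfl; simp at hw) fun b => h1 ?_]
  rw [map_mul, map_mul]
  exact mem_centralizer_singleton_iff.1 (hc (h2 ▸ ⟨b, rfl⟩))

theorem exists_eq_cent (T : Sylow 2 G) : ∃ z, orderOf z = 2 ∧ (T : Subgroup G) = centralizer {z} := by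
  obtain ⟨z, -, h1, h2⟩ := exists_central h T
  exact ⟨z, h1, eq_of_le_of_card_ge h2 (by rw [card_cent2 h h1, card_syl2 h])⟩

theorem syl_dihedral (T : Sylow 2 G) : Nonempty ((T : Subgroup G) ≃* DihedralGroup 4) := by
  obtain ⟨z, h1, h2⟩ := exists_eq_cent h T
  obtain ⟨f, h3, h4, -⟩ := exists_hom h h1
  rw [h2, ← h4]
  exact ⟨(MonoidHom.ofInjective h3).symm⟩

theorem norm_cent {z : G} (hz : orderOf z = 2) :
    normalizer (centralizer ({z} : Set G) : Set G) = centralizer {z} := by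
  refine le_antisymm (fun g hg => mem_centralizer_singleton_iff.2 ?_) le_normalizer
  refine mul_inv_eq_iff_eq_mul.1 (eq_of_central h hz (by simpa using H87.ne_one_of_orderOf_prime hz)
    fun s hs => mem_centralizer_singleton_iff.2 ?_)
  have := mem_centralizer_singleton_iff.1 ((mem_normalizer_iff''.1 hg s).1 hs)
  calc s * (g * z * g⁻¹) = g * (g⁻¹ * s * g * z) * g⁻¹ := by group
    _ = _ := by rw [this]; group

theorem norm_syl (T : Sylow 2 G) : normalizer ((T : Subgroup G) : Set G) = T := by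
  obtain ⟨z, h1, h2⟩ := exists_eq_cent h T
  rw [h2, norm_cent h h1]

theorem card_sylow2 : Nat.card (Sylow 2 G) = 21 := by
  obtain ⟨T⟩ : Nonempty (Sylow 2 G) := inferInstance
  have h1 := (T : Subgroup G).card_mul_index
  have h2 : _ = (normalizer ((T : Subgroup G) : Set G)).index := T.card_eq_index_normalizer
  rw [norm_syl h] at h2
  rw [← h2, card_syl2 h, h] at h1
  omega

theorem cent_eq_syl (T : Sylow 2 G) {z : G} (h1 : z ≠ 1)
    (hc : ∀ t ∈ (T : Subgroup G), t * z = z * t) : centralizer ({z} : Set G) = T := by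
  obtain ⟨w, h2, h3⟩ := exists_eq_cent h T
  rw [eq_of_central h h2 h1 fun t ht => mem_centralizer_singleton_iff.2 (hc t (h3 ▸ ht)), h3]

theorem cent_le_norm {U : Subgroup G} (hU : IsKleinFour U) {z : G} (hz : orderOf z = 2)
    (hle : U ≤ centralizer {z}) : centralizer ({z} : Set G) ≤ normalizer U := by
  have h1 : U.relIndex (centralizer {z}) = 2 := by
    have := (U.subgroupOf (centralizer {z})).card_mul_index
    rw [Nat.card_congr (subgroupOfEquivOfLe hle).toEquiv, hU.card_four, card_cent2 h hz] at this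
    unfold relIndex; omega
  exact (normal_subgroupOf_iff_le_normalizer hle).1 (normal_of_index_eq_two h1)

theorem card_norm_klein {U : Subgroup G} (hU : IsKleinFour U) :
    Nat.card (normalizer (U : Set G)) = 24 := by
  have hc : ∀ a ∈ U, U ≤ centralizer {a} := fun a ha b hb => mem_centralizer_singleton_iff.2
    (congrArg Subtype.val ((IsKleinFour.isMulCommutative (G := U)).is_comm.comm ⟨b, hb⟩ ⟨a, ha⟩))
  obtain ⟨h1, h2⟩ := klein_iff.1 hU
  have ho : ∀ a ∈ U, a ≠ 1 → orderOf a = 2 := fun a ha h3 =>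
    orderOf_eq_prime (by rw [sq, h2 a ha]) h3
  obtain ⟨a, b, hab, ha, hb⟩ : ∃ a b : U, a ≠ b ∧ a ≠ 1 ∧ b ≠ 1 := by
    have := Fintype.ofFinite U
    obtain ⟨a, b, c, h4, h5, h6⟩ := Fintype.two_lt_card_iff.1
      (show 2 < Fintype.card U by rw [← Nat.card_eq_fintype_card]; omega)
    by_cases e1 : a = 1
    · exact ⟨b, c, h6, e1 ▸ h4.symm, e1 ▸ h5.symm⟩
    by_cases e2 : b = 1
    · exact ⟨a, c, h5, e1, e2 ▸ h6.symm⟩
    · exact ⟨a, b, h4, e1, e2⟩
  have ha' := ho a a.2 fun q => ha (Subtype.ext q)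
  have hb' := ho b b.2 fun q => hb (Subtype.ext q)
  have h3 := cent_le_norm h hU ha' (hc a a.2)
  have h4 := cent_le_norm h hU hb' (hc b b.2)
  have h5 : normalizer (U : Set G) ≠ ⊤ := fun e => by
    rcases (normalizer_eq_top_iff.1 e).eq_bot_or_eq_top with e | e <;> rw [e] at h1
    · simp at h1
    · rw [card_top, h] at h1; omega
  have h6 := card_le h h5
  have h7 := card_dvd_of_le h3
  have h8 : Nat.card (normalizer (U : Set G)) ∣ 168 := h ▸ card_subgroup_dvd_card _
  have h9 : Nat.card (normalizer (U : Set G)) ≠ 8 := fun e => by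
    have e1 := eq_of_le_of_card_ge h3 (by rw [e, card_cent2 h ha'])
    have e2 := eq_of_le_of_card_ge h4 (by rw [e, card_cent2 h hb'])
    exact hab (Subtype.ext (eq_of_central h hb' (fun q => ha (Subtype.ext q)) (e2.trans e1.symm).le))
  rw [card_cent2 h ha'] at h7
  generalize Nat.card (normalizer (U : Set G)) = n at *
  interval_cases n <;> omega

theorem sym4_of_24 {M : Subgroup G} (hM : Nat.card M = 24) : Nonempty (M ≃* Equiv.Perm (Fin 4)) :=
  sym4_of_card hM fun g e => by
    have := ord_cases h (g : G)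
    rw [orderOf_coe, e] at this
    omega

theorem exists_kleins (T : Sylow 2 G) : ∃ U₁ U₂ : Subgroup G, U₁ ≠ U₂ ∧
    normalizer (U₁ : Set G) ≠ normalizer (U₂ : Set G) ∧
      ∀ U : Subgroup G, (U ≤ T ∧ IsKleinFour U) ↔ U = U₁ ∨ U = U₂ := by
  obtain ⟨z, h1, h2⟩ := exists_eq_cent h T
  obtain ⟨f, h3, h4, h5⟩ := exists_hom h h1
  have h6 : normalizer (K1.map f : Set G) ≠ normalizer (K2.map f : Set G) := fun e => by
    have h7 : normalizer (K1.map f : Set G) ≤ centralizer {z} := fun g hg => by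
      have e1 : g * z * g⁻¹ ∈ K1.map f :=
        (mem_normalizer_iff.1 hg z).1 (h5 ▸ mem_map_of_mem f (by decide))
      have e2 : g * z * g⁻¹ ∈ K2.map f :=
        (mem_normalizer_iff.1 (e ▸ hg) z).1 (h5 ▸ mem_map_of_mem f (by decide))
      obtain ⟨a, ha, e1⟩ := e1
      have hb : a ∈ K2 := (mem_map_iff_mem h3).1 (e1 ▸ e2)
      have key : ∀ a ∈ K1, a ∈ K2 → a = 1 ∨ a = .r 2 := by decide
      rcases key a ha hb with rfl | rfl
      · exact absurd (by simpa using e1.symm) (H87.ne_one_of_orderOf_prime h1)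
      · exact mem_centralizer_singleton_iff.2 (mul_inv_eq_iff_eq_mul.1 (e1.symm.trans h5))
    have := card_le_of_le h7
    rw [card_norm_klein h ((klein_map h3).2 klein_K1), card_cent2 h h1] at this
    omega
  refine ⟨K1.map f, K2.map f, fun e => h6 (by rw [e]), h6, fun U => ⟨fun ⟨a, b⟩ => ?_, ?_⟩⟩
  · have e : (U.comap f).map f = U := map_comap_eq_self (by rw [h4, ← h2]; exact a)
    rw [← e] at b ⊢
    exact (eq_K ((klein_map h3).1 b)).imp (congrArg _) (congrArg _)
  · rw [h2, ← h4]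
    rintro (rfl | rfl)
    · exact ⟨map_le_range _ _, (klein_map h3).2 klein_K1⟩
    · exact ⟨map_le_range _ _, (klein_map h3).2 klein_K2⟩

theorem syl_le_norm (T : Sylow 2 G) {U : Subgroup G} (hU : IsKleinFour U) (hle : U ≤ T) :
    (T : Subgroup G) ≤ normalizer U := by
  obtain ⟨z, h1, h2⟩ := exists_eq_cent h T
  rw [h2] at hle ⊢
  exact cent_le_norm h hU h1 hle

theorem eq_of_cj (T : Sylow 2 G) {U W : Subgroup G} (hU : IsKleinFour U) (hW : IsKleinFour W)
    (h1 : U ≤ T) (h2 : W ≤ T) {g : G} (e : cj g U = W) : U = W := by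
  have h3 := syl_le_norm h T hU h1
  have h4 := isSyl_sylow_of_le T (syl_le_norm h T hW h2)
  have h5 := (isSyl_sylow_of_le T h3).cj g
  rw [cj_normalizer, e] at h5
  obtain ⟨n, hn, h6⟩ := h5.exists_cj_eq h4
  rw [cj_cj, cj_eq_self_iff, norm_syl h] at h6
  rw [← cj_eq_self (h3 h6), ← cj_cj, e, cj_eq_self hn]

end H44.L168
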