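import Cfsg.Agent.H44.Sv3
import Cfsg.Agent.S0713
import Cfsg.Agent.S0483
import Cfsg.Agent.H85.Wrap1
import Cfsg.Agent.H45.Four
import Cfsg.Agent.H24.WalterGW
import Cfsg.Agent.H24.BenderAb
import Cfsg.Agent.H24.WalJR2

/-! A sieve for the orders of simple groups, part 4: the orders up to `6232`. -/

set_option autoImplicit false
set_option linter.unusedSectionVars false

namespace H44.Sv

open Cfsg H87 Subgroup MulAction

universe u

theorem card_sylow_150 {H : Type*} [Group H] [Finite H] (h : Nat.card H = 150) :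
    haveI := Fact.mk Nat.prime_five
    Nat.card (Sylow 5 H) = 1 := by
  have := Fact.mk Nat.prime_five
  obtain ⟨T⟩ : Nonempty (Sylow 2 H) := inferInstance
  have hT : Nat.card (T : Subgroup H) = 2 ^ 1 := card_sylow_eq T (m := 75) h (by norm_num)
  have hc : IsCyclic (T : Subgroup H) := isCyclic_of_prime_card (p := 2) hT
  have h1 := (hc.isComplement' (by rw [h]; norm_num)).card_mul_card
  generalize (MonoidHom.transferSylow T _) = f at h1
  rw [hT, h] at h1
  have h2 := card_sylow_dvd (G := f.ker) 5 (a := 2) (m := 3) (by omega) (by norm_num)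
  have h3 : Nat.card (Sylow 5 f.ker) % 5 = 1 := card_sylow_modEq_one 5 f.ker
  have h4 : Nat.card (Sylow 5 f.ker) = 1 := by
    have := Nat.le_of_dvd (by norm_num) h2
    omega
  have := (Nat.card_eq_one_iff_unique.1 h4).1
  obtain ⟨S⟩ : Nonempty (Sylow 5 f.ker) := inferInstance
  have := S.characteristic_of_subsingleton
  have h5 : Nat.card ((S : Subgroup f.ker).map f.ker.subtype) = 5 ^ (Nat.card H).factorization 5 := by
    rw [card_map_of_injective (subtype_injective _),
      card_sylow_eq S (a := 2) (m := 3) (by omega) (by norm_num),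
      ← (default : Sylow 5 H).card_eq_multiplicity,
      card_sylow_eq default (a := 2) (m := 6) h (by norm_num)]
  have := (Sylow.ofCard _ h5).unique_of_normal
    (show ((S : Subgroup f.ker).map f.ker.subtype).Normal from inferInstance)
  exact Nat.card_unique

variable {G : Type u} [Group G] [Finite G] [IsSimpleGroup G] (hna : ¬ IsMulCommutative G)
include hna

theorem ten_le_index (hG : Nat.card G = 3600) {H : Subgroup G} (hH : H ≠ ⊤) : 10 ≤ H.index := by
  have h1 := two_mul_card_dvd_factorial hna H hH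
  rw [hG] at h1
  by_contra h
  generalize H.index = k at *
  have : k < 10 := by omega
  interval_cases k <;> simp [Nat.factorial] at h1

theorem index_ne_twelve (hG : Nat.card G = 3600) {H : Subgroup G} : H.index ≠ 12 := fun hH => by
  classical
  have := Fact.mk Nat.prime_five
  have := Fintype.ofFinite (G ⧸ H)
  have hX : Fintype.card (G ⧸ H) = 12 := by rw [← hH, ← Nat.card_eq_fintype_card]; rfl
  have h0 : H ≠ ⊤ := by rintro rfl; simp at hH
  have : Nontrivial (G ⧸ H) := Fintype.one_lt_card_iff_nontrivial.1 (by omega)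
  have hco : IsCoatom H := ⟨h0, fun K hK => by
    by_contra h1
    have h2 := ten_le_index hna hG h1
    have h3 := relIndex_mul_index hK.le
    have h4 : H.relIndex K ≠ 1 := fun e => hK.not_ge (relIndex_eq_one.1 e)
    rw [hH] at h3
    rcases h5 : H.relIndex K with _ | _ | k <;> rw [h5] at h3 h4
    · omega
    · omega
    · nlinarith⟩
  have hp : IsPreprimitive G (G ⧸ H) :=
    (isCoatom_stabilizer_iff_preprimitive G ((1 : G) : G ⧸ H)).1 (by rwa [stabilizer_quotient])
  obtain ⟨g, hg⟩ := exists_smul_ne_quotient H h0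
  have hf := toPermHom_injective _ g _ hg
  have hp' : IsPreprimitive (toPermHom G (G ⧸ H)).range (G ⧸ H) :=
    IsPreprimitive.of_surjective (M := G) (φ := (toPermHom G (G ⧸ H)).rangeRestrict)
      (f := ⟨id, fun _ _ => rfl⟩) Function.surjective_id
  obtain ⟨c, hc⟩ := (Equiv.Perm.exists_with_cycleType_iff (G ⧸ H) (m := {5})).2 (by simp [hX])
  have c1 : c.IsCycle := Equiv.Perm.card_cycleType_eq_one.1 (by rw [hc]; rfl)
  have c2 : c.support.card = 5 := by rw [← Equiv.Perm.sum_cycleType, hc]; rfl
  obtain ⟨Q, hQ⟩ := exists_sylow_mem_of_orderOf (p := 5) (c1.orderOf.trans c2)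
  obtain ⟨P⟩ : Nonempty (Sylow 5 G) := inferInstance
  have h5 : Nat.card ((P : Subgroup G).map (toPermHom G (G ⧸ H))) =
      5 ^ (Nat.card (Equiv.Perm (G ⧸ H))).factorization 5 := by
    rw [card_map_of_injective hf, card_sylow_eq P (a := 2) (m := 144) hG (by norm_num),
      ← Q.card_eq_multiplicity, card_sylow_eq Q (a := 2) (m := 19160064) (by
        rw [Nat.card_perm, Nat.card_eq_fintype_card, hX]; rfl) (by norm_num)]
  obtain ⟨σ, hσ⟩ := exists_smul_eq (Equiv.Perm (G ⧸ H)) Q (Sylow.ofCard _ h5)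
  have h6 : σ * c * σ⁻¹ ∈ (P : Subgroup G).map (toPermHom G (G ⧸ H)) := by
    rw [← Sylow.coe_ofCard _ h5, ← hσ]
    exact ⟨c, hQ, rfl⟩
  have h7 := card_dvd_of_le (Cfsg.Agent.S0713.result _ hp' Nat.prime_five (by omega) (by omega)
    c1.conj (Equiv.Perm.card_support_conj.trans c2) (map_le_range _ _ h6))
  have h8 := two_mul_nat_card_alternatingGroup (α := G ⧸ H)
  rw [← Nat.card_congr (MonoidHom.ofInjective hf).toEquiv, hG] at h7
  rw [Nat.card_perm, Nat.card_eq_fintype_card (α := G ⧸ H), hX] at h8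
  have := Nat.le_of_dvd (by norm_num) h7
  rw [show Nat.factorial 12 = 479001600 from rfl] at h8
  omega

theorem ne_3600 : Nat.card G ≠ 3600 := fun hG => by
  have := Fact.mk Nat.prime_five
  have hS : ∀ P : Sylow 5 G, Nat.card (P : Subgroup G) = 5 ^ 2 := fun P =>
    card_sylow_eq P (m := 144) hG (by norm_num)
  obtain ⟨P⟩ : Nonempty (Sylow 5 G) := inferInstance
  obtain ⟨R, hR, j, hj, h1⟩ := exists_sylow_index_le P 2 fun h => by
    have h1 := card_sylow_dvd (G := G) 5 (a := 2) (m := 144) hG (by norm_num)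
    have h2 := card_sylow_ne_one hna 5 (by rw [hG]; norm_num)
    have h3 := Nat.le_of_dvd (by norm_num) h1
    have h4 : Nat.card (Sylow 5 G) % 25 = 1 := h
    generalize Nat.card (Sylow 5 G) = k at *
    obtain rfl | rfl | rfl | rfl | rfl : k = 26 ∨ k = 51 ∨ k = 76 ∨ k = 101 ∨ k = 126 := by omega
    all_goals norm_num at h1
  obtain ⟨⟨⟨x, hx⟩, hx'⟩, x1⟩ : ∃ x : (R : Subgroup G).subgroupOf P, x ≠ 1 := by
    rw [← ne_bot_iff_exists_ne_one]
    intro e
    rw [e, index_bot, hS] at h1
    have := Nat.pow_right_injective (le_refl 2 |>.trans (by norm_num : 2 ≤ 5)) h1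
    omega
  have x2 : x ≠ 1 := fun e => x1 (Subtype.ext (Subtype.ext e))
  have hle : ∀ Q : Sylow 5 G, x ∈ (Q : Subgroup G) → (Q : Subgroup G) ≤ centralizer {x} :=
    fun Q hQ y hy => mem_centralizer_singleton_iff.2 (congrArg Subtype.val
      ((IsPGroup.isMulCommutative_of_card_eq_prime_sq (hS Q)).is_comm.comm ⟨y, hy⟩ ⟨x, hQ⟩))
  have h2 := ten_le_index hna hG (centralizer_ne_top hna x x2)
  have h3 := (centralizer ({x} : Set G)).card_mul_index
  have h4 : Nat.card (Sylow 5 (centralizer ({x} : Set G))) ≠ 1 := fun e => by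
    have := (Nat.card_eq_one_iff_unique.1 e).1
    exact hR (Sylow.subtype_injective (Subsingleton.elim (R.subtype (hle R hx')) (P.subtype (hle P hx))))
  obtain ⟨m, hm⟩ := card_dvd_of_le (hle P hx)
  rw [hS] at hm
  have h5 : Nat.card (Sylow 5 (centralizer ({x} : Set G))) % 5 = 1 := card_sylow_modEq_one 5 _
  rw [hm, hG] at h3
  have h6 : m * (centralizer ({x} : Set G)).index = 144 := by nlinarith
  have h7 : m ≤ 14 := by nlinarith
  have h8 : m ∣ 144 := ⟨_, h6.symm⟩
  have h9 := card_sylow_dvd 5 hm fun e => by simpa using e.trans h8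
  have h10 : m = 6 ∨ m = 12 := by
    have := Nat.le_of_dvd (Nat.pos_of_dvd_of_pos h8 (by norm_num)) h9
    generalize Nat.card (Sylow 5 (centralizer ({x} : Set G))) = k at *
    obtain rfl | rfl : k = 6 ∨ k = 11 := by omega
    · omega
    · obtain rfl : m = 11 := by omega
      norm_num at h8
  rcases h10 with rfl | rfl
  · exact h4 (card_sylow_150 hm)
  · exact index_ne_twelve hna hG (H := centralizer {x}) (by omega)

omit hna in
theorem l2_odd (hn : Nat.card G ≤ 6232) {F : Type} [Field F] [Fintype F] (h1 : Odd (Fintype.card F))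
    (h2 : 3 < Fintype.card F) (e : G ≃* Matrix.ProjectiveSpecialLinearGroup (Fin 2) F) :
    Nat.card G ∈ [60, 168, 360, 504, 660, 1092, 2448, 2520, 3420, 4080, 5616, 6048, 6072] := by
  have h3 := H88.two_mul_card_psl_two h1
  have h4 : IsPrimePow (Fintype.card F) := Fintype.isPrimePow_card_of_field
  rw [← Nat.card_congr e.toEquiv] at h3
  generalize Fintype.card F = q at *
  have h5 : q < 24 := by
    by_contra h5
    have h6 : 24 ^ 2 ≤ q ^ 2 := Nat.pow_le_pow_left (by omega) 2
    have : 24 * 575 ≤ q * (q ^ 2 - 1) := Nat.mul_le_mul (by omega) (by omega)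
    omega
  simp only [List.mem_cons, List.not_mem_nil, or_false]
  rw [Nat.odd_iff] at h1
  interval_cases q <;> first | omega | exact absurd h4 (by decide +kernel)

/-- The orders of the non-abelian simple groups up to `6232`. -/
theorem card_mem (hn : Nat.card G ≤ 6232) :
    Nat.card G ∈ [60, 168, 360, 504, 660, 1092, 2448, 2520, 3420, 4080, 5616, 6048, 6072] := by
  have hc := not_isCyclic_of_nonabelian hna
  have he := elim_eq hna (by omega)
  have h0 : 0 < Nat.card G := Nat.card_pos
  obtain ⟨E, hE⟩ := Cfsg.Agent.S0204.result hc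
  have h4 : 4 ∣ Nat.card G := hE.card_four ▸ card_subgroup_dvd_card E
  by_cases h8 : Nat.card G % 8 = 4
  · obtain ⟨F, _, _, h1, h2, ⟨e⟩⟩ := H45.psl_of_card_four @Cfsg.Agent.S0483.result hc
      (m := Nat.card G / 4) (Nat.odd_iff.2 (by omega)) (by omega)
    exact l2_odd hn h1 h2 e
  by_cases h16 : Nat.card G % 16 = 0
  · have h1 := elim_sixteen (m := Nat.card G / 16) (by omega) (by omega)
    have h2 := ne_3360 hna
    have h3 := ne_3600 hna
    rw [show 16 * (Nat.card G / 16) = Nat.card G by omega, he] at h1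
    simp only [List.mem_cons, List.not_mem_nil, or_false, Bool.false_eq_true, false_or] at h1 ⊢
    omega
  have hT : ∀ T : Sylow 2 G, Nat.card (T : Subgroup G) = 2 ^ 3 := fun T =>
    card_sylow_eq T (m := Nat.card G / 8) (by omega) (by omega)
  by_cases hab : H10.W.Ab2 G
  · by_cases h1 : H10.W.IsL2E G
    · obtain ⟨n, h1, F, _, _, hF, ⟨e⟩⟩ := h1
      have h2 := H88.card_psl_two_of_even (F := F) (by
        rw [hF]; exact even_two.pow_of_ne_zero (by omega))
      rw [← Nat.card_congr e.toEquiv, hF] at h2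
      have h3 : n < 4 := by
        by_contra h3
        obtain ⟨k, rfl⟩ : ∃ k, n = k + 4 := ⟨n - 4, by omega⟩
        rw [pow_add, mul_comm (2 ^ k), mul_assoc] at h2
        omega
      simp only [List.mem_cons, List.not_mem_nil, or_false]
      interval_cases n <;> omega
    rcases H24.walterA_of_gw @Cfsg.Agent.S0483.result G hna hab with
      h | ⟨q, h2, h3, F, _, _, rfl, ⟨e⟩⟩ | ⟨t, E, L, q, h⟩
    · exact absurd h h1
    · exact l2_odd hn (Nat.odd_iff.2 (by omega)) h2 e
    have hf := H24.JR.jrFacts h fun H hH => h1 (H24.benderAb' G hna hab H hH)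
    have h2 : 21 ∣ Nat.card G := hf.automizer default ▸
      (relIndex_dvd_card _ _).trans (card_subgroup_dvd_card _)
    obtain ⟨F, _, _, rfl, ⟨e⟩⟩ := h.iso
    have h3 := H88.two_mul_card_psl_two h.odd
    have h5 := hf.mod8
    have h6 := h.big
    have h7 : Nat.card L ∣ Nat.card G := card_subgroup_dvd_card L
    rw [← Nat.card_congr e.toEquiv] at h3
    generalize Fintype.card F = q at *
    have h9 : q < 24 := by
      by_contra h5
      have h6 : 24 ^ 2 ≤ q ^ 2 := Nat.pow_le_pow_left (by omega) 2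
      have : 24 * 575 ≤ q * (q ^ 2 - 1) := Nat.mul_le_mul (by omega) (by omega)
      have := Nat.le_of_dvd h0 h7
      omega
    have h10 := fun h => (elim_eight _ h).symm.trans he
    simp only [List.mem_cons, List.not_mem_nil, or_false, Bool.true_eq_false, imp_false] at h10 ⊢
    generalize Nat.card L = l at *
    have h11 : l = 60 ∨ l = 660 ∨ l = 1092 ∨ l = 3420 ∨ l = 4620 := by
      clear * - h3 h5 h6 h9
      interval_cases q <;> omega
    obtain ⟨k, hk⟩ : 168 ∣ Nat.card G := by omega
    rw [hk] at h7 h10 h16 hn ⊢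
    have h12 : k ≤ 37 := by omega
    clear * - h7 h10 h11 h12 h16
    rcases h11 with rfl | rfl | rfl | rfl | rfl <;> interval_cases k <;> omega
  obtain ⟨T, hab⟩ := not_forall.1 hab
  rcases H85.dihedral_or_quaternion_of_card_eight (hT T) hab with h | ⟨⟨e⟩⟩
  · rcases H85.gw_simple @Cfsg.Agent.S0483.result hna T (by norm_num) h with
      ⟨F, _, _, h1, h3, ⟨e⟩⟩ | ⟨⟨e⟩⟩
    · exact l2_odd hn h1 h3 e
    · have h1 := two_mul_nat_card_alternatingGroup (α := Fin 7)
      rw [Nat.card_perm, ← Nat.card_congr e.toEquiv, Nat.card_eq_fintype_card (α := Fin 7),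
        Fintype.card_fin] at h1
      simp [Nat.factorial] at h1 ⊢
      omega
  · have h1 := Cfsg.Agent.S0201.result T 0 e (H84.eq_bot_of_oddCore_eq_bot
      (H84.oddCore_eq_bot_of_simple (z := (e.symm (.xa 0 * .xa 0) : (T : Subgroup G))) (by
        rw [Subgroup.orderOf_coe, MulEquiv.orderOf_eq]
        exact orderOf_eq_prime (by decide) (by decide))))
    rw [center_eq_bot hna, Subgroup.card_bot] at h1
    omega

end H44.Sv
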