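import Cfsg.Agent.H7.HKSSpec
import Cfsg.Agent.H98.Basic

/-! `blueprints/HKS2.md`: small tools for chapter NR, and job NRM. -/

set_option autoImplicit false

namespace H44.HK

open MulAction Cfsg Subgroup H89.K H65 H7.HKS H98
open scoped commutatorElement

universe u

section General

variable {G : Type*} [Group G] {W Y U K N : Subgroup G} {g t x i : G}

theorem mem_c1 : g ∈ centralizer ({x} : Set G) ↔ g * x = x * g := mem_centralizer_singleton_iff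

theorem odd_ord (hW : Odd (Nat.card W)) (hx : x ∈ W) : Odd (orderOf x) :=
  hW.of_dvd_nat (orderOf_dvd_natCard W hx)

theorem mem_of_sq (ho : Odd (orderOf g)) (h : g * g ∈ Y) : g ∈ Y := by
  obtain ⟨m, hm⟩ := exists_pow_eq_self_of_coprime (x := g) (n := 2) (Nat.coprime_two_left.2 ho)
  exact hm ▸ Y.pow_mem (sq g ▸ h) m

theorem eq_one_of_sq (ho : Odd (orderOf g)) (h : g * g = 1) : g = 1 :=
  mem_bot.1 (mem_of_sq ho (mem_bot.2 h))

theorem odd_dec (hW : Odd (Nat.card W)) (hn : t ∈ normalizer (W : Set G)) (h2 : t * t = 1)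
    (hx : x ∈ W) : ∃ i ∈ W, ∃ c ∈ W, t * i * t⁻¹ = i⁻¹ ∧ c * t = t * c ∧ x = i * c := by
  have hy : x * (t * x * t⁻¹)⁻¹ ∈ W := mul_mem hx (inv_mem (conj_mem_of_mem_normalizer hn hx))
  generalize hyd : x * (t * x * t⁻¹)⁻¹ = y at hy
  have e1 : t * y * t⁻¹ = y⁻¹ := by
    calc t * y * t⁻¹ = t * x * t⁻¹ * (t * t * x * (t * t)⁻¹)⁻¹ := by rw [← hyd]; group
      _ = y⁻¹ := by rw [h2, ← hyd]; group
  obtain ⟨k, hk⟩ := mem_zpowers_iff.1 (mem_of_sq (odd_ord hW hy) (mem_zpowers (y * y)))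
  have e2 : t * y ^ k * t⁻¹ = (y ^ k)⁻¹ := by rw [← conj_zpow, e1, inv_zpow]
  have e3 : y ^ k * y ^ k = y := by rw [← (Commute.refl y).mul_zpow, hk]
  refine ⟨y ^ k, zpow_mem hy k, (y ^ k)⁻¹ * x, mul_mem (inv_mem (zpow_mem hy k)) hx, e2,
    (mul_inv_eq_iff_eq_mul.1 ?_).symm, by group⟩
  calc t * ((y ^ k)⁻¹ * x) * t⁻¹ = (t * y ^ k * t⁻¹)⁻¹ * (x * (t * x * t⁻¹)⁻¹)⁻¹ * x := by group
    _ = y ^ k * (y ^ k * y ^ k)⁻¹ * x := by rw [e2, e3, inv_inv, hyd]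
    _ = (y ^ k)⁻¹ * x := by group

/-- an inverted and a centralized element with a central commutator of odd order commute -/
theorem comm_of_inv (hx : x * t = t * x) (hi : t * i * t⁻¹ = i⁻¹) (h1 : ⁅i, x⁆ * t = t * ⁅i, x⁆)
    (h2 : ⁅i, x⁆ * i = i * ⁅i, x⁆) (ho : Odd (orderOf ⁅i, x⁆)) : i * x = x * i := by
  refine commutatorElement_eq_one_iff_mul_comm.1 (eq_one_of_sq ho ?_)
  have e : t * x * t⁻¹ = x := by rw [← hx, mul_inv_cancel_right]
  have e1 : ⁅i, x⁆ = i⁻¹ * ⁅i, x⁆⁻¹ * i := by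
    calc ⁅i, x⁆ = t * ⁅i, x⁆ * t⁻¹ := by rw [← h1, mul_inv_cancel_right]
      _ = _ := by rw [conjugate_commutatorElement, hi, e]; simp only [commutatorElement_def]; group
  calc _ = i⁻¹ * ⁅i, x⁆⁻¹ * i * ⁅i, x⁆ := by rw [← e1]
    _ = 1 := by rw [mul_assoc, ← h2]; group

theorem central_mod (hU : Group.IsNilpotent U) (hK : K ≤ U) (n1 : U ≤ normalizer (K : Set G))
    (n2 : U ≤ normalizer (N : Set G)) (h : ¬ K ≤ N) : ∃ x ∈ K, x ∉ N ∧ ∀ u ∈ U, ⁅u, x⁆ ∈ N := by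
  have := normal_subgroupOf_of_le_normalizer n1
  have := normal_subgroupOf_of_le_normalizer n2
  obtain ⟨x, h1, h2, h3⟩ := H9.exists_central_mod (N := N.subgroupOf U) (K := K.subgroupOf U)
    fun e => h fun k hk => e (x := ⟨k, hK hk⟩) hk
  exact ⟨x, h1, h2, fun u hu => commutatorElement_inv (x : G) u ▸ inv_mem (h3 ⟨u, hu⟩)⟩

theorem exists_fix {Ω : Type*} [MulAction G Ω] {p : ℕ} (hp : p.Prime) (hK : IsPGroup p K)
    (S : Set Ω) [Finite S] (inv : ∀ h ∈ K, ∀ s ∈ S, h • s ∈ S) (hS : ¬ p ∣ S.ncard) :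
    ∃ s ∈ S, ∀ k ∈ K, k • s = s := by
  have := Fact.mk hp
  let _ : MulAction K S :=
    { smul := fun g x => ⟨(g : G) • (x : Ω), inv g g.2 x x.2⟩
      one_smul := fun x => Subtype.ext (one_smul G (x : Ω))
      mul_smul := fun g k x => Subtype.ext (mul_smul (g : G) (k : G) (x : Ω)) }
  obtain ⟨s, hs⟩ := hK.nonempty_fixed_point_of_prime_not_dvd_card S hS
  exact ⟨s, s.2, fun k hk => congrArg Subtype.val (hs ⟨k, hk⟩)⟩

end General

section Frame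

variable {G Ω : Type*} [Group G] [MulAction G Ω] {U : Ω → Subgroup G} {a b c : Ω} {g : G}
  {X : Set G}

omit [MulAction G Ω] in
theorem CU0 : CU U ∅ a = U a := inf_eq_left.2 fun _ _ _ h => h.elim

theorem nr0 (g : G) : g ∈ normalizer (∅ : Set G) := fun _ => Iff.rfl

theorem CU_le_LX (hc : c ∈ Fx Ω X) : CU U X c ≤ LX U X := le_iSup₂_of_le c hc le_rfl

theorem LX_le : LX U X ≤ LX U ∅ :=
  iSup₂_le fun _ _ => (inf_le_left.trans CU0.ge).trans (CU_le_LX fun _ h => h.elim)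

theorem h_mem {F : Type} [Field F] {x y : F → G} {L : Subgroup G} (hx : ∀ c, x c ∈ L)
    (hy : ∀ c, y c ∈ L) (c : F) : sl2n x y c ∈ L ∧ sl2h x y c ∈ L :=
  have k : ∀ c, sl2n x y c ∈ L := fun _ => mul_mem (mul_mem (hx _) (hy _)) (hx _)
  ⟨k c, mul_mem (k c) (k _)⟩

theorem h_pow {F : Type} [Field F] {x y : F → G} (r : SL2Rel x y) {c : F} (hc : c ≠ 0) (n : ℕ) :
    sl2h x y c ^ n = sl2h x y (c ^ n) := by
  induction n with
  | zero => rw [pow_zero, pow_zero, r.h_one]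
  | succ n ih => rw [pow_succ, ih, r.h_mul' (pow_ne_zero n hc) hc, pow_succ]

variable [Finite G]

theorem nr_of_conj (h : ∀ (g : G) (a : Ω), ∀ u ∈ U a, g * u * g⁻¹ ∈ U (g • a)) (a : Ω) :
    stabilizer G a ≤ normalizer (U a : Set G) := fun g hg => mem_normalizer_of_cj_le (by
  rintro _ ⟨u, hu, rfl⟩
  exact (show g • a = a from hg) ▸ h g a u hu)

/-- the conjugates of a regular normal subgroup of the point stabilizer -/
theorem family (h : Sp U) (ho : ∀ c, Odd (Nat.card (U c))) {A : Subgroup G} (hA : A ≤ U a)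
    (hn : stabilizer G a ≤ normalizer (A : Set G)) (hab : b ≠ a)
    (reg : ∀ x ∈ A, x • b = b → x = 1) (tr : ∀ u ∈ U a, ∃ x ∈ A, x • b = u • b) :
    ∃ A' : Ω → Subgroup G, Rg A' ∧ ∀ c, A' c ≤ U c := by
  choose k hk using h.t2.trans a
  have e : ∀ g, cj (k (g • a)) A = cj g A := fun g => by
    rw [← mul_inv_cancel_left g (k (g • a)), ← cj_cj,
      cj_eq_self (hn (show (g⁻¹ * k (g • a)) • a = a by rw [mul_smul, hk, inv_smul_smul]))]
  have le : ∀ c, cj (k c) A ≤ U c := by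
    rintro c _ ⟨x, hx, rfl⟩
    have := h.conj (k c) a x (hA hx)
    rwa [hk] at this
  have tr' : ∀ d, d ≠ a → ∃ x ∈ A, x • b = d := fun d hd => by
    obtain ⟨u, hu, rfl⟩ := h.tr hab hd
    exact tr u hu
  have ne : ∀ {c d}, d ≠ c → (k c)⁻¹ • d ≠ a := fun hd e =>
    hd ((inv_smul_eq_iff.1 e).trans (hk _))
  refine ⟨fun c => cj (k c) A, ⟨⟨h.t2, fun c u hu => h.fix c u (le c hu), fun g c u hu => ?_,
    fun c => ?_, fun {c d d'} hd hd' => ?_⟩, fun c d hd => ?_,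
    fun c => (ho c).of_dvd_nat (card_dvd_of_le (le c))⟩, le⟩
  · rw [← hk c, ← mul_smul, e, ← cj_cj]
    exact conj_mem_cj hu
  · have := h.nil c
    exact Group.nilpotent_of_mulEquiv (subgroupOfEquivOfLe (le c))
  · obtain ⟨x, hx, e1⟩ := tr' _ (ne hd)
    obtain ⟨y, hy, e2⟩ := tr' _ (ne hd')
    exact ⟨_, conj_mem_cj (mul_mem hy (inv_mem hx)), by
      rw [mul_smul, ← e1, mul_smul, mul_smul, inv_smul_smul, e2, smul_inv_smul]⟩
  · rintro _ ⟨u, hu, rfl⟩ e1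
    obtain ⟨x, hx, e2⟩ := tr' _ (ne hd)
    have := reg _ (mul_mem (mul_mem (inv_mem hx) hu) hx) (by
      rw [mul_smul, mul_smul, e2, inv_smul_eq_iff, e2, ← smul_left_cancel_iff (k c), smul_inv_smul,
        ← mul_smul, ← mul_smul]
      exact e1)
    rw [show u = 1 by simpa [mul_assoc] using congrArg (x * · * x⁻¹) this, map_one]

end Frame

theorem jobNRM (on : JobON.{u}) : JobNRM.{u} := by
  intro G Ω _ _ _ U p a b t Z h hab _ ht t2 tX hZ hC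
  have nU := nr_of_conj h.conj a
  have UB : U a ≤ stabilizer G a := h.fix a
  obtain ⟨Z1, Z2, Z3⟩ : Z ≤ Zc U a ∧ stabilizer G a ≤ normalizer (Z : Set G) ∧
      ∀ z ∈ Z, z • b = b → z = 1 := by
    rcases hZ with rfl | rfl
    exacts [⟨bot_le, le_normalizer_bot _, fun z hz _ => mem_bot.1 hz⟩,
      ⟨le_rfl, nr_of_conj h.zsr.conj a, h.zsr.reg hab.symm⟩]
  have Z4 : ∀ z ∈ Z, z * t = t * z := fun z hz => mem_c1.1 (hC.ge (mem_sup_right hz)).2
  have Z5 : ∀ z ∈ Z, ∀ u ∈ U a, u * z = z * u := fun z hz => (Z1 hz).2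
  have cU : ∀ c ∈ U a, c * t = t * c → ∃ x ∈ Xs U a b, ∃ z ∈ Z, c = x * z := fun c hc e =>
    (mem_sup_left_norm ((inf_le_left.trans UB).trans Z2)).1 (hC.le ⟨hc, mem_c1.2 e⟩)
  obtain ⟨A, ⟨A1, A2, A3, A4⟩, hmax⟩ := (wellFounded_gt (α := Subgroup G)).has_min
    {A | A ≤ U a ∧ stabilizer G a ≤ normalizer (A : Set G) ∧ Z ≤ A ∧ ∀ x ∈ A, x • b = b → x = 1}
    ⟨Z, Z1.trans inf_le_left, Z2, le_rfl, Z3⟩
  have dec : ∀ α ∈ A, ∃ i ∈ A, ∃ z ∈ Z, t * i * t⁻¹ = i⁻¹ ∧ α = i * z := fun α hα => by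
    obtain ⟨i, hi, c, hc, e1, e2, rfl⟩ := odd_dec ((h.odd a).of_dvd_nat (card_dvd_of_le A1))
      (A2 ht.1) t2 hα
    obtain ⟨x, hx, z, hz, rfl⟩ := cU c (A1 hc) e2
    rw [A4 x ((mul_mem_cancel_right (A3 hz)).1 hc) hx.2, one_mul]
    exact ⟨i, hi, z, hz, e1, rfl⟩
  have inv : ∀ u ∈ U a, t * u * t⁻¹ = u⁻¹ → u ∈ stab A Z := fun u hu e => by
    refine mem_of_sq (odd_ord (h.odd a) hu) ⟨Z2 (UB (mul_mem hu hu)), fun α hα => ?_⟩
    obtain ⟨i, hi, z, hz, e1, rfl⟩ := dec α hα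
    obtain ⟨j, hj, w, hw, e2, e3⟩ := dec _ (conj_mem_of_mem_normalizer (A2 (UB hu)) hi)
    have e4 : u⁻¹ * i⁻¹ * u = j⁻¹ * w := by
      calc _ = t * (u * i * u⁻¹) * t⁻¹ := by rw [← conj_mul, ← conj_mul, ← conj_inv, e, e1, inv_inv]
        _ = _ := by rw [e3, ← conj_mul, e2, ← Z4 w hw, mul_inv_cancel_right]
    have e5 : i⁻¹ = u * u * i⁻¹ * (u * u)⁻¹ * (w * w) := by
      calc _ = u * (u⁻¹ * i⁻¹ * u) * u⁻¹ := by group
        _ = u * ((j * w)⁻¹ * (w * w)) * u⁻¹ := by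
          rw [e4, mul_inv_rev, ← Z5 _ (inv_mem hw) _ (inv_mem (A1 hj))]; group
        _ = _ := by
          rw [← e3, mul_assoc, mul_assoc, ← Z5 _ (mul_mem hw hw) _ (inv_mem hu)]; group
    have e6 : ⁅i * z, u * u⁆ = (w * w)⁻¹ := by
      calc _ = i * (z * (u * u)) * z⁻¹ * i⁻¹ * (u * u)⁻¹ := by rw [commutatorElement_def]; group
        _ = i * (u * u * i⁻¹ * (u * u)⁻¹ * (w * w)) * (w * w)⁻¹ := by
          rw [← Z5 z hz _ (mul_mem hu hu)]; group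
        _ = _ := by rw [← e5]; group
    exact e6 ▸ inv_mem (mul_mem hw hw)
  have nC := le_normalizer_inf nU (le_normalizer_stab A2 Z2)
  by_cases hA : U a ⊓ stab A Z ≤ A
  · refine family h.toSp h.odd A1 A2 hab.symm A4 fun u hu => ?_
    obtain ⟨i, hi, c, hc, e1, e2, rfl⟩ := odd_dec (h.odd a) (nU ht.1) t2 hu
    obtain ⟨x, hx, z, hz, rfl⟩ := cU c hc e2
    exact ⟨i * z, mul_mem (hA ⟨hi, inv i hi e1⟩) (A3 hz), by
      rw [Z5 z hz x hx.1, mul_smul, mul_smul, mul_smul, show x • b = b from hx.2]⟩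
  obtain ⟨x₀, h1, h2, h3⟩ := central_mod (h.nil a) inf_le_left (UB.trans nC) (UB.trans A2) hA
  have AC : A ≤ U a ⊓ stab A Z := fun α hα => ⟨A1 hα, by
    obtain ⟨i, hi, z, hz, e1, rfl⟩ := dec α hα
    exact mul_mem (inv i (A1 hi) e1) ⟨le_normalizer hz, fun c hc => by
      rw [commutatorElement_eq_one_iff_mul_comm.2 (Z5 z hz c (A1 hc))]; exact one_mem _⟩⟩
  have AA : A ≤ (U a ⊓ stab A Z) ⊓ stab (U a) A := le_inf AC (le_stab_iff.2
    ⟨le_normalizer, commutator_le_right' (UB.trans A2)⟩)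
  have n1 := le_normalizer_inf nC (le_normalizer_stab nU A2)
  have m0 : x₀ ∈ (U a ⊓ stab A Z) ⊓ stab (U a) A := ⟨h1, A2 (UB h1.1), h3⟩
  have l1 : (U a ⊓ stab A Z) ⊓ stab (U a) A ≤ U a := inf_le_left.trans inf_le_left
  have l2 : (U a ⊓ stab A Z) ⊓ stab (U a) A ≤ stab A Z := inf_le_left.trans inf_le_right
  have l3 : (U a ⊓ stab A Z) ⊓ stab (U a) A ≤ stab (U a) A := inf_le_right
  generalize (U a ⊓ stab A Z) ⊓ stab (U a) A = A' at AA n1 m0 l1 l2 l3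
  refine (hmax A' ⟨l1, n1, A3.trans AA, fun x hx e => ?_⟩
    (lt_of_le_of_ne AA fun e => h2 (e ▸ m0))).elim
  have l4 : A' ⊓ stabilizer G b ⊔ A ≤ A' := sup_le inf_le_left AA
  refine on G Ω U a b ((A' ⊓ stabilizer G b ⊔ A) ⊓ centralizer (A' ⊓ stabilizer G b ⊔ A : Subgroup G))
    h.toSp (inf_le_left.trans (l4.trans l1)) ?_ (fun x hx y hy => hy.2 x hx.1) hab.symm x
    ⟨mem_sup_left ⟨hx, e⟩, ?_⟩ e
  · suffices k : stabilizer G a ≤ normalizer (A' ⊓ stabilizer G b ⊔ A : Subgroup G) from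
      le_normalizer_inf k (le_normalizer_centralizer k)
    intro g hg
    obtain ⟨u, hu, e1⟩ := h.tr (b := g • b) (fun e => hab (smul_left_cancel g
      ((show g • a = a from hg).trans e.symm))) hab.symm
    have k1 : zpowers (u * g) ≤ St G a b :=
      zpowers_le.2 ⟨mul_mem (UB hu) hg, (mul_smul u g b).trans e1⟩
    refine (mul_mem_cancel_left (mem_normalizer_of_cj_le (g := u) ?_)).1 (le_normalizer_sup
      (le_normalizer_inf (k1.trans (inf_le_left.trans n1)) (k1.trans (inf_le_right.trans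
        le_normalizer))) (k1.trans (inf_le_left.trans A2)) (mem_zpowers _))
    rintro _ ⟨y, hy, rfl⟩
    simpa [commutatorElement_def] using mul_mem (mem_sup_right ((l3 (l4 hy)).2 u hu)) hy
  · rw [H98.centralizer_sup]
    refine ⟨fun y hy => commutatorElement_eq_one_iff_mul_comm.1 (A4 _ ((l3 hx).2 y (l1 hy.1))
      (show _ ∈ stabilizer G b from mul_mem (mul_mem (mul_mem hy.2 e) (inv_mem hy.2))
        (inv_mem e))), fun α hα => ?_⟩
    obtain ⟨i, hi, z, hz, e1, rfl⟩ := dec α hα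
    have k := (l2 hx).2 i hi
    rw [mul_assoc, ← Z5 z hz x (l1 hx), ← mul_assoc, ← mul_assoc, comm_of_inv (tX x ⟨l1 hx, e⟩) e1
      (Z4 _ k) (Z5 _ k i (A1 hi)).symm (odd_ord (h.odd a) (Z1 k).1)]

end H44.HK
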