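import Cfsg.Agent.H2.PrSpec2
import Cfsg.Agent.H87.BrPerm

/-! The degree bound of Feit and Thompson for an abelian subgroup with disjoint conjugates. -/

set_option autoImplicit false

namespace H44.P898

open Cfsg H28 Finset
open scoped ComplexConjugate Classical

section split

variable {G : Type*} [Group G]

theorem split [Finite G] (K : Subgroup G) [K.Normal] [Fintype K] {θ : G → ℂ}
    (hθ : IsCharacter G θ) :
    ∃ α β : G → ℂ, IsCharacter G α ∧ IsCharacter G β ∧ θ = α + β ∧ K ≤ charKer α ∧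
      ∀ g, ∑ k : K, β (k * g) = 0 := by
  refine hθ.induction (P := fun θ => ∃ α β : G → ℂ, IsCharacter G α ∧ IsCharacter G β ∧
    θ = α + β ∧ K ≤ charKer α ∧ ∀ g, ∑ k : K, β (k * g) = 0)
    ⟨0, 0, isCharacter_zero, isCharacter_zero, by simp, fun _ _ _ => rfl, by simp⟩ ?_
  rintro φ θ hφ - ⟨α, β, hα, hβ, rfl, hk, hs⟩
  by_cases h : K ≤ charKer φ
  · refine ⟨φ + α, β, hφ.isCharacter.add hα, hβ, (add_assoc _ _ _).symm, fun k hk' x => ?_, hs⟩
    simp only [Pi.add_apply, h hk' x, hk hk' x]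
  · have h0 : ∑ x : K, φ x = 0 := by
      by_contra h1
      refine h (hφ.le_charKer_of_classInner_ne_zero K ?_)
      rw [classInner_one_right]
      exact mul_ne_zero (inv_ne_zero (card_ne_zero' K)) h1
    refine ⟨α, φ + β, hα, hφ.isCharacter.add hβ, by ring, hk, fun g => ?_⟩
    simp only [Pi.add_apply, sum_add_distrib, hs g, H87.sum_mul_eq_zero hφ.isCharacter K h0 g,
      add_zero]

theorem norm_split [Fintype G] (K : Subgroup G) [K.Normal] [Fintype K] {θ : G → ℂ}
    (hθ : IsCharacter G θ) (hne : ∃ k ∈ K, θ k ≠ θ 1) :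
    ∑ g, ‖(Nat.card K : ℂ)⁻¹ * ∑ k : K, θ (k * g)‖ ^ 2 + Nat.card G ≤ ∑ g, ‖θ g‖ ^ 2 := by
  obtain ⟨α, β, hα, hβ, rfl, hk, hs⟩ := split K hθ
  have hK := card_ne_zero' K
  have h1 : ∀ g, (Nat.card K : ℂ)⁻¹ * ∑ k : K, (α + β) (k * g) = α g := by
    intro g
    simp only [Pi.add_apply, sum_add_distrib, hs g, add_zero]
    rw [sum_congr rfl (g := fun _ => α g) fun k _ => hk k.2 g, sum_const, card_univ,
      ← Nat.card_eq_fintype_card, nsmul_eq_mul, ← mul_assoc, inv_mul_cancel₀ hK, one_mul]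
  have h2 : classInner β α = 0 := by
    have h3 : ∑ _k : K, ∑ g, β g * conj (α g) = 0 := by
      rw [sum_congr rfl (g := fun k : K => ∑ g, β (k * g) * conj (α g)) fun k _ => by
        rw [← Equiv.sum_comp (Equiv.mulLeft (k : G))]
        exact sum_congr rfl fun g _ => by rw [Equiv.coe_mulLeft, hk k.2 g], sum_comm]
      exact sum_eq_zero fun g _ => by rw [← sum_mul, hs g, zero_mul]
    rw [sum_const, card_univ, ← Nat.card_eq_fintype_card, nsmul_eq_mul] at h3
    rw [classInner_def, (mul_eq_zero.1 h3).resolve_left hK, mul_zero]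
  have h4 : β ≠ 0 := by
    rintro rfl
    obtain ⟨k, hk1, hk2⟩ := hne
    exact hk2 (by simp [apply_of_mem_charKer (hk hk1)])
  obtain ⟨n, hn⟩ := hβ.classInner_nat hβ
  have hn0 : n ≠ 0 := by
    rintro rfl
    exact h4 (classInner_self_eq_zero.1 (by simpa using hn))
  have h5 : classInner (α + β) (α + β) = classInner α α + n := by
    rw [classInner_add_left, classInner_add_right, classInner_add_right, h2,
      (classInner_eq_zero_comm _ _).1 h2, hn]; ring
  have h6 := congrArg Complex.re h5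
  rw [Complex.add_re, classInner_self_re, classInner_self_re, Complex.natCast_re] at h6
  simp only [h1]
  have hG : (0 : ℝ) < Nat.card G := by exact_mod_cast Nat.card_pos
  have h7 : (1 : ℝ) ≤ n := by exact_mod_cast Nat.pos_of_ne_zero hn0
  have h8 : ∑ g, ‖(α + β) g‖ ^ 2 = ∑ g, ‖α g‖ ^ 2 + Nat.card G * n := by
    field_simp at h6
    linarith
  nlinarith

/-- The same for a subgroup `H` and its normaliser. -/
theorem norm_nor [Fintype G] (H : Subgroup G) [Fintype H] {χ : G → ℂ} (hχ : IsCharacter G χ)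
    (hne : ∃ h ∈ H, χ h ≠ χ 1) :
    ∑ g ∈ univ.filter (· ∈ Subgroup.normalizer (H : Set G)),
        ‖(Nat.card H : ℂ)⁻¹ * ∑ k : H, χ (k * g)‖ ^ 2 +
      Nat.card (Subgroup.normalizer (H : Set G)) ≤
      ∑ g ∈ univ.filter (· ∈ Subgroup.normalizer (H : Set G)), ‖χ g‖ ^ 2 := by
  set N := Subgroup.normalizer (H : Set G)
  have hHN : H ≤ N := Subgroup.le_normalizer
  have : (H.subgroupOf N).Normal := Subgroup.normal_in_normalizer
  have h1 := norm_split (H.subgroupOf N) (hχ.restrict N) (by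
    obtain ⟨h, hh, h2⟩ := hne
    exact ⟨⟨h, hHN hh⟩, hh, h2⟩)
  rw [sum_subtype (p := (· ∈ N)) _ (by simp), sum_subtype (p := (· ∈ N)) _ (by simp)]
  have e := Subgroup.subgroupOfEquivOfLe hHN
  refine le_of_eq_of_le ?_ h1
  congr 1
  refine sum_congr rfl fun g _ => ?_
  rw [Nat.card_congr (Subgroup.subgroupOfEquivOfLe hHN).toEquiv,
    ← Equiv.sum_comp (Subgroup.subgroupOfEquivOfLe hHN).toEquiv]
  rfl

end split

section main

variable {G : Type*} [Group G] [Fintype G] {H : Subgroup G}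

/-- The hypothesis of the theorem on centralisers. -/
def One (H : Subgroup G) : Prop :=
  ∀ g : G, g ∉ Subgroup.center G → ∀ a b : G,
    Subgroup.centralizer ({g} : Set G) ⊓ H.map (MulAut.conj a).toMonoidHom ≠ ⊥ →
    Subgroup.centralizer ({g} : Set G) ⊓ H.map (MulAut.conj b).toMonoidHom ≠ ⊥ →
    H.map (MulAut.conj a).toMonoidHom = H.map (MulAut.conj b).toMonoidHom

/-- `g` centralises a non-trivial element of `H`. -/
def Mt (H : Subgroup G) (g : G) : Prop := ∃ h ∈ H, h ≠ 1 ∧ h * g = g * h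

omit [Fintype G] in
theorem mem_map_conj {a x : G} : x ∈ H.map (MulAut.conj a).toMonoidHom ↔ a⁻¹ * x * a ∈ H := by
  constructor
  · rintro ⟨y, hy, rfl⟩
    simpa [mul_assoc] using hy
  · intro h
    exact ⟨_, h, by simp [mul_assoc]⟩

omit [Fintype G] in
theorem ne_bot_of {g a : G} (h : Mt H (a⁻¹ * g * a)) :
    Subgroup.centralizer ({g} : Set G) ⊓ H.map (MulAut.conj a).toMonoidHom ≠ ⊥ := by
  obtain ⟨x, hx, h1, h2⟩ := h
  rw [Subgroup.ne_bot_iff_exists_ne_one]
  refine ⟨⟨a * x * a⁻¹, ?_, mem_map_conj.2 (by simpa [mul_assoc] using hx)⟩, fun h3 => h1 ?_⟩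
  · refine Subgroup.mem_centralizer_singleton_iff.2 ?_
    calc a * x * a⁻¹ * g = a * (x * (a⁻¹ * g * a)) * a⁻¹ := by group
      _ = g * (a * x * a⁻¹) := by rw [h2]; group
  · have h4 : a * x * a⁻¹ = 1 := congrArg Subtype.val h3
    simpa using h4

omit [Fintype G] in
theorem mem_nor (ho : One H) {g a b : G} (hg : g ∉ Subgroup.center G)
    (ha : Mt H (a⁻¹ * g * a)) (hb : Mt H (b⁻¹ * g * b)) :
    b⁻¹ * a ∈ Subgroup.normalizer (H : Set G) := by
  have h := ho g hg a b (ne_bot_of ha) (ne_bot_of hb)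
  rw [Subgroup.mem_normalizer_iff]
  intro x
  have h1 := SetLike.ext_iff.1 h (a * x * a⁻¹)
  rw [mem_map_conj, mem_map_conj] at h1
  simpa [mul_assoc] using h1

omit [Fintype G] in
theorem mt_nor (hZ : H ⊓ Subgroup.center G = ⊥)
    (ho : One H) {g : G} (hg : Mt H g) : g ∈ Subgroup.normalizer (H : Set G) := by
  obtain ⟨x, hx, h1, h2⟩ := hg
  have hc : x ∉ Subgroup.center G := fun h => h1 (Subgroup.mem_bot.1 (hZ ▸ ⟨hx, h⟩))
  have h3 : g⁻¹ * x * g = x := by rw [mul_assoc, h2]; group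
  simpa using mem_nor ho (a := g) (b := 1) hc (h3.symm ▸ ⟨x, hx, h1, rfl⟩)
    ⟨x, hx, h1, by simp⟩

theorem sum_T (ho : One H) {χ : G → ℂ} (hχ : IsIrrCharacter G χ) :
    ∑ g ∈ univ.filter (fun g => Mt H g ∧ g ∉ Subgroup.center G), ‖χ g‖ ^ 2 <
      Nat.card (Subgroup.normalizer (H : Set G)) := by
  set N := Subgroup.normalizer (H : Set G)
  have hz : ∀ a g : G, a⁻¹ * g * a ∈ Subgroup.center G ↔ g ∈ Subgroup.center G := fun a g => by
    rw [Subgroup.Normal.mem_comm_iff inferInstance, mul_inv_cancel_left]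
  have h1 : ∀ a : G, ∑ g ∈ univ.filter (fun g => Mt H g ∧ g ∉ Subgroup.center G), ‖χ g‖ ^ 2 =
      ∑ g, if Mt H (a⁻¹ * g * a) ∧ g ∉ Subgroup.center G then ‖χ g‖ ^ 2 else 0 := by
    intro a
    rw [sum_filter, ← Equiv.sum_comp (MulAut.conj a⁻¹).toEquiv]
    refine sum_congr rfl fun g _ => ?_
    simp only [MulEquiv.toEquiv_eq_coe, EquivLike.coe_coe, MulAut.conj_apply, inv_inv, hz,
      hχ.isClassFunction.apply_conj']
  have h2 : ∀ g : G, ∑ a : G, (if Mt H (a⁻¹ * g * a) ∧ g ∉ Subgroup.center G then ‖χ g‖ ^ 2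
      else 0) ≤ Nat.card N * ‖χ g‖ ^ 2 - if g = 1 then Nat.card N * ‖χ 1‖ ^ 2 else 0 := by
    intro g
    by_cases hg : g ∈ Subgroup.center G
    · simp only [hg, not_true, and_false, if_false, sum_const_zero]
      split_ifs with h
      · rw [h, sub_self]
      · rw [sub_zero]; positivity
    · rw [if_neg (by rintro rfl; exact hg (one_mem _)), sub_zero, ← sum_filter, sum_const,
        nsmul_eq_mul]
      refine mul_le_mul_of_nonneg_right ?_ (by positivity)
      by_cases hb : ∃ b, Mt H (b⁻¹ * g * b)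
      · obtain ⟨b, hb⟩ := hb
        rw [Nat.card_eq_fintype_card, ← card_univ]
        refine Nat.cast_le.2 (card_le_card_of_injOn
          (fun a => if h : b⁻¹ * a ∈ N then ⟨_, h⟩ else 1) (fun _ _ => mem_univ _) ?_)
        intro a ha a' ha' h
        have k1 := mem_nor ho hg (mem_filter.1 ha).2.1 hb
        have k2 := mem_nor ho hg (mem_filter.1 ha').2.1 hb
        simp only [dif_pos k1, dif_pos k2, N] at h
        exact mul_left_cancel (congrArg Subtype.val h)
      · rw [filter_eq_empty_iff.2 fun a _ h => hb ⟨a, h.1⟩]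
        simp
  have h3 := sum_le_sum (s := univ) fun g _ => h2 g
  rw [sum_comm, sum_congr rfl fun a _ => (h1 a).symm, sum_const, card_univ, nsmul_eq_mul,
    sum_sub_distrib, ← mul_sum, hχ.sum_norm_sq, sum_ite_eq', if_pos (mem_univ _),
    ← Nat.card_eq_fintype_card] at h3
  have hG : (0 : ℝ) < Nat.card G := by exact_mod_cast Nat.card_pos
  have hN : (0 : ℝ) < Nat.card N := by exact_mod_cast Nat.card_pos
  have h4 : 0 < ‖χ 1‖ ^ 2 := pow_pos (norm_pos_iff.2 hχ.apply_one_ne_zero) 2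
  have h5 := mul_pos hN h4
  by_contra h6
  have := mul_le_mul_of_nonneg_left (not_lt.1 h6) hG.le
  nlinarith

omit [Fintype G] in
theorem avg_eq [Fintype H] {χ : G → ℂ} (hχ : IsClassFunction G χ) {g : G}
    (hg : g ∈ Subgroup.normalizer (H : Set G)) (hm : ¬ Mt H g) :
    (Nat.card H : ℂ)⁻¹ * ∑ k : H, χ (k * g) = χ g := by
  have hm' : ∀ x ∈ H, x * g = g * x → x = 1 := fun x hx h => by
    by_contra h1; exact hm ⟨x, hx, h1, h⟩
  let f : H → H := fun x => ⟨x * (g * x⁻¹ * g⁻¹), H.mul_mem x.2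
    ((Subgroup.mem_normalizer_iff.1 hg _).1 (H.inv_mem x.2))⟩
  have hf : Function.Injective f := by
    intro x y h
    have h1 : (x : G) * (g * x⁻¹ * g⁻¹) = y * (g * y⁻¹ * g⁻¹) := congrArg Subtype.val h
    have h2 := hm' ((y : G)⁻¹ * x) (H.mul_mem (H.inv_mem y.2) x.2) (by
      calc (y : G)⁻¹ * x * g = (y : G)⁻¹ * (x * (g * x⁻¹ * g⁻¹)) * g * x := by
            simp [mul_assoc]
        _ = g * ((y : G)⁻¹ * x) := by rw [h1]; simp [mul_assoc])
    exact Subtype.ext (inv_mul_eq_one.1 h2).symm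
  rw [← (Finite.injective_iff_bijective.1 hf).sum_comp, sum_congr rfl (g := fun _ => χ g)
    fun x _ => by rw [← hχ g x]; simp [f, mul_assoc], sum_const, card_univ,
    ← Nat.card_eq_fintype_card, nsmul_eq_mul, ← mul_assoc, inv_mul_cancel₀ (card_ne_zero' H),
    one_mul]

theorem part_a [Fintype H] (hab : ∀ a ∈ H, ∀ b ∈ H, a * b = b * a)
    (hZ : H ⊓ Subgroup.center G = ⊥) (ho : One H) {χ : G → ℂ} (hχ : IsIrrCharacter G χ)
    (hne : ∃ h ∈ H, χ h ≠ χ 1) :
    (χ 1).re ^ 2 > (Nat.card H : ℝ) * (classInner (fun h : H => χ h) (fun _ => 1)).re ^ 2 := by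
  set Z := Subgroup.center G
  set N := Subgroup.normalizer (H : Set G)
  let a : G → ℂ := fun g => (Nat.card H : ℂ)⁻¹ * ∑ k : H, χ (k * g)
  have h1 : ∑ g ∈ univ.filter (· ∈ N), ‖a g‖ ^ 2 + Nat.card N ≤
    ∑ g ∈ univ.filter (· ∈ N), ‖χ g‖ ^ 2 := norm_nor H hχ.isCharacter hne
  have hS : (univ.filter (· ∈ N)).filter (Mt H) = univ.filter (Mt H) := by
    ext g
    simp only [mem_filter, mem_univ, true_and]
    exact ⟨fun h => h.2, fun h => ⟨mt_nor hZ ho h, h⟩⟩
  rw [← sum_filter_add_sum_filter_not _ (Mt H), ← sum_filter_add_sum_filter_not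
    (univ.filter (· ∈ N)) (Mt H), hS, sum_congr rfl (g := fun g => ‖χ g‖ ^ 2)
    (s₁ := (univ.filter (· ∈ N)).filter (fun g => ¬ Mt H g)) fun g hg => by
      simp only [mem_filter] at hg
      rw [show a g = χ g from avg_eq hχ.isClassFunction hg.1.2 hg.2]] at h1
  obtain ⟨x, hx, hx1⟩ := hne
  have hx2 : x ≠ 1 := by rintro rfl; exact hx1 rfl
  have h2 : ∑ g ∈ univ.filter (Mt H), ‖χ g‖ ^ 2 = Nat.card Z * (χ 1).re ^ 2 +
      ∑ g ∈ univ.filter (fun g => Mt H g ∧ g ∉ Z), ‖χ g‖ ^ 2 := by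
    rw [← sum_filter_add_sum_filter_not _ (· ∈ Z), filter_filter, filter_filter,
      ← hχ.isCharacter.sum_norm_sq_of_le_charCenter hχ.center_le_charCenter]
    congr 1
    refine sum_subtype _ (fun g => ?_) _
    simp only [mem_filter, mem_univ, true_and]
    exact ⟨fun h => h.2, fun h => ⟨⟨x, hx, hx2, Subgroup.mem_center_iff.1 h x⟩, h⟩⟩
  have h3 := sum_T ho hχ
  obtain ⟨c, hc⟩ := (hχ.isCharacter.restrict H).classInner_nat isCharacter_one
  obtain ⟨l, hl⟩ := hχ.exists_central_hom (le_refl Z)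
  have h4 : ∀ q : Z × H, ‖a (q.1 * q.2)‖ ^ 2 = (c : ℝ) ^ 2 := by
    rintro ⟨z, y⟩
    have h5 : a (z * y) = l z * c := by
      rw [← hc, classInner_one_right, mul_left_comm, mul_sum,
        ← Equiv.sum_comp (Equiv.mulRight y)]
      refine congrArg (fun t => (Nat.card H : ℂ)⁻¹ * t) (sum_congr rfl fun k _ => ?_)
      rw [← hl, ← mul_assoc, Subgroup.mem_center_iff.1 z.2 k, mul_assoc]
      rfl
    have h6 : ‖(l z : ℂ)‖ = 1 := by
      have h7 := hl z 1
      have h8 := hχ.mem_charCenter.1 (hχ.center_le_charCenter z.2)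
      have h9 := hχ.mem_charCenter.1 (one_mem _)
      rw [mul_one] at h7
      rw [h7, norm_mul, ← h9] at h8
      exact mul_right_cancel₀ (norm_ne_zero_iff.2 hχ.apply_one_ne_zero) (by rw [h8, one_mul])
    rw [h5, norm_mul, h6, one_mul, Complex.norm_natCast]
  have h5 : ∑ q : Z × H, ‖a (q.1 * q.2)‖ ^ 2 ≤ ∑ g ∈ univ.filter (Mt H), ‖a g‖ ^ 2 := by
    have hi : Function.Injective fun q : Z × H => (q.1 : G) * q.2 := by
      rintro ⟨z, y⟩ ⟨z', y'⟩ h
      have h6 : (z' : G)⁻¹ * z = y' * (y : G)⁻¹ := by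
        have h : (z : G) * y = z' * y' := h
        rw [eq_mul_inv_iff_mul_eq, mul_assoc, h, inv_mul_cancel_left]
      have h7 : (z' : G)⁻¹ * z ∈ H ⊓ Z :=
        ⟨h6 ▸ H.mul_mem y'.2 (H.inv_mem y.2), Z.mul_mem (Z.inv_mem z'.2) z.2⟩
      rw [hZ, Subgroup.mem_bot] at h7
      exact Prod.ext (Subtype.ext (inv_mul_eq_one.1 h7).symm)
        (Subtype.ext (mul_inv_eq_one.1 (h6 ▸ h7)).symm)
    rw [← sum_image (f := fun g => ‖a g‖ ^ 2) (hi.injOn (s := (univ : Finset (Z × H))))]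
    refine sum_le_sum_of_subset_of_nonneg (fun g hg => ?_) fun _ _ _ => by positivity
    obtain ⟨⟨z, y⟩, -, rfl⟩ := mem_image.1 hg
    refine mem_filter.2 ⟨mem_univ _, x, hx, hx2, ?_⟩
    rw [← mul_assoc, Subgroup.mem_center_iff.1 z.2 x, mul_assoc, hab x hx y y.2, mul_assoc]
  rw [sum_congr rfl fun q _ => h4 q, sum_const, card_univ, ← Nat.card_eq_fintype_card,
    Nat.card_prod, nsmul_eq_mul, Nat.cast_mul] at h5
  rw [hc, Complex.natCast_re]
  have hZ0 : (0 : ℝ) < Nat.card Z := by exact_mod_cast Nat.card_pos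
  have h6 : (Nat.card Z : ℝ) * (Nat.card H * (c : ℝ) ^ 2) < Nat.card Z * (χ 1).re ^ 2 := by
    linarith
  exact lt_of_mul_lt_mul_left h6 hZ0.le

theorem deg_le {A : Type*} [Group A] [Fintype A] (hab : ∀ a b : A, a * b = b * a) {θ : A → ℂ}
    (hθ : IsCharacter A θ) : (θ 1).re ≤ (classInner θ θ).re := by
  refine hθ.induction (P := fun θ => (θ 1).re ≤ (classInner θ θ).re)
    (by simp [classInner_zero_left]) fun φ θ hφ hθ ih => ?_
  obtain ⟨n, hn⟩ := hφ.isCharacter.classInner_nat hθ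
  rw [classInner_add_left, classInner_add_right, classInner_add_right, hφ.classInner_self, hn,
    classInner_comm_of_nat hn, Pi.add_apply, hφ.apply_one_of_comm hab]
  simp only [Complex.add_re, Complex.one_re, Complex.natCast_re]
  have : (0 : ℝ) ≤ n := Nat.cast_nonneg n
  linarith

theorem part_b [Fintype H] (hab : ∀ a ∈ H, ∀ b ∈ H, a * b = b * a)
    (hZ : H ⊓ Subgroup.center G = ⊥) (ho : One H) {χ : G → ℂ} (hχ : IsIrrCharacter G χ)
    (h1 : χ 1 ≠ 1) (hM : ∀ M : Subgroup G, M.Normal → H ≤ M → M = ⊤) :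
    (1 + (χ 1).re) ^ 2 > (Nat.card H : ℝ) := by
  set s := √(Nat.card H : ℝ)
  have hs : s ^ 2 = Nat.card H := Real.sq_sqrt (Nat.cast_nonneg _)
  have hs0 : 0 ≤ s := Real.sqrt_nonneg _
  have key : ∀ θ, IsCharacter G θ → classInner θ (fun _ => 1) = 0 →
      θ = 0 ∨ s * (classInner (fun h : H => θ h) (fun _ => 1)).re < (θ 1).re := by
    intro θ hθ
    refine hθ.induction (P := fun θ : G → ℂ => classInner θ (fun _ => 1) = 0 →
      θ = 0 ∨ s * (classInner (fun h : H => θ h) (fun _ => 1)).re < (θ 1).re)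
      (fun _ => Or.inl rfl) fun φ θ hφ hθ ih h => Or.inr ?_
    obtain ⟨a, ha⟩ := hφ.isCharacter.classInner_nat isCharacter_one
    obtain ⟨b, hb⟩ := hθ.classInner_nat isCharacter_one
    rw [classInner_add_left, ha, hb] at h
    have h' : a + b = 0 := by exact_mod_cast h
    have hφ1 : ∃ h ∈ H, φ h ≠ φ 1 := by
      by_contra hc
      push Not at hc
      have h2 := hφ.charKer_eq_top_iff.1
        (hM _ hφ.charKer_normal fun x hx => hφ.mem_charKer.2 (hc x hx))
      rw [h2, classInner_one_one] at ha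
      have : a = 1 := by exact_mod_cast ha.symm
      omega
    have h3 := part_a hab hZ ho hφ hφ1
    obtain ⟨d, hd, hd'⟩ := hφ.exists_degree_pos
    have h4 : s * (classInner (fun h : H => φ h) (fun _ => 1)).re < (φ 1).re := by
      rw [← hs, ← mul_pow] at h3
      refine lt_of_pow_lt_pow_left₀ 2 ?_ h3
      rw [hd', Complex.natCast_re]; positivity
    have h5 : (fun h : H => (φ + θ) h) = (fun h : H => φ h) + fun h : H => θ h := rfl
    rw [h5, classInner_add_left, Pi.add_apply, Complex.add_re, Complex.add_re]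
    rcases ih (by rw [hb, show b = 0 by omega, Nat.cast_zero]) with rfl | h6
    · simpa [classInner_one_right] using h4
    · linarith
  have hc := hχ.isCharacter.mul hχ.isCharacter.conj
  have h2 : classInner (χ * fun g => conj (χ g)) (fun _ => 1) = 1 := by
    rw [← classInner_eq_mul_one, hχ.classInner_self]
  have hθ := hc.sub_irr isIrrCharacter_one (by rw [h2]; exact one_ne_zero)
  obtain ⟨d, hd, hd'⟩ := hχ.exists_degree_pos
  have hd2 : (2 : ℝ) ≤ d := by
    have : d ≠ 1 := by rintro rfl; exact h1 (by simpa using hd')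
    exact_mod_cast (by omega : 2 ≤ d)
  have h3 : (((χ * fun g => conj (χ g)) - fun _ => (1 : ℂ) : G → ℂ) 1).re = (d : ℝ) ^ 2 - 1 := by
    simp [hd', sq]
  rcases key _ hθ (by rw [classInner_sub_left, h2, classInner_one_one, sub_self]) with h4 | h4
  · rw [h4] at h3
    simp only [Pi.zero_apply, Complex.zero_re] at h3
    nlinarith
  · have h5 : (fun h : H => ((χ * fun g => conj (χ g)) - fun _ => (1 : ℂ) : G → ℂ) h) =
        ((fun h : H => χ h) * fun h : H => conj (χ h)) - fun _ => (1 : ℂ) := rfl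
    rw [h3, h5, classInner_sub_left, ← classInner_eq_mul_one, classInner_one_one, Complex.sub_re,
      Complex.one_re] at h4
    have h6 := deg_le (A := H) (fun a b => Subtype.ext (hab a a.2 b b.2))
      (hχ.isCharacter.restrict H)
    simp only [OneMemClass.coe_one, hd', Complex.natCast_re] at h6
    have h7 : s * (d - 1) < (d + 1) * (d - 1) := by nlinarith
    have h8 := lt_of_mul_lt_mul_right h7 (by linarith)
    rw [hd', Complex.natCast_re, ← hs]
    nlinarith

end main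

universe u

theorem job898 : H2.PR.Job898.{u} := fun _ _ hab hZ ho _ hχ hne =>
  ⟨part_a hab hZ ho hχ hne, part_b hab hZ ho hχ⟩

end H44.P898
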