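import Cfsg.Agent.H2.PrSpec2

/-! Eigenvalue multiplicities of elements of prime order. -/

set_option autoImplicit false

namespace H44.PE

open Cfsg H28 Finset H2.PR Module
open scoped Classical

theorem geo {p : ℕ} (hp : p ≠ 0) {a ω : ℂ} (ha : a ^ p = 1) (hω : ω ^ p = 1) :
    (p : ℂ)⁻¹ * ∑ i ∈ range p, a ^ i * (ω ^ i)⁻¹ = if a = ω then 1 else 0 := by
  have h0 : ω ≠ 0 := by rintro rfl; simp [hp] at hω
  have h1 : ∀ i, a ^ i * (ω ^ i)⁻¹ = (a / ω) ^ i := fun i => by rw [div_pow, div_eq_mul_inv]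
  simp only [h1]
  split_ifs with h
  · rw [h, div_self h0]
    simp [inv_mul_cancel₀ (Nat.cast_ne_zero.2 hp : (p : ℂ) ≠ 0)]
  · rw [geom_sum_eq (by rwa [Ne, div_eq_one_iff_eq h0]), div_pow, ha, hω]
    simp

section lin

variable {V ι : Type*} [AddCommGroup V] [Module ℂ V] [Fintype ι]

theorem finrank_eig (b : Basis ι ℂ V) (f : End ℂ V) (ε : ι → ℂ) (h : ∀ i, f (b i) = ε i • b i)
    (ω : ℂ) : finrank ℂ (f.eigenspace ω) = #{i | ε i = ω} := by
  have h1 : f.eigenspace ω = Submodule.span ℂ (b '' {i | ε i = ω}) := by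
    refine le_antisymm (fun v hv => ?_) (Submodule.span_le.2 ?_)
    · rw [Basis.mem_span_image]
      intro j hj
      have h2 : b.repr (f v) j = ε j * b.repr v j := by
        conv_lhs => rw [← b.sum_repr v]
        simp only [map_sum, map_smul, h, Basis.repr_self, Finsupp.coe_finsetSum, Finset.sum_apply,
          Finsupp.smul_apply, Finsupp.single_apply, smul_eq_mul, mul_ite, mul_one, mul_zero,
          sum_ite_eq', mem_univ, if_true]
        exact mul_comm _ _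
      rw [End.mem_eigenspace_iff.1 hv, map_smul, Finsupp.smul_apply, smul_eq_mul] at h2
      exact (mul_right_cancel₀ (Finsupp.mem_support_iff.1 hj) h2).symm
    · rintro _ ⟨i, hi, rfl⟩
      exact End.mem_eigenspace_iff.2 (by rw [h, show ε i = ω from hi])
  rw [h1, Set.image_eq_range]
  refine (finrank_span_eq_card
    (b.linearIndependent.comp (fun i : {i | ε i = ω} => (i : ι)) Subtype.val_injective)).trans ?_
  simp [Fintype.card_subtype]

omit [Fintype ι] in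
theorem card_le_finrank [FiniteDimensional ℂ V] (b : Basis ι ℂ V) (s : Finset ι)
    {U : Submodule ℂ V} (h : ∀ i ∈ s, b i ∈ U) : #s ≤ finrank ℂ U := by
  have h1 := finrank_span_eq_card (R := ℂ)
    (b.linearIndependent.comp (fun i : s => (i : ι)) Subtype.val_injective)
  rw [Fintype.card_coe] at h1
  rw [← h1]
  exact Submodule.finrank_mono (Submodule.span_le.2 (by rintro _ ⟨i, rfl⟩; exact h i i.2))

end lin

variable {G : Type*} [Group G] {V : Type*} [AddCommGroup V] [Module ℂ V] [FiniteDimensional ℂ V]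
  (ρ : Representation ℂ G V) {p : ℕ}

theorem basis (hp : p ≠ 0) {u : G} (hu : u ^ p = 1) :
    ∃ (b : Basis (Fin (finrank ℂ V)) ℂ V) (ε : Fin (finrank ℂ V) → ℂ),
      (∀ i, ε i ^ p = 1) ∧ (∀ i, ρ u (b i) = ε i • b i) ∧ ∀ ω : ℂ, ω ^ p = 1 →
        (p : ℂ)⁻¹ * ∑ i ∈ range p, ρ.character (u ^ i) * (ω ^ i)⁻¹ = (#{i | ε i = ω} : ℕ) ∧
        em p ρ.character u ω = #{i | ε i = ω} := by
  obtain ⟨b, ε, h1, h2⟩ := H29.exists_eigenbasis_of_pow_eq_one (ρ u) p (Nat.cast_ne_zero.2 hp)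
    (by rw [← map_pow, hu, map_one])
  refine ⟨b, ε, h1, h2, fun ω hω => ?_⟩
  have h3 : ∀ i, ρ.character (u ^ i) = ∑ j, ε j ^ i := fun i => by
    rw [Representation.character, map_pow]
    exact H29.trace_eq_sum_of_eigenbasis b _ _ fun j => H29.pow_apply_of_eigen _ _ _ (h2 j) i
  have h4 : (p : ℂ)⁻¹ * ∑ i ∈ range p, ρ.character (u ^ i) * (ω ^ i)⁻¹ =
      (#{i | ε i = ω} : ℕ) := by
    simp only [h3, sum_mul]
    rw [sum_comm, mul_sum, sum_congr rfl fun j _ => geo hp (h1 j) hω, sum_boole]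
  exact ⟨h4, by rw [H2.PR.em, h4, Complex.natCast_re, Nat.floor_natCast]⟩

theorem em_eq (hp : p ≠ 0) {u : G} (hu : u ^ p = 1) {ω : ℂ} (hω : ω ^ p = 1) :
    em p ρ.character u ω = finrank ℂ (End.eigenspace (ρ u) ω) := by
  obtain ⟨b, ε, -, h2, h3⟩ := basis ρ hp hu
  rw [(h3 ω hω).2, finrank_eig b _ ε h2]

theorem two_gen (hi : ρ.IsIrreducible) (h1 : 1 < finrank ℂ V) {u v : G} {ω ω' : ℂ}
    (h : Subgroup.closure {u, v} = ⊤) :
    finrank ℂ (End.eigenspace (ρ u) ω) + finrank ℂ (End.eigenspace (ρ v) ω') ≤ finrank ℂ V := by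
  by_contra hc
  have h2 := Submodule.finrank_sup_add_finrank_inf_eq (End.eigenspace (ρ u) ω)
    (End.eigenspace (ρ v) ω')
  have h3 := Submodule.finrank_le (End.eigenspace (ρ u) ω ⊔ End.eigenspace (ρ v) ω')
  have h4 : End.eigenspace (ρ u) ω ⊓ End.eigenspace (ρ v) ω' ≠ ⊥ := fun h0 => by
    rw [h0, finrank_bot] at h2
    omega
  obtain ⟨w, ⟨hw1, hw2⟩, hw⟩ := Submodule.exists_mem_ne_zero_of_ne_bot h4
  have h5 : ∀ g, ∃ c : ℂ, ρ g w = c • w := by
    intro g
    have hg : g ∈ Subgroup.closure {u, v} := h ▸ Subgroup.mem_top g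
    induction hg using Subgroup.closure_induction with
    | mem x hx =>
      rcases hx with rfl | rfl
      · exact ⟨ω, End.mem_eigenspace_iff.1 hw1⟩
      · exact ⟨ω', End.mem_eigenspace_iff.1 hw2⟩
    | one => exact ⟨1, by simp⟩
    | mul x y _ _ hx hy =>
      obtain ⟨c, hc⟩ := hx
      obtain ⟨d, hd⟩ := hy
      exact ⟨d * c, by rw [map_mul, End.mul_apply, hd, map_smul, hc, smul_smul]⟩
    | inv x _ hx =>
      obtain ⟨c, hc⟩ := hx
      have h6 : c • ρ x⁻¹ w = w := by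
        rw [← map_smul, ← hc, ← End.mul_apply, ← map_mul, inv_mul_cancel, map_one, End.one_apply]
      have h7 : c ≠ 0 := by rintro rfl; exact hw (by rw [← h6, zero_smul])
      exact ⟨c⁻¹, by rw [eq_inv_smul_iff₀ h7, h6]⟩
  rcases ((isIrreducible_iff_submodule ρ).1 hi).2 (ℂ ∙ w) (fun g x hx => by
    obtain ⟨c, rfl⟩ := Submodule.mem_span_singleton.1 hx
    obtain ⟨d, hd⟩ := h5 g
    rw [map_smul, hd]
    exact Submodule.smul_mem _ _ (Submodule.smul_mem _ _ (Submodule.mem_span_singleton_self w)))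
    with h6 | h6
  · exact hw (Submodule.span_singleton_eq_bot.1 h6)
  · have h7 := finrank_span_singleton (K := ℂ) hw
    rw [h6, finrank_top] at h7
    omega

omit [FiniteDimensional ℂ V] in
theorem scal {x a : G} {ω : ℂ} {v : V} (ha : Commute a x) (hv : ρ x v = ω • v) (h0 : v ≠ 0)
    [Module.Finite ℂ V] (h : finrank ℂ (End.eigenspace (ρ x) ω) ≤ 1) : ∃ c : ℂ, ρ a v = c • v := by
  have h1 : ρ a v ∈ End.eigenspace (ρ x) ω := End.mem_eigenspace_iff.2 (by
    rw [← End.mul_apply, ← map_mul, ← ha.eq, map_mul, End.mul_apply, hv, map_smul])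
  have h2 : (ℂ ∙ v) = End.eigenspace (ρ x) ω :=
    Submodule.eq_of_le_of_finrank_le
      ((Submodule.span_singleton_le_iff_mem _ _).2 (End.mem_eigenspace_iff.2 hv))
      (by rwa [finrank_span_singleton h0])
  obtain ⟨c, hc⟩ := Submodule.mem_span_singleton.1 (h2 ▸ h1)
  exact ⟨c, hc.symm⟩

theorem comm_le (hp : p ≠ 0) {x a b : G} {j : ℕ} (hx : x ^ p = 1) (ha : Commute a x)
    (hb : Commute b x) (hj : ((a * b * a⁻¹ * b⁻¹) ^ j) ^ p = 1)
    (h : ∀ ω : ℂ, ω ^ p = 1 → ω ≠ 1 → em p ρ.character x ω ≤ 1) :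
    finrank ℂ V ≤ em p ρ.character x 1 + em p ρ.character ((a * b * a⁻¹ * b⁻¹) ^ j) 1 := by
  obtain ⟨e, ε, h1, h2, h3⟩ := basis ρ hp hx
  rw [(h3 1 (one_pow p)).2, em_eq ρ hp hj (one_pow p)]
  have h4 := card_filter_add_card_filter_not (s := (univ : Finset (Fin (finrank ℂ V))))
    (fun i => ε i = 1)
  rw [card_univ, Fintype.card_fin] at h4
  refine h4.ge.trans (Nat.add_le_add_left (card_le_finrank e _ fun i hi => ?_) _)
  have h5 := h (ε i) (h1 i) (mem_filter.1 hi).2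
  rw [em_eq ρ hp hx (h1 i)] at h5
  obtain ⟨c, hc⟩ := scal ρ ha (h2 i) (e.ne_zero i) h5
  obtain ⟨d, hd⟩ := scal ρ hb (h2 i) (e.ne_zero i) h5
  have h6 : ρ (a * b) (e i) = ρ (b * a) (e i) := by
    simp only [map_mul, End.mul_apply, hc, hd, map_smul, smul_smul, mul_comm]
  have h7 : ρ (a * b * a⁻¹ * b⁻¹) (ρ (b * a) (e i)) = ρ (b * a) (e i) := by
    rw [← End.mul_apply, ← map_mul, ← h6]
    simp [mul_assoc]
  have h8 : ρ (b * a) (e i) = (c * d) • e i := by
    simp only [map_mul, End.mul_apply, hc, hd, map_smul, smul_smul]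
  have h9 : c * d ≠ 0 := fun h0 => e.ne_zero i (by
    rw [h0, zero_smul] at h8
    have := congrArg (ρ (b * a)⁻¹) h8
    rwa [← End.mul_apply, ← map_mul, inv_mul_cancel, map_one, End.one_apply, map_zero] at this)
  rw [h8, map_smul] at h7
  rw [End.mem_eigenspace_iff, map_pow, H29.pow_apply_of_eigen _ _ 1 (by
    rw [one_smul]; exact smul_right_injective V h9 h7), one_pow]

universe u

theorem jobEm : JobEm.{u} := by
  rintro G _ _ p hp _ ⟨n, ρ, rfl⟩
  have h0 := hp.out.ne_zero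
  rw [charDegree_rep]
  refine ⟨fun u ω hu hω => ?_, fun u hu => ?_, fun u v ω ω' hu hv hω hω' hi h1 h => ?_,
    fun x a b j hx ha hb hj h => comm_le ρ h0 hx ha hb hj h⟩
  · obtain ⟨-, ε, -, -, h3⟩ := basis ρ h0 hu
    rw [(h3 ω hω).1, (h3 ω hω).2]
  · obtain ⟨-, ε, h1, -, h3⟩ := basis ρ h0 hu
    have h4 := hp.out.pos
    rw [sum_congr rfl fun ω hω => (h3 ω ((Polynomial.mem_nthRootsFinset h4 1).1 hω)).2,
      ← card_eq_sum_card_fiberwise fun i _ => (Polynomial.mem_nthRootsFinset h4 1).2 (h1 i),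
      card_univ, Fintype.card_fin]
  · rw [em_eq ρ h0 hu hω, em_eq ρ h0 hv hω']
    exact two_gen ρ (isIrreducible_of_isIrrCharacter ρ hi) h1 h

end H44.PE
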