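import Cfsg.Agent.H1.PrSt
import Cfsg.Agent.H44.PrEm
import Cfsg.Agent.H44.Pr898

/-! `blueprints/PRIME.md`, part 2: the case of a Sylow subgroup with trivial intersections. -/

set_option autoImplicit false
set_option linter.unusedSectionVars false

namespace H44.PT

open Cfsg H28 H39 H2.PR H1.PR2 Subgroup Finset

universe u

variable {G : Type u} [Group G] [Finite G] {p : ℕ} [hp : Fact p.Prime] {χ : G → ℂ}

theorem exists_pow {x : G} {k : ℕ} (hx : x ^ p ^ k = 1) (h1 : x ≠ 1) :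
    ∃ j, x ^ j ≠ 1 ∧ (x ^ j) ^ p = 1 := by
  induction k with
  | zero => exact absurd (by simpa using hx) h1
  | succ k ih =>
    by_cases h : x ^ p ^ k = 1
    · exact ih h
    · exact ⟨p ^ k, h, by rw [← pow_mul, ← pow_succ, hx]⟩

theorem pel (Q : Sylow p G) {x : G} (hx : x ∈ (Q : Subgroup G)) : ∃ k, x ^ p ^ k = 1 := by
  obtain ⟨k, hk⟩ := Q.isPGroup' ⟨x, hx⟩
  exact ⟨k, congrArg Subtype.val hk⟩

theorem mem_smul (P : Sylow p G) (a x : G) :
    x ∈ ((a • P : Sylow p G) : Subgroup G) ↔ a⁻¹ * x * a ∈ (P : Subgroup G) :=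
  H44.P898.mem_map_conj

/-- A `p`-element commuting with a non-trivial element of a Sylow subgroup lies in it. -/
def TI (p : ℕ) (G : Type u) [Group G] : Prop :=
  ∀ (Q : Sylow p G) (x y : G) (k : ℕ), x ∈ (Q : Subgroup G) → x ≠ 1 → y ^ p ^ k = 1 →
    x * y = y * x → y ∈ (Q : Subgroup G)

theorem cen_nor {P : Sylow p G} (h : ∀ x ∈ (P : Subgroup G), x ≠ 1 →
    centralizer ({x} : Set G) ≤ Nor (P : Subgroup G)) (Q : Sylow p G) {x g : G}
    (hx : x ∈ (Q : Subgroup G)) (h1 : x ≠ 1) (hg : g * x = x * g) :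
    g ∈ Nor (Q : Subgroup G) := by
  obtain ⟨a, rfl⟩ := MulAction.exists_smul_eq G P Q
  have h2 := h _ ((mem_smul P a x).1 hx) (fun h0 => h1 (by
      rw [mul_assoc, inv_mul_eq_one] at h0; simpa using h0))
    (show a⁻¹ * g * a ∈ _ from mem_centralizer_singleton_iff.2 (by
      calc a⁻¹ * g * a * (a⁻¹ * x * a) = a⁻¹ * (g * x) * a := by group
        _ = _ := by rw [hg]; group))
  rw [mem_normalizer_iff] at h2 ⊢
  intro y
  have h3 := h2 (a⁻¹ * y * a)
  rw [mem_smul, mem_smul]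
  simpa [mul_assoc] using h3

theorem ti_of {P : Sylow p G} (h : ∀ x ∈ (P : Subgroup G), x ≠ 1 →
    centralizer ({x} : Set G) ≤ Nor (P : Subgroup G)) : TI p G := fun Q x y _ hx h1 hy hc => by
  have h2 := (zp_p hy).inf_normalizer_sylow Q
  have h3 : y ∈ zpowers y ⊓ Nor (Q : Subgroup G) := ⟨mem_zpowers y, cen_nor h Q hx h1 hc.symm⟩
  exact (h2.le h3).2

theorem TI.eq (h : TI p G) (hab : ∀ (Q : Sylow p G), ∀ a ∈ (Q : Subgroup G),
    ∀ b ∈ (Q : Subgroup G), a * b = b * a) {Q Q' : Sylow p G} {x : G}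
    (hx : x ∈ (Q : Subgroup G)) (hx' : x ∈ (Q' : Subgroup G)) (h1 : x ≠ 1) : Q = Q' :=
  Sylow.ext (Q'.is_maximal' Q.isPGroup' fun y hy => by
    obtain ⟨k, hk⟩ := pel Q' hy
    exact h Q x y k hx h1 hk (hab Q' x hx' y hy))

theorem em_add (hE : JobEm.{u}) {ψ θ : G → ℂ} (hψ : IsCharacter G ψ) (hθ : IsCharacter G θ)
    {s : G} (hs : s ^ p = 1) (hk : s ∈ charKer θ) {ω : ℂ} (hω : ω ^ p = 1) :
    em p (ψ + θ) s ω = em p ψ s ω + if ω = 1 then charDegree θ else 0 := by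
  have h1 := (hE G p _ (hψ.add hθ)).1 s ω hs hω
  have h2 := (hE G p _ hψ).1 s ω hs hω
  have h3 := H44.PE.geo hp.out.ne_zero (one_pow p) hω
  have h4 : ∀ i, θ (s ^ i) = charDegree θ := fun i => by
    rw [apply_of_mem_charKer (pow_mem hk i), hθ.cast_charDegree]
  simp only [Pi.add_apply, add_mul, sum_add_distrib, mul_add, ← h2, h4] at h1
  simp only [one_pow, one_mul] at h3
  rw [← mul_sum, mul_left_comm, h3] at h1
  by_cases h : ω = 1
  · subst h
    simp only [if_true, mul_one] at h1 ⊢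
    exact_mod_cast h1
  · rw [if_neg (Ne.symm h), mul_zero] at h1
    rw [if_neg h]
    exact_mod_cast h1

theorem star (hE : JobEm.{u}) (hS : JobSt.{u}) {P : Sylow p G} (M : Mc p P χ) (h : TI p G)
    (h2 : p ≠ 2) {X : Set G} (hX : ∀ x ∈ X, ∃ k, x ^ p ^ k = 1) (hL : closure X ≠ ⊤) {x y : G}
    (hx : x ∈ X) (hy : y ∈ X) (hxy : x * y ≠ y * x) :
    ¬ p ^ 2 ∣ Nat.card (closure X) ∧ ∀ s ∈ closure X, s ≠ 1 → s ^ p = 1 →
      (∀ ω : ℂ, ω ^ p = 1 → ω ≠ 1 → em p χ s ω ≤ 1) ∧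
        p + 2 * em p χ s 1 ≤ 2 * charDegree χ + 1 := by
  set L := closure X with hLd
  have hab := syl_comm M.irr.isCharacter M.ker M.lt
  have hχ := M.irr.isCharacter.restrict L
  have hk : charKer (fun a : L => χ a) = ⊥ := by
    rw [M.irr.isCharacter.charKer_restrict, M.ker, bot_subgroupOf]
  obtain ⟨S⟩ : Nonempty (Sylow p L) := inferInstance
  have hm : ∀ N : Subgroup L, N.Normal → (S : Subgroup L) ≤ N → ∀ z (hz : z ∈ X),
      (⟨z, subset_closure hz⟩ : L) ∈ N := fun N hN hS z hz => by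
    obtain ⟨k, hk⟩ := hX z hz
    exact pel_mem hN hS (k := k) (Subtype.ext hk)
  have hg : Gen (S : Subgroup L) := fun N hN hS z _ => by
    have h3 : L ≤ N.map L.subtype := (closure_le _).2 fun z hz => ⟨_, hm N hN hS z hz, rfl⟩
    obtain ⟨w, hw, e⟩ := h3 z.2
    rwa [show w = z from Subtype.ext e] at hw
  have hn : ¬ (S : Subgroup L).Normal := fun hN => hxy (congrArg Subtype.val
    (syl_comm hχ hk M.lt S _ (hm _ hN le_rfl x hx) _ (hm _ hN le_rfl y hy)))
  obtain ⟨ψ, θ, T⟩ := hS L p S _ hχ hk M.lt hg hn (M.sub L hL)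
  have hc : ∀ q ∈ pCore p L, q = 1 := fun q hq => by
    by_contra h1
    obtain ⟨k, hk⟩ := core_p ⟨q, hq⟩
    have hk' : (q : G) ^ p ^ k = 1 := congrArg Subtype.val (congrArg Subtype.val hk)
    obtain ⟨Q, hQ⟩ := (zp_p hk').exists_le_sylow
    have h3 : ∀ z ∈ X, z ∈ (Q : Subgroup G) := fun z hz => by
      obtain ⟨j, hj⟩ := hX z hz
      exact h Q q z j (hQ (mem_zpowers _)) (fun h0 => h1 (Subtype.ext h0)) hj (congrArg Subtype.val
        (mem_center_iff.1 (T.cen hq) ⟨z, subset_closure hz⟩).symm)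
    exact hxy (hab Q x (h3 x hx) y (h3 y hy))
  have ht : commutator L = ⊤ := eq_top_iff.2 fun g _ => by
    obtain ⟨a, ha, q, hq, e⟩ := T.sup g
    rwa [e, hc q hq, mul_one]
  refine ⟨by have := T.syl; rwa [ht, card_top] at this, fun s hs h1 h3 => ?_⟩
  have h4 : (⟨s, hs⟩ : L) ^ p = 1 := Subtype.ext h3
  have h5 : (⟨s, hs⟩ : L) ∈ commutator L := ht ▸ mem_top _
  obtain ⟨h6, h7⟩ := T.eig _ h5 (orderOf_eq_prime h4 fun h0 => h1 (congrArg Subtype.val h0))
  have h8 : ∀ ω : ℂ, ω ^ p = 1 → em p χ s ω = em p ψ ⟨s, hs⟩ ω +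
      if ω = 1 then charDegree θ else 0 := fun ω hω => by
    rw [← em_add hE T.irr.isCharacter T.chr h4 (T.ker h5) hω, ← T.add]
    rfl
  refine ⟨fun ω hω h9 => by rw [h8 ω hω, if_neg h9]; exact h6 ω hω, ?_⟩
  have h9 : charDegree χ = charDegree ψ + charDegree θ := by
    have h10 := congrFun T.add 1
    rw [Pi.add_apply, ← T.irr.cast_charDegree, ← T.chr.cast_charDegree, OneMemClass.coe_one,
      ← M.irr.cast_charDegree] at h10
    exact_mod_cast h10
  have h10 := h6 1 (one_pow p)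
  have h11 := T.big
  obtain ⟨m, hm⟩ := hp.out.odd_of_ne_two h2
  rw [h8 1 (one_pow p), if_pos rfl, h9]
  by_cases h12 : 2 * charDegree ψ + 1 = p
  · rw [h7 h12]; omega
  · omega

theorem not_normal {P : Sylow p G} (M : Mc p P χ) (Q : Sylow p G) :
    p ^ 2 ∣ Nat.card (Q : Subgroup G) ∧ ¬ (Q : Subgroup G).Normal := by
  have h1 : p ^ 2 ∣ Nat.card (Q : Subgroup G) := by
    rw [Nat.card_congr (Q.equiv P).toEquiv]; exact M.big
  refine ⟨h1, fun h => ?_⟩
  rw [le_bot_iff.1 ((le_core h Q.isPGroup').trans M.core.le), card_bot, Nat.dvd_one,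
    Nat.pow_eq_one] at h1
  have := hp.out.two_le
  omega

theorem two_le {P : Sylow p G} (M : Mc p P χ) : 2 ≤ charDegree χ := by
  by_contra h
  have h1 := M.irr.charDegree_pos
  have h2 : χ 1 = 1 := by rw [← M.irr.cast_charDegree, show charDegree χ = 1 by omega, Nat.cast_one]
  have h3 := M.irr.isCharacter.commutator_le_charKer h2
  refine (not_normal M P).2 ⟨fun n hn g => ?_⟩
  have h4 := mem_bot.1 (M.ker.le (h3 (commutator_mem_commutator (mem_top g) (mem_top n))))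
  rw [commutatorElement_def, mul_inv_eq_one] at h4
  rwa [h4]

theorem eq_of (hE : JobEm.{u}) (hS : JobSt.{u}) {P : Sylow p G} (M : Mc p P χ)
    (hN : ∀ x ∈ (P : Subgroup G), x ≠ 1 → centralizer ({x} : Set G) ≤ Nor (P : Subgroup G))
    {g : G} (hg : g ∉ center G) {Q Q' : Sylow p G} {x₀ x' : G} (hx₀ : x₀ ∈ (Q : Subgroup G))
    (hx₀1 : x₀ ≠ 1) (hx₀g : x₀ * g = g * x₀) (hx' : x' ∈ (Q' : Subgroup G)) (hx'1 : x' ≠ 1)
    (hx'g : x' * g = g * x') : Q = Q' := by
  by_contra hne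
  have h := ti_of hN
  have hab := syl_comm M.irr.isCharacter M.ker M.lt
  have hd := two_le M
  have hlt := M.lt
  have h2 : p ≠ 2 := by omega
  obtain ⟨k, hk⟩ := pel Q hx₀
  obtain ⟨i, hx1, hxp⟩ := exists_pow hk hx₀1
  have hxg : Commute g (x₀ ^ i) := (Commute.symm hx₀g).pow_right i
  have hx := pow_mem hx₀ i
  generalize x₀ ^ i = x at hx1 hxp hxg hx
  obtain ⟨k', hk'⟩ := pel Q' hx'
  have h3 : x * x' ≠ x' * x := fun e => hne (h.eq hab (h Q x x' k' hx hx1 hk' e) hx' hx'1)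
  have h4 : closure {y | y * g = g * y ∧ ∃ k, y ^ p ^ k = 1} ≠ ⊤ := fun e => hg (by
    have h5 : closure {y | y * g = g * y ∧ ∃ k, y ^ p ^ k = 1} ≤ centralizer {g} :=
      (closure_le _).2 fun y hy => mem_centralizer_singleton_iff.2 hy.1
    exact mem_center_iff.2 fun y => mem_centralizer_singleton_iff.1 (h5 (e ▸ mem_top y)))
  have hxX : x ∈ {y | y * g = g * y ∧ ∃ k, y ^ p ^ k = 1} := ⟨hxg.eq.symm, 1, by rwa [pow_one]⟩
  obtain ⟨h5, h6⟩ := star hE hS M h h2 (fun _ hy => hy.2) h4 hxX ⟨hx'g, k', hk'⟩ h3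
  obtain ⟨h7, h8⟩ := h6 x (subset_closure hxX) hx1 hxp
  obtain ⟨u, hu, hug⟩ : ∃ u ∈ (Q : Subgroup G), u * g ≠ g * u := by
    by_contra hc
    push Not at hc
    exact h5 ((not_normal M Q).1.trans (card_dvd_of_le fun u hu =>
      subset_closure ⟨hc u hu, pel Q hu⟩))
  have h9 : g * u * g⁻¹ * u⁻¹ ∈ (Q : Subgroup G) :=
    mul_mem ((mem_normalizer_iff.1 (cen_nor hN Q hx hx1 hxg.eq) u).1 hu) (inv_mem hu)
  obtain ⟨l, hl⟩ := pel Q h9
  obtain ⟨j, hw1, hwp⟩ := exists_pow hl fun e => hug (by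
    rw [mul_inv_eq_one, mul_inv_eq_iff_eq_mul] at e; exact e.symm)
  have h10 := (hE G p χ M.irr.isCharacter).2.2.2 x g u j hxp hxg (hab Q u hu x hx) hwp h7
  have hw := pow_mem h9 j
  generalize (g * u * g⁻¹ * u⁻¹) ^ j = w at hw1 hwp h10 hw
  obtain ⟨a, ha⟩ : ∃ a : G, a • Q ≠ Q := by
    by_contra hc
    push Not at hc
    exact (not_normal M Q).2 ⟨fun n hn a => by
      rw [← hc a, mem_smul]; simpa [mul_assoc] using hn⟩
  have hw' : (a * w * a⁻¹) ^ p = 1 := by rw [conj_pow, hwp]; simp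
  have h11 : w * (a * w * a⁻¹) ≠ a * w * a⁻¹ * w := fun e => ha (h.eq hab
    ((mem_smul Q a _).2 (by simpa [mul_assoc] using hw))
    (h Q w _ 1 hw hw1 (by rwa [pow_one]) e) (by simpa using hw1))
  have h12 : em p χ (a * w * a⁻¹) 1 = em p χ w 1 := by
    simp only [H2.PR.em, conj_pow, M.irr.isClassFunction.apply_conj]
  by_cases h13 : closure {w, a * w * a⁻¹} = ⊤
  · have h14 := (hE G p χ M.irr.isCharacter).2.2.1 w _ 1 1 hwp hw' (one_pow p) (one_pow p) M.irr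
      hd h13
    omega
  · have h14 := ((star hE hS M h h2 (by
      rintro _ (rfl | rfl)
      · exact ⟨1, by rwa [pow_one]⟩
      · exact ⟨1, by rwa [pow_one]⟩) h13 (Or.inl rfl) (Or.inr rfl) h11).2 w
      (subset_closure (Or.inl rfl)) hw1 hwp).2
    omega

theorem jobTI (hE : JobEm.{u}) (hS : JobSt.{u}) (h8 : Job898.{u}) : JobTI.{u} := by
  intro G _ _ p hp P χ M hN
  classical
  cases nonempty_fintype G
  have hd := two_le M
  have hlt := M.lt
  have h1 := (h8 (P : Subgroup G) (syl_comm M.irr.isCharacter M.ker M.lt P)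
    (le_bot_iff.1 (M.core ▸ le_core (N := (P : Subgroup G) ⊓ center G) ⟨fun n hn g => by
      rwa [mem_center_iff.1 hn.2 g, mul_inv_cancel_right]⟩ (P.isPGroup'.to_le inf_le_left)))
    (fun g hg a b ha hb => by
      obtain ⟨⟨x, hx1, hx2⟩, hx⟩ := ne_bot_iff_exists_ne_one.1 ha
      obtain ⟨⟨y, hy1, hy2⟩, hy⟩ := ne_bot_iff_exists_ne_one.1 hb
      exact congrArg (fun Q : Sylow p G => (Q : Subgroup G))
        (eq_of hE hS M hN hg (Q := a • P) (Q' := b • P) hx2 (fun e => hx (Subtype.ext e))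
          (mem_centralizer_singleton_iff.1 hx1) hy2 (fun e => hy (Subtype.ext e))
          (mem_centralizer_singleton_iff.1 hy1)))
    χ M.irr (by
      by_contra hc
      push Not at hc
      refine (not_normal M P).2 ⟨fun n hn g => ?_⟩
      rw [faith M.irr.isCharacter M.ker n (hc n hn)]
      simp)).2 (by
      rw [← M.irr.cast_charDegree]
      exact_mod_cast (by omega : charDegree χ ≠ 1)) fun N hN h => top_le_iff.1 (M.gen N hN h)
  rw [← M.irr.cast_charDegree, Complex.natCast_re] at h1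
  have h2 : Nat.card (P : Subgroup G) < (1 + charDegree χ) ^ 2 := by exact_mod_cast h1
  have h3 := Nat.le_of_dvd Nat.card_pos M.big
  have h4 : (1 + charDegree χ) ^ 2 < p ^ 2 := Nat.pow_lt_pow_left (by omega) two_ne_zero
  omega

theorem jobTI' (hS : JobSt.{u}) : JobTI.{u} := jobTI H44.PE.jobEm hS H44.P898.job898

end H44.PT
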