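import Cfsg.Agent.H85.DZSpec
import Cfsg.Agent.H85.FZZ
import Cfsg.Agent.H49.D8Kit

/-! DZ: the case `D ∩ Z(T) = {t, t a}` (`JobZp`).  `N(A)` permutes the four conjugates of `t`
in `A`; a Sylow subgroup of `N(A)` is Sylow in `G` and has a self-centralizing `E₈`. -/

set_option autoImplicit false
set_option linter.unusedSectionVars false
set_option synthInstance.maxSize 100000

namespace H44.DZ

open Subgroup Cfsg H14 H98 H1.Gold H31.S2 H85.FZ H49.D8 Equiv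

universe u

variable {G : Type u} [Group G] [Finite G] {t v s u a σ ρ g r x y : G} {S : Subgroup G}

theorem act (h : Half' t v s u a σ) (l : List G) :
    Act (val (a :: u :: v :: t :: l)) σ [0, 1, 2, 3] sg := by
  simp only [Act, sg, List.mem_cons, List.not_mem_nil, or_false, forall_eq_or_imp, forall_eq]
  wsimp
  exact ⟨h.σa, h.σu, h.σv, h.σt⟩

theorem norA (h : Half' t v s u a σ) : σ ∈ nor (cl [a, u, v, t]) := by
  have := Act.nor (k := 4) (act h []) (by decide)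
  rwa [H_val] at this

theorem all4 {w : List ℕ} (hw : w ∈ subs 4) : w.all (· ∈ [0, 1, 2, 3]) = true :=
  (by decide : ∀ w ∈ subs 4, w.all (· ∈ [0, 1, 2, 3]) = true) w hw

/-- Every element of `A` is conjugate under `σ` into `Z(T)`. -/
theorem orb (r : Tr t v s u a) (h : Half' t v s u a σ) (hx : x ∈ cl [a, u, v, t]) :
    ∃ w ∈ subs 4, x = W (val [a, u, v, t, s]) w ∧ ∃ c ∈ ZW, IsConj x (W (val [a, u, v, t, s]) c) ∧
      (c = [3] → w = [3]) ∧ (c = [3, 1] → w = [3, 1]) ∧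
      (c = [3, 0] → w ∈ [[3, 0], [3, 2, 1], [3, 2, 0]]) := by
  obtain ⟨w, hw, rfl⟩ := r.pres.mem_cl rfl 4 (by decide) hx
  obtain ⟨c, hc, k1, k2⟩ := (by decide +kernel : ∀ w ∈ subs 4, ∃ c ∈ ZW,
    (tbT.same w c = true ∨ tbT.same (app sg w) c = true ∨
      ((app sg w).all (· ∈ [0, 1, 2, 3]) = true ∧ tbT.same (app sg (app sg w)) c = true)) ∧
    (c = [3] → w = [3]) ∧ (c = [3, 1] → w = [3, 1]) ∧
      (c = [3, 0] → w ∈ [[3, 0], [3, 2, 1], [3, 2, 0]])) w hw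
  refine ⟨w, hw, rfl, c, hc, ?_, k2⟩
  rcases k1 with k | k | k
  · rw [r.pres.W_eq k]
  · exact isConj_iff.2 ⟨σ, ((act h [s]).w (all4 hw)).trans (r.pres.W_eq k)⟩
  · exact isConj_iff.2 ⟨σ * σ, ((act h [s]).mul (act h [s]) (all4 hw) k.1).trans (r.pres.W_eq k.2)⟩

theorem not_sq (r : Tr t v s u a) (hS : IsSyl 2 (cl [a, u, v, t, s]) (cen1 t)) (x : G)
    (hx : IsConj t (x * x)) : False := by
  obtain ⟨c, e⟩ := isConj_iff.1 hx.symm
  rw [← conj_mul] at e
  generalize c * x * c⁻¹ = y at e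
  have h4 : y ^ 2 ^ 2 = 1 := by rw [show 2 ^ 2 = 2 * 2 by rfl, pow_mul, pow_two y, e, pow_two, r.tt]
  obtain ⟨d, d1, d2⟩ := hS.exists_cj_le (isPGroup_zpowers h4)
    (zpowers_le.2 (mem_cen1.2 (by rw [← e, mul_assoc])))
  have := r.sq_T (d2 (conj_mem_cj (mem_zpowers y)))
  rw [conj_mul, e, mem_cen1.1 d1, mul_inv_cancel_right] at this
  rcases this with e | e
  · exact r.pres.ne r.ind (w := [3]) (w' := []) rfl (by simpa using e)
  · exact r.pres.ne r.ind (w := [3]) (w' := [1, 0]) rfl (by simpa using e)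

/-- The four conjugates of `t` in `A`. -/
def EW : Fin 4 → List ℕ := ![[3], [3, 0], [3, 2, 1], [3, 2, 0]]

/-- The action on `A` given by a permutation of the four conjugates. -/
def fP (π : Perm (Fin 4)) : List (ℕ × List ℕ) :=
  [(0, EW (π 0) ++ EW (π 1)), (1, EW (π 0) ++ EW (π 1) ++ EW (π 2) ++ EW (π 3)),
    (2, EW (π 1) ++ EW (π 3)), (3, EW (π 0))]

def R (l : List G) (g : G) (π : Perm (Fin 4)) : Prop :=
  ∀ i, g * W (val l) (EW i) * g⁻¹ = W (val l) (EW (π i))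

variable {l : List G} {π τ : Perm (Fin 4)}

theorem R.mul (h : R l x π) (h' : R l y τ) : R l (x * y) (π * τ) := fun i => by
  rw [Perm.mul_apply, ← h, ← h']; group

theorem R.inv (h : R l x π) : R l x⁻¹ π⁻¹ := fun i => by
  have := h (π⁻¹ i)
  rw [show π (π⁻¹ i) = i by simp] at this
  rw [← this]; group

theorem R.one : R l 1 1 := fun i => by simp

theorem R.pow (h : R l x π) (n : ℕ) : R l (x ^ n) (π ^ n) := by
  induction n with
  | zero => simpa using R.one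
  | succ n ih => rw [pow_succ, pow_succ]; exact ih.mul h

theorem e_inj (r : Tr t v s u a) {i j : Fin 4}
    (e : W (val [a, u, v, t, s]) (EW i) = W (val [a, u, v, t, s]) (EW j)) : i = j :=
  (by decide +kernel : ∀ i j, tbT.eqv (EW i) (EW j) = true → i = j) i j (r.pres.eqv r.ind e)

theorem R.eq (r : Tr t v s u a) (h : R [a, u, v, t, s] x π) (h' : R [a, u, v, t, s] x τ) : π = τ :=
  Equiv.ext fun i => e_inj r ((h i).symm.trans (h' i))

theorem R.act (r : Tr t v s u a) (h : R [a, u, v, t, s] x π) :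
    Act (val [a, u, v, t, s]) x [0, 1, 2, 3] (fP π) := by
  have e0 : a = W (val [a, u, v, t, s]) (EW 0 ++ EW 1) := by
    simpa using r.pres.W_eq (w := [0]) (w' := EW 0 ++ EW 1) (by decide)
  have e1 : u = W (val [a, u, v, t, s]) (EW 0 ++ EW 1 ++ EW 2 ++ EW 3) := by
    simpa using r.pres.W_eq (w := [1]) (w' := EW 0 ++ EW 1 ++ EW 2 ++ EW 3) (by decide)
  have e2 : v = W (val [a, u, v, t, s]) (EW 1 ++ EW 3) := by
    simpa using r.pres.W_eq (w := [2]) (w' := EW 1 ++ EW 3) (by decide)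
  have e3 : t = W (val [a, u, v, t, s]) (EW 0) := by simp [EW]
  simp only [Act, fP, List.mem_cons, List.not_mem_nil, or_false, forall_eq_or_imp, forall_eq, app,
    List.flatMap_cons, List.flatMap_nil, List.find?, Nat.reduceBEq, Option.map_some,
    Option.getD_some, List.append_nil, val_zero, val_succ, W_append, ← h _, conj_mul]
  simp only [← W_append]
  rw [← e0, ← e1, ← e2, ← e3]
  exact ⟨rfl, rfl, rfl, rfl⟩

/-- An element of a `2`-group does not act as a `3`-cycle. -/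
theorem R.no3 (r : Tr t v s u a) (hS : IsPGroup 2 S) (hx : x ∈ S) (h : R [a, u, v, t, s] x π)
    (h3 : π ^ 3 = 1) : π = 1 := by
  obtain ⟨k, hk⟩ := isPGroup_iff_forall.1 hS x hx
  have := h.pow (2 ^ k)
  rw [hk] at this
  exact (pow_eq_one_iff_of_coprime ((by decide : Nat.Coprime 3 2).pow_right k)).1
    ⟨h3, this.eq r R.one⟩

theorem R_s (r : Tr t v s u a) : R [a, u, v, t, s] s (swap 2 3) := fun i => by
  have := r.pres.conj (fun _ => rfl) (w := [4]) rfl (EW i)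
  rw [r.pres.W_eq ((by decide +kernel : ∀ i, tbT.same ([4] ++ EW i ++ [4].reverse)
    (EW (swap (2 : Fin 4) 3 i)) = true) i)] at this
  simpa using this

theorem e_mem (i : Fin 4) : W (val [a, u, v, t, s]) (EW i) ∈ cl [a, u, v, t] :=
  W_mem_cl [a, u, v, t, s] 4 ((by decide : ∀ i, (EW i).all (· < 4) = true) i)

theorem R_A (r : Tr t v s u a) (hx : x ∈ cl [a, u, v, t]) : R [a, u, v, t, s] x 1 := fun i => by
  rw [r.A_comm hx (e_mem i), mul_inv_cancel_right, Perm.one_apply]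

section Zp

variable (h : H85.DZ.Zp t v s u a σ ρ)
include h

theorem syl : IsSyl 2 (cl [a, u, v, t, s]) (cen1 t) := h.top.resolve_right fun ⟨d, hd⟩ => by
  obtain ⟨g, -, e⟩ := h.exa
  exact h.ntu (isConj_iff.2 ⟨d * g, by rw [← hd.da, ← hd.dt, conj_mul, hd.dt, ← e]; group⟩)

theorem notD {c : List ℕ} (hc : c ∈ ZW) (e : IsConj t (W (val [a, u, v, t, s]) c)) :
    c = [3] ∨ c = [3, 0] := by
  simp only [ZW, List.mem_cons, List.not_mem_nil, or_false] at hc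
  rcases hc with rfl | rfl | rfl | rfl | rfl | rfl | rfl | rfl <;>
    simp only [W_cons, W_nil, val_zero, val_succ, mul_one] at e
  · exact (not_sq h.toTr (syl h) 1 (by simpa using e)).elim
  · exact (h.na e).elim
  · exact (h.nu e).elim
  · exact (not_sq h.toTr (syl h) (v * s) (by rwa [show v * s * (v * s) = u * a by
      simpa [mul_assoc] using h.toTr.pres.W_eq (w := [2, 4, 2, 4]) (w' := [1, 0]) rfl])).elim
  · exact Or.inl rfl
  · exact Or.inr rfl
  · exact (h.ntu e).elim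
  · exact (h.ntz e).elim

theorem memA (hx : x ∈ cl [a, u, v, t]) (e : IsConj t x) :
    ∃ i, x = W (val [a, u, v, t, s]) (EW i) := by
  obtain ⟨w, -, rfl, c, hc, k, k1, -, k2⟩ := orb h.toTr h.A hx
  rcases notD h hc (e.trans k) with rfl | rfl
  · exact ⟨0, by rw [k1 rfl]; rfl⟩
  · have := k2 rfl
    simp only [List.mem_cons, List.not_mem_nil, or_false] at this
    rcases this with rfl | rfl | rfl
    exacts [⟨1, rfl⟩, ⟨2, rfl⟩, ⟨3, rfl⟩]

theorem memB (hx : x ∈ cl [u, a, s, t]) (e : IsConj t x) : x ∈ cl [a, u, v, t] := by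
  obtain ⟨w, -, rfl, c, hc, k, k1, k2, -⟩ := orb h.toTr.swap h.B hx
  obtain ⟨c', hc', k3, k4⟩ := (by decide +kernel : ∀ c ∈ ZW, ∃ c' ∈ ZW,
    tbT.same (c.map swN) c' = true ∧ (c' = [3] ∨ c' = [3, 0] → c = [3] ∨ c = [3, 1])) c hc
  have k5 : W (val [u, a, s, t, v]) c = W (val [a, u, v, t, s]) c' := by
    rw [← h.toTr.pres.W_eq k3, W, W, List.map_map]
    refine congrArg List.prod (List.map_congr_left fun r _ => ?_)
    rcases r with _ | _ | _ | _ | _ | r <;> rfl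
  rcases k4 (notD h hc' (k5 ▸ e.trans k)) with rfl | rfl
  · rw [k1 rfl]; simpa using mem_cl (by simp)
  · rw [k2 rfl]; simpa using mul_mem (mem_cl (by simp)) (mem_cl (by simp))

theorem e_conj (i : Fin 4) : IsConj t (W (val [a, u, v, t, s]) (EW i)) ∧
    σ * W (val [a, u, v, t, s]) (EW i) * σ⁻¹ =
      W (val [a, u, v, t, s]) (EW ((swap 1 2 * swap 2 3 : Perm (Fin 4)) i)) := by
  have k : ∀ i, σ * W (val [a, u, v, t, s]) (EW i) * σ⁻¹ =
      W (val [a, u, v, t, s]) (EW ((swap 1 2 * swap 2 3 : Perm (Fin 4)) i)) := fun i =>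
    ((act h.A [s]).w ((by decide : ∀ i, (EW i).all (· ∈ [0, 1, 2, 3]) = true) i)).trans
      (h.toTr.pres.W_eq ((by decide +kernel : ∀ i, tbT.same (app sg (EW i))
        (EW ((swap 1 2 * swap 2 3 : Perm (Fin 4)) i)) = true) i))
  obtain ⟨g, -, e⟩ := h.exa
  have k1 : IsConj t (W (val [a, u, v, t, s]) (EW 1)) := isConj_iff.2 ⟨g, by simpa [EW] using e⟩
  have k2 := k1.trans (isConj_iff.2 ⟨σ, k 1⟩)
  refine ⟨?_, k i⟩
  fin_cases i
  exacts [isConj_iff.2 ⟨1, by simp [EW]⟩, k1, k2, k2.trans (isConj_iff.2 ⟨σ, k 2⟩)]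

theorem exists_R (hg : g ∈ nor (cl [a, u, v, t])) : ∃ π, R [a, u, v, t, s] g π := by
  choose f hf using fun i => memA h ((mem_normalizer_iff.1 hg _).1 (e_mem (s := s) i))
    ((e_conj h i).1.trans (isConj_iff.2 ⟨g, rfl⟩))
  have hi : Function.Injective f := fun i j e => e_inj h.toTr (by
    have := (hf i).trans (e ▸ (hf j).symm)
    simpa using this)
  exact ⟨Equiv.ofBijective f (Finite.injective_iff_bijective.1 hi), hf⟩

variable (hS : IsSyl 2 S (nor (cl [a, u, v, t]))) (hT : cl [a, u, v, t, s] ≤ S)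
include hS hT

theorem mem_T (hx : x ∈ S) (e : x * t = t * x) : x ∈ cl [a, u, v, t, s] :=
  ((syl h).eq_of_le (hS.isPGroup.to_le inf_le_left) (le_inf hT (syl h).le) inf_le_right).le
    ⟨hx, mem_cen1.2 e⟩

theorem triv (hx : x ∈ S) (e : R [a, u, v, t, s] x 1) : x ∈ cl [a, u, v, t] := by
  obtain ⟨w, hw, rfl⟩ := h.toTr.pres.mem_cl rfl 5 le_rfl
    (mem_T h hS hT hx (mul_inv_eq_iff_eq_mul.1 (by simpa [EW] using e 0)))
  refine W_mem_cl [a, u, v, t, s] 4 ((by decide +kernel : ∀ w ∈ subs 5,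
    tbT.eqv (w ++ EW 2) (EW 2 ++ w) = true → w.all (· < 4) = true) w hw
    (h.toTr.pres.eqv h.toTr.ind ?_))
  rw [W_append, W_append]
  exact mul_inv_eq_iff_eq_mul.1 (e 2)

theorem trans (j : Fin 4) : ∃ r ∈ S, r * t * r⁻¹ = W (val [a, u, v, t, s]) (EW j) := by
  obtain ⟨y, π, hy, e, e4, e2⟩ : ∃ y π, y ∈ nor (cl [a, u, v, t]) ∧ R [a, u, v, t, s] y π ∧
      π ^ 4 = 1 ∧ π ^ 2 ≠ 1 := by
    obtain ⟨g, hg, e⟩ := h.exa
    obtain ⟨π, k⟩ := exists_R h hg.1.2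
    obtain ⟨i, j, k1⟩ := (by decide +kernel : ∀ π : Perm (Fin 4), π 0 = 1 → ∃ i j : Fin 3,
      (π * ((swap 1 2 * swap 2 3) ^ (i : ℕ) * swap 2 3 ^ (j : ℕ))) ^ 4 = 1 ∧
      (π * ((swap 1 2 * swap 2 3) ^ (i : ℕ) * swap 2 3 ^ (j : ℕ))) ^ 2 ≠ 1) π
      (e_inj h.toTr ((k 0).symm.trans (by simpa [EW] using e)))
    exact ⟨_, _, mul_mem hg.1.2 (mul_mem (pow_mem (norA h.A) _)
      (pow_mem (h.toTr.le_norA (mem_cl (by simp))) _)),
      k.mul ((R.pow (fun i => (e_conj h i).2) i).mul ((R_s h.toTr).pow j)), k1⟩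
  obtain ⟨k, b, hb, eb⟩ := Nat.exists_eq_two_pow_mul_odd (orderOf_pos y).ne'
  obtain ⟨c, c1, c2⟩ := hS.exists_cj_le (isPGroup_zpowers (x := y ^ b) (k := k) (by
    rw [← pow_mul, mul_comm, ← eb, pow_orderOf_eq_one])) (zpowers_le.2 (pow_mem hy b))
  obtain ⟨τ, hτ⟩ := exists_R h c1
  obtain ⟨m, rfl⟩ := hb
  obtain ⟨i, hi⟩ := (by decide +kernel : ∀ π : Perm (Fin 4), π ^ 4 = 1 → π ^ 2 ≠ 1 → ∀ j,
    ∃ i : Fin 4, (π ^ (i : ℕ)) 0 = j) (τ * π ^ (2 * m + 1) * τ⁻¹)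
    (by rw [conj_pow, ← pow_mul, mul_comm _ 4, pow_mul, e4]; simp)
    (by rwa [conj_pow, ← pow_mul, show (2 * m + 1) * 2 = 4 * m + 2 by ring, pow_add, pow_mul, e4,
      one_pow, one_mul, Ne, conj_eq_one_iff]) j
  refine ⟨_, pow_mem (c2 (conj_mem_cj (mem_zpowers _))) i, ?_⟩
  have := ((hτ.mul (e.pow (2 * m + 1))).mul hτ.inv).pow i 0
  rwa [hi, show W (val [a, u, v, t, s]) (EW 0) = t by simp [EW]] at this

theorem fus {n : G} (hn : n ∈ nor S) : ∃ r ∈ S, n * t * n⁻¹ = r * t * r⁻¹ := by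
  have hA : cl [a, u, v, t] ≤ S := (cl_mono (by simp)).trans hT
  have hx := (mem_normalizer_iff.1 hn t).1 (hT (mem_cl (by simp)))
  have x2 : n * t * n⁻¹ * (n * t * n⁻¹) = 1 := by rw [conj_mul, h.tt]; simp
  have key : ∀ c ∈ cl [a, u, v, t], ∃ i, n⁻¹ * (c * (n * t * n⁻¹) * c⁻¹) * n =
      W (val [a, u, v, t, s]) (EW i) := fun c hc => by
    obtain ⟨τ, k⟩ := exists_R h (hS.le ((mem_normalizer_iff''.1 hn c).1 (hA hc)))
    exact ⟨τ 0, by rw [← k 0]; simp [EW, mul_assoc]⟩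
  have xD : IsConj t (n * t * n⁻¹) := isConj_iff.2 ⟨n, rfl⟩
  generalize n * t * n⁻¹ = x at hx x2 key xD
  obtain ⟨π, e⟩ := exists_R h (hS.le hx)
  by_cases hf : ∃ i, π i = i
  · obtain ⟨i, hi⟩ := hf
    obtain ⟨r, r1, r2⟩ := trans h hS hT i
    have k := e i
    rw [hi, ← r2] at k
    have k1 := mem_T h hS hT (mul_mem (mul_mem (inv_mem r1) hx) r1) (by
      calc r⁻¹ * x * r * t = r⁻¹ * (x * (r * t * r⁻¹) * x⁻¹) * x * r := by group
        _ = _ := by rw [k]; group)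
    have k2 : IsConj t (r⁻¹ * x * r) := xD.trans (isConj_iff.2 ⟨r⁻¹, by simp⟩)
    obtain ⟨j, hj⟩ := memA h ((h.toTr.mem_or k1 (by
      rw [← inv_inv r, inv_inv r⁻¹, conj_mul, x2]; simp)).elim id fun k => memB h k k2) k2
    obtain ⟨r', r3, r4⟩ := trans h hS hT j
    exact ⟨r * r', mul_mem r1 r3, by
      rw [show r * r' * t * (r * r')⁻¹ = r * (r' * t * r'⁻¹) * r⁻¹ by group, r4, ← hj]; group⟩
  exfalso
  have A := e.act h.toTr
  have xi : x⁻¹ = x := inv_eq_of_mul_eq_one_right x2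
  have cj : ∀ c : List ℕ, c.all (· ∈ [0, 1, 2, 3]) = true → ∃ i, n⁻¹ *
      (W (val [a, u, v, t, s]) (c ++ app (fP π) c) * x) * n = W (val [a, u, v, t, s]) (EW i) :=
    fun c hc => by
    have hc' : W (val [a, u, v, t, s]) c ∈ cl [a, u, v, t] := W_mem_cl [a, u, v, t, s] 4
      (List.all_eq_true.2 fun r hr => by
        have := List.all_eq_true.1 hc r hr
        simp at this ⊢; omega)
    obtain ⟨i, hi⟩ := key _ hc'
    exact ⟨i, by
      rw [← hi, W_append, ← A.w hc, inv_eq_of_mul_eq_one_right (h.toTr.A_sq hc')]; group⟩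
  obtain ⟨j, k1, k2, k3, k4, k5, k6⟩ := (by decide +kernel : ∀ π : Perm (Fin 4), π * π = 1 →
    (¬ ∃ i, π i = i) → ∃ j, (EW 0 ++ app (fP π) (EW 0)).all (· ∈ [0, 1, 2, 3]) = true ∧
      (EW j).all (· ∈ [0, 1, 2, 3]) = true ∧
      tbT.same (app (fP π) (EW 0 ++ app (fP π) (EW 0)) ++ (EW j ++ app (fP π) (EW j)))
        ((EW 0 ++ EW j) ++ app (fP π) (EW 0 ++ EW j)) = true ∧
      tbT.eqv [] (EW 0 ++ app (fP π) (EW 0)) = false ∧
      tbT.eqv [] (EW j ++ app (fP π) (EW j)) = false ∧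
      tbT.eqv (EW 0 ++ app (fP π) (EW 0)) (EW j ++ app (fP π) (EW j)) = false) π
    (((e.mul e).eq h.toTr (x2 ▸ R.one))) hf
  obtain ⟨i1, e1⟩ := cj [] rfl
  obtain ⟨i2, e2⟩ := cj (EW 0) rfl
  obtain ⟨i3, e3⟩ := cj (EW j) k2
  obtain ⟨i4, e4⟩ := cj (EW 0 ++ EW j) (by rw [List.all_append, k2]; rfl)
  have k7 : W (val [a, u, v, t, s]) (EW i1 ++ EW i2 ++ EW i3) = W (val [a, u, v, t, s]) (EW i4) := by
    rw [W_append, W_append, ← e1, ← e2, ← e3, ← e4, ← h.toTr.pres.W_eq k3, W_append _ (app _ _),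
      ← A.w k1]
    simp [app, mul_assoc, xi]
  have c : ∀ {p q : G}, n⁻¹ * (p * x) * n = n⁻¹ * (q * x) * n → p = q := fun e => by simpa using e
  rcases (by decide +kernel : ∀ i j k l, tbT.eqv (EW i ++ EW j ++ EW k) (EW l) = true →
    i = j ∨ i = k ∨ j = k) _ _ _ _ (h.toTr.pres.eqv h.toTr.ind k7) with rfl | rfl | rfl
  · exact h.toTr.pres.ne h.toTr.ind k4 (c (e1.trans e2.symm))
  · exact h.toTr.pres.ne h.toTr.ind k5 (c (e1.trans e3.symm))
  · exact h.toTr.pres.ne h.toTr.ind k6 (c (e2.trans e3.symm))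

theorem top : IsSyl 2 S ⊤ := isSyl_of_isSyl_normalizer ⟨le_inf le_top le_normalizer, hS.isPGroup,
  fun Q hQ k1 k2 => le_antisymm (fun n hn => by
    obtain ⟨r, hr, e⟩ := fus h hS hT (k2 hn).2
    have e1 := (syl h).eq_of_le (hQ.to_le (inf_le_left (b := cen1 t)))
      (le_inf (hT.trans k1) (syl h).le) inf_le_right
    refine (mul_mem_cancel_left (inv_mem hr)).1 (hT (e1.le (mem_inf.2
      ⟨mul_mem (inv_mem (k1 hr)) hn, mem_cen1.2 ?_⟩)))
    calc r⁻¹ * n * t = r⁻¹ * (n * t * n⁻¹) * n := by group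
      _ = _ := by rw [e]; group) k1⟩

theorem exists_Y : ∃ Y ∈ S, Y * Y = 1 ∧ R [a, u, v, t, s] Y (swap 0 2 * swap 1 3) := by
  have hs : s ∈ S := hT (mem_cl (by simp))
  obtain ⟨Y, hY, e⟩ : ∃ Y ∈ S, R [a, u, v, t, s] Y (swap 0 2 * swap 1 3) := by
    obtain ⟨y, hy, e⟩ := trans h hS hT 2
    obtain ⟨π, k⟩ := exists_R h (hS.le hy)
    have k' := k.mul (R_s h.toTr)
    rcases (by decide +kernel : ∀ π : Perm (Fin 4), π 0 = 2 → (π ^ 3 = 1 → π = 1) →
      ((π * swap 2 3) ^ 3 = 1 → π * swap 2 3 = 1) →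
      π = swap 0 2 * swap 1 3 ∨ π * swap 2 3 = swap 0 2 * swap 1 3) π
      (e_inj h.toTr ((k 0).symm.trans (by simpa [EW] using e))) (k.no3 h.toTr hS.isPGroup hy)
      (k'.no3 h.toTr hS.isPGroup (mul_mem hy hs)) with k1 | k1
    exacts [⟨y, hy, k1 ▸ k⟩, ⟨_, mul_mem hy hs, k1 ▸ k'⟩]
  obtain ⟨w, hw, k⟩ := h.toTr.pres.mem_cl rfl 4 (by decide) (triv h hS hT (mul_mem hY hY)
    ((by decide : (swap 0 2 * swap 1 3 : Perm (Fin 4)) * (swap 0 2 * swap 1 3) = 1) ▸ e.mul e))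
  have A := e.act h.toTr
  obtain ⟨c, hc, k1⟩ := (by decide +kernel : ∀ w ∈ subs 4,
    tbT.eqv (app (fP (swap 0 2 * swap 1 3)) w) w = true →
    ∃ c ∈ subs 4, tbT.same (app (fP (swap 0 2 * swap 1 3)) c ++ w ++ c) [] = true) w hw
    (h.toTr.pres.eqv h.toTr.ind (by rw [← A.w (all4 hw), ← k]; group))
  have hc' := W_mem_cl [a, u, v, t, s] 4 (subs_lt hc)
  refine ⟨_, mul_mem hY (hT (cl_mono (by simp) hc')), ?_, by
    simpa only [mul_one] using e.mul (R_A h.toTr hc')⟩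
  rw [← W_nil (val [a, u, v, t, s]), ← h.toTr.pres.W_eq k1, W_append, W_append, ← A.w (all4 hc), ← k]
  group

end Zp

theorem jobZp : H85.DZ.JobZp.{u} := by
  intro G _ _ t v s u a σ ρ h
  have r := h.toTr
  obtain ⟨S, hS, hT⟩ := exists_isSyl_le r.isPGroup r.le_norA
  obtain ⟨Y, hY, Y2, e⟩ := exists_Y h hS hT
  have A := e.act r
  have Yu : u * Y = Y * u := (mul_inv_eq_iff_eq_mul.1 (by
    simpa using (A.w (w := [1]) rfl).trans (r.pres.W_eq (w' := [1]) (by decide +kernel)))).symm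
  have Yv : v * Y = Y * v := (mul_inv_eq_iff_eq_mul.1 (by
    simpa using (A.w (w := [2]) rfl).trans (r.pres.W_eq (w' := [2]) (by decide +kernel)))).symm
  have P : Pres (Tb.of 3 []) (val [u, v, Y]) := by
    refine ⟨fun i hi j hj => ?_, fun i hi => ?_⟩ <;> change i < 3 at hi
    · interval_cases i <;> interval_cases j <;> wsimp
      exacts [r.uv, Yu, Yv]
    · interval_cases i <;> wsimp
      exacts [r.uu, r.vv, Y2]
  have I : Ind (val [u, v, Y]) 3 := by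
    refine Ind.snoc (l := [u, v]) (Ind.snoc (l := [u]) (Ind.snoc (l := []) (fun _ k => by simp at k)
      fun k => ?_) fun k => ?_) fun k => ?_
    · exact r.pres.ne r.ind (w := [1]) (w' := []) rfl
        (by simpa using (cl_le (K := ⊥)).2 (by simp) k)
    · exact r.pres.ne r.ind (w := [2, 4]) (w' := [4, 2]) rfl (by
        simpa using mem_cen1.1 ((cl_le (K := cen1 s)).2 (by simp [mem_cen1, r.us]) k))
    · have k1 := mem_cen1.1 ((cl_le (K := cen1 t)).2 (by simp [mem_cen1, r.ut, r.vt]) k)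
      have k2 := e 0
      rw [show W (val [a, u, v, t, s]) (EW 0) = t by simp [EW], k1, mul_inv_cancel_right] at k2
      exact r.pres.ne r.ind (w := [3]) (w' := EW ((swap 0 2 * swap 1 3 : Perm (Fin 4)) 0))
        (by decide +kernel) (by rw [← k2]; simp)
  have hE : cl [u, v, Y] ≤ S := cl_le.2 (by
    simpa using ⟨hT (mem_cl (by simp)), hT (mem_cl (by simp)), hY⟩)
  have h2 : ∀ x ∈ cl [u, v, Y], x * x = 1 := fun x hx => by
    obtain ⟨w, hw, rfl⟩ := P.mem_cl rfl 3 le_rfl hx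
    rw [← W_append]
    exact P.W_eq (w' := []) ((by decide +kernel :
      ∀ w ∈ subs 3, (Tb.of 3 []).same (w ++ w) [] = true) w hw)
  have hY' : Y ∈ cen (cl [u, v, Y]) := cen_cl.2 (by simp [Yu, Yv])
  have key : ∀ x ∈ S ⊓ cen (cl [u, v, Y]), R [a, u, v, t, s] x 1 → x ∈ cl [u, v, Y] :=
    fun x hx k => by
    obtain ⟨w, hw, rfl⟩ := r.pres.mem_cl rfl 4 (by decide) (triv h hS hT hx.1 k)
    have k1 := (by decide +kernel : ∀ w ∈ subs 4,
      tbT.eqv (app (fP (swap 0 2 * swap 1 3)) w) w = true → ∀ i ∈ w, i = 1 ∨ i = 2) w hw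
      (r.pres.eqv r.ind (by
        rw [← A.w (all4 hw), mcen.1 hx.2 Y (mem_cl (by simp)), mul_inv_cancel_right]))
    exact W_mem_of fun i hi => by rcases k1 i hi with rfl | rfl <;> exact mem_cl (by simp)
  refine sce8 (top h hS hT) hE h2 (by have := P.card rfl le_rfl I; rwa [H_val] at this)
    fun x hx => ?_
  obtain ⟨π, k⟩ := exists_R h (hS.le hx.1)
  rcases (by decide +kernel : ∀ π : Perm (Fin 4), tbT.eqv (app (fP π) [2]) [2] = true →
    ((π * swap 2 3) ^ 3 = 1 → π * swap 2 3 = 1) → π = 1 ∨ π * (swap 0 2 * swap 1 3) = 1) π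
    (r.pres.eqv r.ind (by
      rw [← (k.act r).w (w := [2]) rfl]
      simpa using mul_inv_eq_iff_eq_mul.2 (mcen.1 hx.2 v (mem_cl (by simp))).symm))
    ((k.mul (R_s r)).no3 r hS.isPGroup (mul_mem hx.1 (hT (mem_cl (by simp))))) with rfl | k1
  · exact key x hx k
  · exact (mul_mem_cancel_right (mem_cl (by simp))).1
      (key _ (mul_mem hx ⟨hY, hY'⟩) (k1 ▸ k.mul e))

end H44.DZ
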