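import Cfsg.Agent.H85.DZKit

/-! DZ: fusion in `Z(T)` (`JobZ`). -/

set_option autoImplicit false
set_option linter.unusedSectionVars false

namespace H44.DZZ

open Subgroup Cfsg H14 H98 H1.Gold H31.S2 H85.FZ H49.D8 H86.FZ
open H85.DZ (hact hnorA nA_fix pair not_AB nor_or mem_N0 nor_N0 mul_N0 lc_swap Dd)

universe u

variable {G : Type u} [Group G] [Finite G] {t v s u a σ ρ g r x y n m d : G}

theorem sq_N0 (h : Tr t v s u a) (hg : g ∈ nor (cl [a, u, v, t, s])) : g * g ∈ N0 t v s u a := by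
  by_cases k : g ∈ N0 t v s u a
  exacts [mul_mem k k, mul_N0 h hg hg k k]

/-- An element of `N0` that fixes an `N(T)`-conjugate of `t` centralizes `Z(T)`. -/
theorem fix (h : Lc t v s u a σ ρ) {c : List ℕ} (hc : c ∈ ZW) (n1 : n ∈ N0 t v s u a)
    (m1 : m ∈ nor (cl [a, u, v, t, s])) (k : n * (m * t * m⁻¹) * n⁻¹ = m * t * m⁻¹) :
    n * W (val [a, u, v, t, s]) c * n⁻¹ = W (val [a, u, v, t, s]) c := by
  have k0 := (mem_normalizer_iff''.1 (nor_N0 h.toTr m1) n).1 n1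
  have k1 : m⁻¹ * n * m * t = t * (m⁻¹ * n * m) := by
    calc _ = m⁻¹ * (n * (m * t * m⁻¹) * n⁻¹) * n * m := by group
      _ = _ := by rw [k]; group
  have A : Act (val [a, u, v, t, s]) (m⁻¹ * n * m) [0, 1, 3] [] := by
    simp only [Act, List.mem_cons, List.not_mem_nil, or_false, forall_eq_or_imp, forall_eq]
    wsimp
    exact ⟨(nA_fix (lc_swap h) k1 k0.2).1, (nA_fix h k1 k0.1.2).1, mul_inv_eq_iff_eq_mul.2 k1⟩
  obtain ⟨w, hw, e⟩ := h.toTr.conj_zw (inv_mem m1) hc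
  obtain ⟨k2, k3⟩ := (by decide : ∀ w ∈ ZW, w.all (· ∈ [0, 1, 3]) = true ∧ app [] w = w) w hw
  have := A.w k2
  rw [k3, ← e] at this
  calc _ = m * (m⁻¹ * n * m * (m⁻¹ * W (val [a, u, v, t, s]) c * m⁻¹⁻¹) * (m⁻¹ * n * m)⁻¹) * m⁻¹ := by
        group
    _ = _ := by rw [this]; group

section Loc

variable (h : H85.DZ.Loc t v s u a σ ρ)
include h

theorem burnZ (hx : x ∈ cen (cl [a, u, v, t, s])) (e : IsConj t x) :
    ∃ n ∈ nor (cl [a, u, v, t, s]), n * t * n⁻¹ = x := h.burn e (le_cen1_iff.2 hx)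

/-- A 3-cycle on `Z / z` that does not normalize `⟨t, u⟩`. -/
theorem cycA (hr : r ∈ N0 t v s u a) (e : r * t * r⁻¹ = a ∧ r * u * r⁻¹ = t * u ∨
    r * u * r⁻¹ = t * a ∧ (r * t * r⁻¹ = a ∨ r * t * r⁻¹ = u)) : False := by
  obtain ⟨w, hw, et⟩ : ∃ w ∈ [[0], [1]], r * t * r⁻¹ = W (val [a, u, v, t, s]) w := by
    rcases e with ⟨e, -⟩ | ⟨-, e | e⟩ <;> simp [e]
  obtain ⟨w', hw', A, -⟩ := h.toTr.actZ hr.1.1 et
  obtain ⟨x, hx, ev⟩ := h.toTr.pres.mem_cl rfl 4 (by decide)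
    ((mem_normalizer_iff.1 hr.1.2 v).1 (mem_cl (by simp)))
  have A' : Act (val [a, u, v, t, s]) r [2, 0, 1, 3] ((2, x) :: fZ w w') := fun i hi => by
    rcases List.mem_cons.1 hi with rfl | hi
    · simpa [app] using ev
    · have := A i hi
      simp only [List.mem_cons, List.not_mem_nil, or_false] at hi
      rcases hi with rfl | rfl | rfl <;> exact this
  have eu : r * u * r⁻¹ = W (val [a, u, v, t, s]) w' := by simpa [fZ, app] using A 1 (by simp)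
  have M := (Mvs.nil.cons (m := ([0, 1, 2, 3], sg)) (hact h.A [s])).cons (m := (_, _)) A'
  obtain ⟨c, -, k1, k2⟩ := (by decide +kernel : ∀ w ∈ [[0], [1]], ∀ w' ∈ ZW, ∀ x ∈ subs 4,
    (tbT.eqv w [0] = true ∧ tbT.eqv w' [3, 1] = true ∨ tbT.eqv w' [3, 0] = true) →
    (∀ c ∈ ZW, tbT.same (app ((2, x) :: fZ w w') (2 :: c)) [] = false) →
    ∃ c ∈ [[0, 0, 1, 0], [0, 1, 0, 0], [0, 1, 0, 1, 1, 0], [0, 1, 0, 1, 0], [0, 0, 1, 0, 1, 0],
      [0, 0, 1, 0, 1, 1, 0], [0, 1, 0, 1, 1, 0, 0], [0, 1, 0, 1, 0, 0], [0, 0, 1, 0, 1, 0, 0],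
      [0, 1, 0, 0, 1, 1, 0]],
      run tbT [([2, 0, 1, 3], (2, x) :: fZ w w'), ([0, 1, 2, 3], sg)] c [3] = some [3] ∧
      ((run tbT [([2, 0, 1, 3], (2, x) :: fZ w w'), ([0, 1, 2, 3], sg)] c [1]).any
        (fun d => !tbT.eqv d [1]) = true ∨ ∃ e ∈ [[2], [1, 0]],
      (run tbT [([2, 0, 1, 3], (2, x) :: fZ w w'), ([0, 1, 2, 3], sg)] c e).any
        (fun d => !tbT.eqv d [2] && !tbT.eqv d [1, 0] && !tbT.eqv d [2, 1, 0]) = true))
    w hw w' hw' x hx (e.imp (fun e => ⟨h.toTr.pres.eqv h.toTr.ind (by rw [← et, e.1]; simp),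
      h.toTr.pres.eqv h.toTr.ind (by rw [← eu, e.2]; simp)⟩) fun e => h.toTr.pres.eqv h.toTr.ind (by rw [← eu, e.1]; simp))
    fun c hc => by
      obtain ⟨k1, k2⟩ := (by decide +kernel : ∀ c ∈ ZW, (2 :: c).all (· ∈ [2, 0, 1, 3]) = true ∧
        tbT.eqv (2 :: c) [] = false) c hc
      exact A'.inj h.toTr.pres h.toTr.ind k1 k2
  have k1 := run_eq h.toTr.pres M k1
  simp only [W_cons, W_nil, val_zero, val_succ, mul_one] at k1
  obtain ⟨f1, f2, f3⟩ := nA_fix h.toLc (mul_inv_eq_iff_eq_mul.1 k1)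
    (pr_mem (by simpa using ⟨hr.1.2, hnorA h.A⟩) c)
  rcases k2 with k2 | ⟨e, he, k2⟩ <;> obtain ⟨d, d1, d2⟩ := run_any h.toTr.pres M k2
  · exact h.toTr.pres.ne h.toTr.ind (by simpa using d1) (by rw [← d2]; simpa using f1)
  · simp only [Bool.and_eq_true, Bool.not_eq_true'] at d1
    simp only [List.mem_cons, List.not_mem_nil, or_false] at he
    have : W (val [a, u, v, t, s]) d = v ∨ W (val [a, u, v, t, s]) d = u * a ∨
        W (val [a, u, v, t, s]) d = v * (u * a) := by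
      rcases he with rfl | rfl
      · rw [← d2]; simpa using f2
      · rw [← d2]; simpa using f3
    rcases this with k | k | k
    exacts [h.toTr.pres.ne h.toTr.ind d1.1.1 (by simpa using k), h.toTr.pres.ne h.toTr.ind d1.1.2 (by simpa using k),
      h.toTr.pres.ne h.toTr.ind d1.2 (by simpa using k)]

/-- The class of `t` does not meet all three cosets of `z`. -/
theorem no3 (h1 : IsConj t (t * a) ∨ IsConj t (t * u)) (h2 : IsConj t a ∨ IsConj t u) : False := by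
  have k : ∀ L : List (List ℕ), (∀ w ∈ L, w ∈ ZW) → (∃ w ∈ L, IsConj t (W (val [a, u, v, t, s]) w)) →
      ∃ n ∈ nor (cl [a, u, v, t, s]), ∃ w ∈ L, ∃ w' ∈ ZW,
        Act (val [a, u, v, t, s]) n [0, 1, 3] (fZ w w') ∧
        ∀ c ∈ ZW, c ≠ [] → tbT.same (app (fZ w w') c) [] = false := fun L hL ⟨w, hw, e⟩ => by
    obtain ⟨n, n1, n2⟩ := burnZ h (h.toTr.zw_mem (hL w hw)) e
    exact ⟨n, n1, w, hw, h.toTr.actZ n1 n2⟩
  obtain ⟨n, n1, w₁, hw₁, w₂, hw₂, A, i⟩ := k [[3, 0], [3, 1]] (by decide) (by simpa using h1)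
  obtain ⟨m, m1, w₃, hw₃, w₄, hw₄, A', i'⟩ := k [[0], [1]] (by decide) (by simpa using h2)
  have M := (Mvs.nil.cons (m := (_, _)) A').cons (m := (_, _)) A
  obtain ⟨c, -, x, hx, y, hy, k1, k2⟩ := (by decide +kernel : ∀ w₁ ∈ [[3, 0], [3, 1]], ∀ w₂ ∈ ZW,
    (∀ c ∈ ZW, c ≠ [] → tbT.same (app (fZ w₁ w₂) c) [] = false) → ∀ w₃ ∈ [[0], [1]], ∀ w₄ ∈ ZW,
    (∀ c ∈ ZW, c ≠ [] → tbT.same (app (fZ w₃ w₄) c) [] = false) →
    ∃ c ∈ [[1, 1], [0], [0, 1]], ∃ x ∈ [[0], [1]], ∃ y ∈ [[3, 0], [3, 1]],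
      run tbT [([0, 1, 3], fZ w₁ w₂), ([0, 1, 3], fZ w₃ w₄)] (c ++ c) [3] = some x ∧
      run tbT [([0, 1, 3], fZ w₁ w₂), ([0, 1, 3], fZ w₃ w₄)] (c ++ c) [1] = some y)
    w₁ hw₁ w₂ hw₂ i w₃ hw₃ w₄ hw₄ i'
  have k1 := run_eq h.toTr.pres M k1
  have k2 := run_eq h.toTr.pres M k2
  have hr := sq_N0 h.toTr (pr_mem (l := [n, m]) (by simpa using ⟨n1, m1⟩) c)
  rw [← pr_append] at hr
  generalize pr (val [n, m]) (c ++ c) = r at k1 k2 hr
  simp only [List.mem_cons, List.not_mem_nil, or_false] at hx hy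
  rcases hx with rfl | rfl <;> rcases hy with rfl | rfl <;>
    simp only [W_cons, W_nil, val_zero, val_succ, mul_one] at k1 k2
  · exact cycA h hr (Or.inr ⟨k2, Or.inl k1⟩)
  · exact cycA h hr (Or.inl ⟨k1, k2⟩)
  · exact cycA h hr (Or.inr ⟨k2, Or.inr k1⟩)
  · refine cycA h.swap (N0_swap t v s u a ▸ hr) (Or.inl ⟨k1, ?_⟩)
    have := h.toTr.gz hr.1.1
    rw [← conj_mul, k2] at this
    rw [← mul_right_inj (t * u), this]
    simpa [mul_assoc] using h.toTr.pres.W_eq (w := [1, 0]) (w' := [3, 1, 3, 0]) rfl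

end Loc

/-! ### The relabelling `(u, a) ↦ (t u, t a)` -/

theorem half_rel (h : Half' t v s u a σ) (r : Tr t v s u a) : Half' t v s (t * u) (t * a) σ := by
  have e := cl_rel (t := t) (a := a) (u := u) [v] [s]
  have e' := cl_rel (t := t) (a := a) (u := u) [v] []
  simp only [List.cons_append, List.nil_append] at e e'
  exact ⟨h.σt, by rw [← conj_mul, h.σt, h.σu], by
    rw [← conj_mul, h.σt, h.σa, ← mul_assoc, ← r.vt, mul_assoc], r.zrel ▸ h.σv,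
    by rw [e, e']; exact h.syl, by rw [e', r.zrel]; exact h.nV⟩

theorem loc_rel (h : H85.DZ.Loc t v s u a σ ρ) : H85.DZ.Loc t v s (t * u) (t * a) σ ρ := by
  have e := cl_rel (t := t) (a := a) (u := u) [v] [s]
  simp only [List.cons_append, List.nil_append] at e
  refine ⟨⟨h.toTr.rel, half_rel h.A h.toTr, half_rel h.B h.toTr.swap⟩,
    h.top.imp (fun k => e ▸ k) fun ⟨d, k⟩ => ⟨d, k.dt, k.dv, k.ds, by rw [← conj_mul, k.dt, k.da],
      by rw [← conj_mul, k.dt, k.du], k.dd, ?_, e ▸ k.psi⟩⟩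
  have e' := cl_rel (t := t) (a := a) (u := u) [v] [s, d]
  simp only [List.cons_append, List.nil_append] at e'
  exact e' ▸ k.syl

section Base

variable (h : H85.DZ.Base t v s u a σ ρ)
include h

/-- An element with `t ↦ t z` that maps `B` to `A`. -/
theorem swapA (hS : IsSyl 2 (cl [a, u, v, t, s]) (cen1 t)) (hg : g ∈ nor (cl [a, u, v, t, s])) (e : g * t * g⁻¹ = t * (u * a))
    (k : cj g (cl [u, a, s, t]) = cl [a, u, v, t]) : ∃ n ∈ N0 t v s u a, n * t * n⁻¹ = t * a := by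
  have nA : g * ρ * g⁻¹ ∈ nor (cl [a, u, v, t]) := by
    rw [← k, nor, ← cj_normalizer]; exact conj_mem_cj (hnorA h.B)
  obtain ⟨w, hw, ew⟩ := h.toTr.pres.mem_cl rfl 4 (by decide) (k.le (conj_mem_cj (mem_cl (y := s) (by simp))))
  have e1 : g * (t * (u * a)) * g⁻¹ = t := by
    rw [← conj_mul, e, h.toTr.gz hg, mul_assoc, show u * a * (u * a) = 1 by
      simpa [mul_assoc] using h.toTr.pres.W_eq (w := [1, 0, 1, 0]) (w' := []) rfl, mul_one]
  have e2 : g * ρ * g⁻¹ * t * (g * ρ * g⁻¹)⁻¹ = W (val [a, u, v, t, s]) ([3, 1, 0] ++ w) := by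
    have : ρ * (u * a) * ρ⁻¹ = s := by
      rw [← conj_mul, h.B.σa, h.B.σu, mul_assoc, h.aa, mul_one]
    rw [W_append, ← ew, ← this]
    wsimp
    rw [← e, conj_mul, ← h.B.σt, conj_mul, h.B.σt]
    nth_rw 1 [← e1]
    group
  have M := (Mvs.nil (x := val [a, u, v, t, s])).cons (m := ([0, 1, 2, 3], sg)) (hact h.A [s])
  obtain ⟨c, -, d, hd, k1⟩ := (by decide +kernel : ∀ w ∈ subs 4, (∀ c ∈ ZW, tbT.same w c = false) →
    ∃ c ∈ [[0], [0, 0]], ∃ d ∈ [[1, 0], [0], [3, 1, 0], [3, 0]],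
      run tbT [([0, 1, 2, 3], sg)] c ([3, 1, 0] ++ w) = some d) w hw fun c hc => by
    by_contra k
    have := conj_mem_cen (inv_mem hg) (h.toTr.zw_mem hc)
    rw [← h.toTr.pres.W_eq (Bool.of_not_eq_false k), ← ew] at this
    exact h.toTr.pres.ne h.toTr.ind (w := [4, 2]) (w' := [2, 4]) rfl
      (by simpa [mul_assoc] using mem_cen_iff.1 this v (mem_cl (by simp)))
  have k1 := run_eq h.toTr.pres M k1
  have mA := mul_mem (pr_mem (l := [σ]) (by simpa using hnorA h.A) c) nA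
  rw [← e2, show ∀ a b t : G, a * (b * t * b⁻¹) * a⁻¹ = a * b * t * (a * b)⁻¹ from fun _ _ _ => by
    group] at k1
  generalize pr (val [σ]) c * (g * ρ * g⁻¹) = m at k1 mA
  simp only [List.mem_cons, List.not_mem_nil, or_false] at hd
  rcases hd with rfl | rfl | rfl | rfl <;> simp only [W_cons, W_nil, val_zero, val_succ, mul_one] at k1
  · exact (h.nz (isConj_iff.2 ⟨m, k1⟩)).elim
  · exact (h.na (isConj_iff.2 ⟨m, k1⟩)).elim
  · refine (not_AB h.toLc hS (g := m⁻¹ * g) ?_ (by rw [← cj_cj, k, cj_eq_self (inv_mem mA)])).elim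
    calc m⁻¹ * g * t = m⁻¹ * (g * t * g⁻¹) * g := by group
      _ = _ := by rw [e, ← k1]; group
  · exact k1 ▸ pair h.toLc mA (le_cen1_iff.2 (by simpa [k1] using h.toTr.zw_mem (w := [3, 0]) (by decide)))

/-- The wide case from one element of `N(A)`. -/
theorem wid (hy : y ∈ N0 t v s u a) (e : y * t * y⁻¹ = t * (u * a)) (hg : g ∈ nor (cl [a, u, v, t]))
    (k : g * t * g⁻¹ = t * u ∨ g * t * g⁻¹ = t * a) : H85.DZ.Wid t v s u a σ ρ := by
  have c : ∀ n ∈ N0 t v s u a, n * y * t * (n * y)⁻¹ = n * t * n⁻¹ * (u * a) := fun n hn => by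
    rw [← h.toTr.gz hn.1.1, conj_mul, ← e]; group
  rcases k with k | k
  · obtain ⟨n, n1, n2⟩ := pair h.toLc hg
      (le_cen1_iff.2 (by simpa [k] using h.toTr.zw_mem (w := [3, 1]) (by decide)))
    exact ⟨h, ⟨n, n1, n2.trans k⟩, _, mul_mem n1 hy, by
      rw [c n n1, n2, k, mul_assoc, ← mul_assoc u, h.uu, one_mul]⟩
  · obtain ⟨n, n1, n2⟩ := pair h.toLc hg
      (le_cen1_iff.2 (by simpa [k] using h.toTr.zw_mem (w := [3, 0]) (by decide)))
    exact ⟨h, ⟨_, mul_mem n1 hy, by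
      rw [c n n1, n2, k, mul_assoc, ← mul_assoc a, h.au, mul_assoc u, h.aa, mul_one]⟩, n, n1, n2.trans k⟩

theorem exists_y (e : IsConj t (t * (u * a))) :
    (∃ y ∈ N0 t v s u a, y * t * y⁻¹ = t * (u * a)) ∨ H85.DZ.Wid t v s u a σ ρ := by
  obtain ⟨y, y1, e⟩ := burnZ h.toLoc (by simpa using h.toTr.zw_mem (w := [3, 1, 0]) (by decide)) e
  by_cases hy : y ∈ N0 t v s u a
  · exact Or.inl ⟨y, hy, e⟩
  have k := (nor_or h.toTr y1).resolve_left hy
  rcases h.top with hS | ⟨d, hd⟩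
  · exact Or.inr ⟨h, N0_swap t v s u a ▸ swapA h.swap (by rwa [cl_swap]) (by rwa [cl_swap])
      (h.au ▸ e) k.1, swapA h hS y1 e k.2⟩
  · exact Or.inl ⟨y * d, mul_N0 h.toTr y1 hd.norT hy fun k => hd.not_norA h.toTr k.1.2, by
      rw [← e, show y * d * t * (y * d)⁻¹ = y * (d * t * d⁻¹) * y⁻¹ by group, hd.dt]⟩

theorem main (e : IsConj t (t * (u * a))) :
    ∃ u a, (H85.DZ.Nar t v s u a σ ρ ∧ ∃ y ∈ N0 t v s u a, y * t * y⁻¹ = t * (u * a) ∧ y * u = u * y) ∨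
      H85.DZ.Wid t v s u a σ ρ := by
  obtain ⟨y, hy, e⟩ | hW := exists_y h e
  swap
  · exact ⟨u, a, Or.inr hW⟩
  have y1 := hy.1.1
  by_cases hW : H85.DZ.Wid t v s u a σ ρ
  · exact ⟨u, a, Or.inr hW⟩
  obtain ⟨w, hw, A, i⟩ := h.toTr.actZ y1 (w := [3, 1, 0]) (by simpa using e)
  have M := (Mvs.nil (x := val [a, u, v, t, s])).cons (m := (_, _)) A
  have eu : y * u * y⁻¹ = W (val [a, u, v, t, s]) w := by simpa [fZ, app] using A 1 (by simp)
  have r2 := fun c d k => run_eq h.toTr.pres M (c := [0, 0]) (w := c) (w' := d) k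
  have : w = [1] ∨ w = [0] := (by decide +kernel : ∀ w ∈ ZW,
      (∀ c ∈ ZW, c ≠ [] → tbT.same (app (fZ [3, 1, 0] w) c) [] = false) →
      run tbT [([0, 1, 3], fZ [3, 1, 0] w)] [0, 0] [3] = some [3] ∧
      (w = [1] ∨ w = [0] ∨ run tbT [([0, 1, 3], fZ [3, 1, 0] w)] [0, 0] [1] = some [0])) w hw i |>
    fun k => k.2.imp_right (Or.resolve_right · fun k' => h.toTr.pres.ne h.toTr.ind (w := [0])
      (w' := [1]) rfl ((r2 _ _ k').symm.trans (fix h.toLc (c := [1]) (by decide)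
        (pr_mem (l := [y]) (by simpa using hy) _) (one_mem _) (by simpa using r2 _ _ k.1))))
  rcases this with rfl | rfl
  · exact ⟨u, a, Or.inl ⟨⟨h, fun g hg => not_or.1 fun k => hW (wid h hy e hg k), fun g hg =>
      not_or.1 fun k => hW (wid h.swap (N0_swap t v s u a ▸ hy) (h.au ▸ e) hg k.symm).swap⟩,
      y, hy, e, mul_inv_eq_iff_eq_mul.1 (by simpa using eu)⟩⟩
  have nD : ∀ c ∈ [[3, 1], [3, 0]], y * W (val [a, u, v, t, s]) c * y⁻¹ = W (val [a, u, v, t, s]) c ∧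
      ¬ IsConj t (W (val [a, u, v, t, s]) c) := fun c hc => by
    obtain ⟨k1, k2, k3⟩ := (by decide +kernel : ∀ c ∈ [[3, 1], [3, 0]], c ∈ ZW ∧
      c.all (· ∈ [0, 1, 3]) = true ∧ tbT.same (app (fZ [3, 1, 0] [0]) c) c = true) c hc
    have k := (A.w k2).trans (h.toTr.pres.W_eq k3)
    refine ⟨k, fun e' => ?_⟩
    obtain ⟨m, m1, m2⟩ := burnZ h.toLoc (h.toTr.zw_mem k1) e'
    exact h.toTr.pres.ne h.toTr.ind (w := [3, 1, 0]) (w' := [3]) rfl
      (by simpa [e] using fix h.toLc (c := [3]) (by decide) hy m1 (m2 ▸ k))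
  have n1 := nD [3, 1] (by simp)
  have n2 := nD [3, 0] (by simp)
  simp only [W_cons, W_nil, val_zero, val_succ, mul_one] at n1 n2
  have nar : ∀ g : G, g * t * g⁻¹ ≠ t * (t * u) ∧ g * t * g⁻¹ ≠ t * (t * a) := fun g => by
    rw [← mul_assoc t, ← mul_assoc t, h.tt, one_mul, one_mul]
    exact ⟨fun k => h.nu (isConj_iff.2 ⟨g, k⟩), fun k => h.na (isConj_iff.2 ⟨g, k⟩)⟩
  exact ⟨t * u, t * a, Or.inl ⟨⟨⟨loc_rel h.toLoc, n1.2, n2.2⟩, fun g _ => nar g,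
    fun g _ => nar g⟩, y, N0_rel t v s u a ▸ hy, h.toTr.zrel ▸ e, mul_inv_eq_iff_eq_mul.1 n1.1⟩⟩

theorem not_conj (k : ¬ IsConj t (t * (u * a))) {c : List ℕ}
    (hc : c ∈ [[], [0], [1], [1, 0], [3, 1, 0]]) : ¬ IsConj t (W (val [a, u, v, t, s]) c) := by
  simp only [List.mem_cons, List.not_mem_nil, or_false] at hc
  rcases hc with rfl | rfl | rfl | rfl | rfl <;>
    simp only [W_cons, W_nil, val_zero, val_succ, mul_one]
  exacts [h.ne_one, h.na, h.nu, h.nz, k]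

theorem zp (k : ¬ IsConj t (t * (u * a))) (n1 : n ∈ nor (cl [a, u, v, t, s]))
    (e : n * t * n⁻¹ = t * a) : H85.DZ.Zp t v s u a σ ρ := by
  have ea : IsConj t (t * a) := isConj_iff.2 ⟨n, e⟩
  have ntu : ¬ IsConj t (t * u) := fun eu => by
    obtain ⟨w, hw, A, i⟩ := h.toTr.actZ n1 (w := [3, 0]) (by simpa using e)
    obtain ⟨c, hc, c', hc', k1, k2⟩ := (by decide +kernel : ∀ w ∈ ZW,
      (∀ c ∈ ZW, c ≠ [] → tbT.same (app (fZ [3, 0] w) c) [] = false) → ∃ c ∈ [[3, 0], [3, 1]],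
        ∃ c' ∈ [[], [0], [1], [1, 0], [3, 1, 0]], c.all (· ∈ [0, 1, 3]) = true ∧
          tbT.same (app (fZ [3, 0] w) c) c' = true) w hw i
    refine not_conj h k hc' (IsConj.trans ?_ (isConj_iff.2 ⟨n, (A.w k1).trans (h.toTr.pres.W_eq k2)⟩))
    simp only [List.mem_cons, List.not_mem_nil, or_false] at hc
    rcases hc with rfl | rfl
    · simpa only [W_cons, W_nil, val_zero, val_succ, mul_one] using ea
    · simpa only [W_cons, W_nil, val_zero, val_succ, mul_one] using eu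
  refine ⟨h, k, ntu, n, (nor_or h.toTr n1).resolve_right fun sw => ?_, e⟩
  obtain ⟨w, hw, A, i⟩ := h.toTr.actZ n1 (w := [3, 0]) (by simpa using e)
  have c := ea.trans (isConj_iff.2 ⟨n, (by simpa using A.w (w := [3, 0]) rfl :
    n * (t * a) * n⁻¹ = W (val [a, u, v, t, s]) (app (fZ [3, 0] w) [3, 0]))⟩)
  rcases (by decide +kernel : ∀ w ∈ ZW,
      (∀ c ∈ ZW, c ≠ [] → tbT.same (app (fZ [3, 0] w) c) [] = false) →
      tbT.same (app (fZ [3, 0] w) [0]) [0] = true ∨ tbT.same (app (fZ [3, 0] w) [3, 0]) [3, 1] = true ∨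
        ∃ c' ∈ [[], [0], [1], [1, 0], [3, 1, 0]], tbT.same (app (fZ [3, 0] w) [3, 0]) c' = true)
      w hw i with k1 | k1 | ⟨c', hc', k1⟩
  · have na : n * a * n⁻¹ = a := by simpa using (A.w (w := [0]) rfl).trans (h.toTr.pres.W_eq k1)
    have nA : n * ρ * n⁻¹ ∈ nor (cl [a, u, v, t]) := by
      rw [← sw.2, nor, ← cj_normalizer]; exact conj_mem_cj (hnorA h.B)
    have c : ∀ x : G, ρ * x * ρ⁻¹ = x ↔
        n * ρ * n⁻¹ * (n * x * n⁻¹) * (n * ρ * n⁻¹)⁻¹ = n * x * n⁻¹ := fun x => by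
      rw [show n * ρ * n⁻¹ * (n * x * n⁻¹) * (n * ρ * n⁻¹)⁻¹ = n * (ρ * x * ρ⁻¹) * n⁻¹ by group]
      simp
    have c1 := (c t).1 h.B.σt
    have c2 := (c a).1 h.B.σu
    rw [na] at c2
    rw [e, ← conj_mul, c2, mul_left_inj] at c1
    have c3 := (nA_fix h.toLc (mul_inv_eq_iff_eq_mul.1 c1) nA).1
    have c4 := (c (u * a)).2 (by rw [h.toTr.gz n1, ← conj_mul, c2, c3])
    rw [← conj_mul, h.B.σa, h.B.σu, mul_left_inj] at c4
    exact h.toTr.pres.ne h.toTr.ind (w := [4, 0]) (w' := [1]) rfl (by simpa using c4)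
  · rw [h.toTr.pres.W_eq k1] at c
    exact ntu (by simpa only [W_cons, W_nil, val_zero, val_succ, mul_one] using c)
  · exact not_conj h k hc' (h.toTr.pres.W_eq k1 ▸ c)

theorem base (n1 : n ∈ nor (cl [a, u, v, t, s])) (e : n * t * n⁻¹ ≠ t) : ∃ u a,
    (H85.DZ.Nar t v s u a σ ρ ∧ ∃ y ∈ N0 t v s u a, y * t * y⁻¹ = t * (u * a) ∧ y * u = u * y) ∨
      H85.DZ.Wid t v s u a σ ρ ∨ H85.DZ.Zp t v s u a σ ρ ∨ H85.DZ.Zp t s v a u ρ σ := by
  by_cases k : IsConj t (t * (u * a))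
  · obtain ⟨u, a, k⟩ := main h k
    exact ⟨u, a, k.imp_right Or.inl⟩
  obtain ⟨w, hw, ew⟩ := h.toTr.conj_zw n1 (c := [3]) (by decide)
  simp only [W_cons, W_nil, val_zero, val_succ, mul_one] at ew
  rcases (by decide : ∀ w ∈ ZW, w ∈ [[], [0], [1], [1, 0], [3, 1, 0]] ∨ w = [3] ∨ w = [3, 0] ∨
    w = [3, 1]) w hw with k1 | rfl | rfl | rfl
  · exact (not_conj h k k1 (isConj_iff.2 ⟨n, ew⟩)).elim
  · exact (e (by simpa using ew)).elim
  · exact ⟨u, a, Or.inr (Or.inr (Or.inl (zp h k n1 (by simpa using ew))))⟩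
  · exact ⟨u, a, Or.inr (Or.inr (Or.inr (zp h.swap (h.au ▸ k) (by rwa [cl_swap])
      (by simpa using ew))))⟩

end Base

theorem jobZ : H85.DZ.JobZ.{u} := by
  intro G _ _ t v s u a σ ρ h ⟨n, n1, e⟩
  by_cases k : IsConj t a ∨ IsConj t u
  · have k' := not_or.1 fun k' => no3 h k' k
    have e' := cl_rel (t := t) (a := a) (u := u) [v] [s]
    simp only [List.cons_append, List.nil_append] at e'
    exact base ⟨loc_rel h, k'.2, k'.1⟩ (e' ▸ n1) e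
  · exact base ⟨h, (not_or.1 k).2, (not_or.1 k).1⟩ n1 e

end H44.DZZ
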