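import Cfsg.Agent.H44.WdK0
import Cfsg.Agent.H44.WdK1
import Cfsg.Agent.H44.WdK2
import Cfsg.Agent.H44.WdK3
import Cfsg.Agent.H44.WdK4

/-! DZ, branch WD. -/

namespace H44.WD

universe u

theorem jobWD : H85.DZ.JobWD.{u} := jobWD_of
  (fun k l => by cases k <;> cases l; exacts [k00, k01, k02, k03]) fun k l b hb => by
    simp only [List.mem_cons, List.not_mem_nil, or_false] at hb
    cases k <;> cases l <;> rcases hb with rfl | rfl
    exacts [k14, k15, k10, k11, k12, k13, k16, k17]

end H44.WD
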