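import Cfsg.Agent.Base

/-! A sieve for the orders of simple groups, part 1: the arithmetic tests. -/

set_option autoImplicit false

namespace H44.Sv

def primes : List ℕ := [2, 3, 5, 7, 11, 13, 17, 19, 23, 29, 31, 37, 41, 43, 47, 53, 59, 61, 67, 71, 73, 79, 83, 89, 97, 101, 103, 107, 109, 113, 127, 131, 137, 139, 149, 151, 157, 163, 167, 173, 179, 181, 191, 193, 197, 199, 211, 223, 227, 229, 233, 239, 241, 251, 257, 263, 269, 271, 277, 281, 283, 293, 307, 311, 313, 317, 331, 337, 347, 349, 353, 359, 367, 373, 379, 383, 389]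

def sp : List ℕ := [2, 3, 5, 7, 11, 13, 17]

theorem prime_of_mem : ∀ p ∈ primes, p.Prime := by
  simp only [primes, List.mem_cons, List.not_mem_nil, or_false, forall_eq_or_imp, forall_eq]
  norm_num

theorem sp_sub : ∀ p ∈ sp, p ∈ primes := by decide

def divs (n : ℕ) : List ℕ :=
  ((List.range 80).filter fun d => n % d == 0 && d * d ≤ n).flatMap fun d => [d, n / d]

theorem mem_divs {n d : ℕ} (h0 : 0 < n) (hn : n < 6400) (h : d ∣ n) : d ∈ divs n := by
  obtain ⟨k, rfl⟩ := h
  have hd : 0 < d := Nat.pos_of_mul_pos_right h0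
  have hk : 0 < k := Nat.pos_of_mul_pos_left h0
  simp only [divs, List.mem_flatMap, List.mem_filter, List.mem_range, Bool.and_eq_true,
    beq_iff_eq, decide_eq_true_eq, List.mem_cons, List.not_mem_nil, or_false]
  rcases le_total d k with h | h
  · exact ⟨d, ⟨by nlinarith, by simp, Nat.mul_le_mul_left _ h⟩, Or.inl rfl⟩
  · exact ⟨k, ⟨by nlinarith, by simp, Nat.mul_le_mul_right _ h⟩,
      Or.inr (Nat.mul_div_cancel _ hk).symm⟩

def sylOK (n d : ℕ) : Bool := 40 ≤ d || d.factorial % (2 * n) == 0

theorem sylOK_of {n d : ℕ} (h : 2 * n ∣ d.factorial) : sylOK n d = true := by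
  simp [sylOK, Nat.mod_eq_zero_of_dvd h]

/-- The multisets of size `k` with elements from a list. -/
def combos : List ℤ → ℕ → List (List ℤ)
  | [], k => if k = 0 then [[]] else []
  | a :: as, k => (List.range (k + 1)).flatMap fun j =>
      (combos as (k - j)).map (List.replicate j a ++ ·)

theorem exists_combo {α : Type*} (f : α → ℤ) : ∀ (xs : List ℤ) (l : List α),
    (∀ a ∈ l, f a ∈ xs) → ∃ l' : List α, l'.Perm l ∧ l'.map f ∈ combos xs l.length
  | [], l, h => by
    obtain rfl : l = [] := List.eq_nil_iff_forall_not_mem.2 fun a ha => by simpa using h a ha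
    exact ⟨[], .refl _, by simp [combos]⟩
  | x :: xs, l, h => by
    obtain ⟨l', h1, h2⟩ := exists_combo f xs (l.filter fun a => !(f a == x)) fun a ha => by
      rw [List.mem_filter] at ha
      exact (List.mem_cons.1 (h a ha.1)).resolve_left (by simpa using ha.2)
    have h3 := List.filter_append_perm (fun a => f a == x) l
    have h4 := h3.length_eq
    rw [List.length_append] at h4
    refine ⟨l.filter (fun a => f a == x) ++ l', (h1.append_left _).trans h3, ?_⟩
    simp only [combos, List.mem_flatMap, List.mem_range, List.mem_map]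
    refine ⟨(l.filter fun a => f a == x).length, by omega, l'.map f, by
      rwa [← h4, Nat.add_sub_cancel_left], ?_⟩
    rw [List.map_append]
    congr 1
    symm
    rw [List.eq_replicate_iff]
    refine ⟨List.length_map _, fun b hb => ?_⟩
    obtain ⟨a, ha, rfl⟩ := List.mem_map.1 hb
    simpa using (List.mem_filter.1 ha).2

def ispw (q : ℕ) (d : ℤ) : Bool := (List.range 13).any fun i => d.natAbs == q ^ i

theorem exists_of_ispw {q : ℕ} {d : ℤ} (h : ispw q d = true) : ∃ i, d.natAbs = q ^ i := by
  simp only [ispw, List.any_eq_true, beq_iff_eq] at h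
  exact h.imp fun _ h => h.2

/-- The sums over the sublists that avoid the powers of `q`. -/
def subs (q : ℕ) : List ℤ → List ℤ
  | [] => [0]
  | a :: l => subs q l ++ if ispw q a then [] else (subs q l).map (a + ·)

theorem mem_subs {α : Type*} (f : α → ℤ) (q : ℕ) (B : α → Bool) : ∀ l : List α,
    (∀ a ∈ l, B a = true → ispw q (f a) = false) → ((l.filter B).map f).sum ∈ subs q (l.map f)
  | [], _ => by simp [subs]
  | a :: l, h => by
    have h1 := mem_subs f q B l fun b hb => h b (List.mem_cons_of_mem _ hb)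
    by_cases ha : B a = true
    · simp only [List.filter_cons, ha, List.map_cons, subs, h a List.mem_cons_self ha]
      simp [h1]
    · simp only [List.filter_cons, ha, List.map_cons, subs]
      simp [h1]

def bt (n e t : ℕ) (L : List ℤ) (y : ℤ) : Bool :=
  sp.all fun q =>
    !(n % (q ^ ((List.range 13).countP fun i => n % (q ^ (i + 1) * e) == 0) * e) == 0) ||
      (subs q L).any fun s => (List.range (t + 1)).any fun k => (k == 0 || !ispw q y) &&
        ((t : ℤ) * (1 + s) - k * y) %
          (q : ℤ) ^ ((List.range 13).countP fun i => n % (q ^ (i + 1) * e) == 0) == 0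

theorem bt_of {n e t : ℕ} {L : List ℤ} {y : ℤ} (h : ∀ q f : ℕ, q.Prime → q ^ f * e ∣ n →
    ∃ s ∈ subs q L, ∃ k ≤ t, (k = 0 ∨ ispw q y = false) ∧ (q : ℤ) ^ f ∣ t * (1 + s) - k * y) :
    bt n e t L y = true := by
  simp only [bt, List.all_eq_true, Bool.or_eq_true, Bool.not_eq_eq_eq_not, Bool.not_true,
    beq_eq_false_iff_ne, List.any_eq_true, List.mem_range, Bool.and_eq_true, beq_iff_eq]
  intro q hq
  refine or_iff_not_imp_left.2 fun h1 => ?_
  obtain ⟨s, hs, k, hk, h2, h3⟩ := h q _ (prime_of_mem q (sp_sub q hq))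
    (Nat.dvd_of_mod_eq_zero (not_not.1 h1))
  exact ⟨s, hs, k, by omega, h2, Int.emod_eq_zero_of_dvd h3⟩

def vals (D : ℤ) : List ℤ :=
  ((List.range (2 * D.natAbs)).map fun i : ℕ => (i : ℤ) - D.natAbs).filter fun a =>
    (a - D) % 4 == 0 && a.natAbs < D.natAbs

theorem mem_vals {D a : ℤ} (h1 : 4 ∣ a - D) (h2 : a.natAbs < D.natAbs) : a ∈ vals D := by
  simp only [vals, List.mem_filter, List.mem_map, List.mem_range, Bool.and_eq_true, beq_iff_eq,
    decide_eq_true_eq]
  exact ⟨⟨(a + D.natAbs).toNat, by omega, by omega⟩, by omega, h2⟩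

def trip (n : ℕ) : List ℤ → List (ℤ × ℤ × ℤ)
  | [] => [(0, 0, 0)]
  | D :: L => (vals D).flatMap fun a => (trip n L).map fun s =>
      (a + s.1, a ^ 2 + s.2.1, a ^ 2 * (n / D) + s.2.2)

theorem mem_trip {α : Type*} (f g : α → ℤ) (n : ℕ) : ∀ l : List α, (∀ a ∈ l, g a ∈ vals (f a)) →
    ((l.map g).sum, (l.map fun a => g a ^ 2).sum, (l.map fun a => g a ^ 2 * (n / f a)).sum) ∈
      trip n (l.map f)
  | [], _ => by simp [trip]
  | a :: l, h => by
    simp only [List.map_cons, List.sum_cons, trip, List.mem_flatMap, List.mem_map]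
    exact ⟨_, h a List.mem_cons_self, _,
      mem_trip f g n l fun b hb => h b (List.mem_cons_of_mem _ hb), rfl⟩

def k15 (n p t : ℕ) (L : List ℤ) (y : ℤ) : Bool :=
  (trip n L).any fun s => (1 + s.1 - y) % 4 == 0 && (1 + s.1).natAbs < y.natAbs &&
    (divs n).any fun c => (p : ℤ) * c * c == n + s.2.2 - (1 + s.1) ^ 2 * (n / y) &&
      1 + s.2.1 + t * (1 + s.1) ^ 2 ≤ c

def k16 (p : ℕ) (d : ℤ) : Bool :=
  d.natAbs + 1 != p && d.natAbs != p + 1 && d.natAbs + 1 != 2 * p

def okS (n p e np : ℕ) (L : List ℤ) : Bool :=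
  1 < (1 + L.sum).natAbs && (np * e) % (1 + L.sum).natAbs == 0 && (1 + L.sum - e) % p == 0 &&
    1 + (L.map (· ^ 2)).sum + ((p - 1) / e : ℕ) * (1 + L.sum) ^ 2 ≤ n &&
    if n = np * e * p then bt n e ((p - 1) / e) L (1 + L.sum) &&
      (e % 2 == 1 || k15 n p ((p - 1) / e) L (1 + L.sum))
    else L.all (k16 p) && (e + 1 != p || k16 p (1 + L.sum))

def xs (n p idx : ℕ) : List ℤ :=
  ((divs n).filter fun d => 1 < d && idx % d == 0 && (d % p == 1 || d % p + 1 == p)).map
    fun d : ℕ => if d % p = 1 then (d : ℤ) else -d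

/-- The possible data `(e, n_p, degrees)` of the principal block for a prime `p ∥ n`. -/
def surv (n p : ℕ) : List (ℕ × ℕ × List ℤ) :=
  ((List.range p).filter fun e => 2 ≤ e && (p - 1) % e == 0).flatMap fun e =>
    ((divs n).filter fun np => np % p == 1 && np != 1 && n % (np * e * p) == 0 &&
      sylOK n np).flatMap fun np =>
        ((combos (xs n p (np * e)) (e - 1)).filter (okS n p e np)).map fun L => (e, np, L)

def elimP (n p : ℕ) : Bool :=
  n % p == 0 && ((n < p ^ 3 && 2 * n != p * (p ^ 2 - 1) && n != (p - 1) * ((p - 1) ^ 2 - 1)) ||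
    ((List.range 13).any fun a => (List.range 9).any fun b => n == 2 ^ a * p ^ b) ||
    (divs n).all fun d => d == 1 || d % p != 1 || !sylOK n d)

def elim (n : ℕ) : Bool :=
  primes.any (elimP n) || sp.any fun p => n % p == 0 && n % (p * p) != 0 && (surv n p).isEmpty

def chk (m : ℕ) : Bool := [0, 153, 210, 225, 255, 351, 378].contains m || elim (16 * m)

theorem chk0 : (List.range' 0 50).all chk = true := by decide +kernel

theorem chk1 : (List.range' 50 50).all chk = true := by decide +kernel

theorem chk2 : (List.range' 100 50).all chk = true := by decide +kernel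

theorem chk3 : (List.range' 150 50).all chk = true := by decide +kernel

theorem chk4 : (List.range' 200 50).all chk = true := by decide +kernel

theorem chk5 : (List.range' 250 50).all chk = true := by decide +kernel

theorem chk6 : (List.range' 300 50).all chk = true := by decide +kernel

theorem chk7 : (List.range' 350 40).all chk = true := by decide +kernel

theorem elim_sixteen {m : ℕ} (h0 : m ≠ 0) (h : m < 390) : elim (16 * m) = true ∨
    16 * m ∈ [2448, 4080, 5616, 6048, 3360, 3600] := by
  have key : ∀ a k, (List.range' a k).all chk = true → a ≤ m → m < a + k → chk m = true :=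
    fun a k h h1 h2 => List.all_eq_true.1 h m (List.mem_range'_1.2 ⟨h1, h2⟩)
  have h1 : chk m = true := by
    by_cases h1 : m < 50
    · exact key _ _ chk0 (by omega) (by omega)
    by_cases h1 : m < 100
    · exact key _ _ chk1 (by omega) (by omega)
    by_cases h1 : m < 150
    · exact key _ _ chk2 (by omega) (by omega)
    by_cases h1 : m < 200
    · exact key _ _ chk3 (by omega) (by omega)
    by_cases h1 : m < 250
    · exact key _ _ chk4 (by omega) (by omega)
    by_cases h1 : m < 300
    · exact key _ _ chk5 (by omega) (by omega)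
    by_cases h1 : m < 350
    · exact key _ _ chk6 (by omega) (by omega)
    · exact key _ _ chk7 (by omega) (by omega)
  simp only [chk, Bool.or_eq_true, List.contains_iff_mem, List.mem_cons, List.not_mem_nil,
    or_false] at h1 ⊢
  rcases h1 with h1 | h1
  · omega
  · exact Or.inl h1

theorem elim_eight : ∀ n ∈ [840, 2184, 4200, 5880], elim n = true := by decide +kernel

theorem surv_five : surv 3360 5 = [(2, 336, [6])] := by decide +kernel

theorem surv_seven : surv 3360 7 = [(2, 120, [15])] := by decide +kernel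

end H44.Sv
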