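/- TE2, job F1: the standard subgroup of type `L₃(4)` in coordinates. -/
import Cfsg.Agent.H88.TESpec
import Cfsg.Agent.H86.L34C
import Cfsg.Agent.H57.SLGen

set_option autoImplicit false

namespace H44.Te
open Subgroup Cfsg H98 H1.Gold H86.L34 H6 H88.TE H95 Matrix
open scoped MatrixGroups commutatorElement

universe u

section mat

abbrev PS : Type := Matrix.ProjectiveSpecialLinearGroup (Fin 3) F4

def h0 : SL(3, F4) := ⟨!![F4.v, 0, 0; 0, 1, 0; 0, 0, F4.w], by rw [det_fin_three]; decide⟩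
def n0 : SL(3, F4) := ⟨!![1, 0, 0; 0, 0, 1; 0, 1, 0], by rw [det_fin_three]; decide⟩
def m0 : SL(3, F4) := ⟨!![0, 1, 0; 1, 0, 0; 0, 0, 1], by rw [det_fin_three]; decide⟩
def sc (r : F4) (h : r ≠ 0) : SL(3, F4) :=
  ⟨!![r, 0, 0; 0, r, 0; 0, 0, r], by rw [det_fin_three]; revert r; decide⟩

theorem sc_mem (r : F4) (h : r ≠ 0) : sc r h ∈ center SL(3, F4) :=
  Matrix.SpecialLinearGroup.mem_center_iff.2 ⟨r, F4.cube r h, by
    ext i j; fin_cases i <;> fin_cases j <;> rfl⟩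

theorem h0_u : ∀ a b c, h0 * uT3 a b c = uT3 (F4.v * a) (F4.v * b) (F4.w * c) * h0 := by
  decide +kernel
theorem n0_u : ∀ a c, n0 * uT3 a 0 c = uT3 c 0 a * n0 := by decide +kernel
theorem m0_u : ∀ b c, m0 * uT3 0 b c = uT3 0 c b * m0 := by decide +kernel
theorem rels : n0 * n0 = 1 ∧ m0 * m0 = 1 ∧ n0 * h0 * n0 * h0 = sc F4.w (by decide) ∧
    m0 * h0 * m0 * h0 = sc F4.v (by decide) ∧ (n0 * uT3 0 1 0) ^ 3 = 1 ∧
    (m0 * uT3 1 0 0) ^ 3 = 1 ∧ (n0 * m0) ^ 3 = 1 ∧ h0 ^ 3 = 1 := by decide +kernel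
/-- The entry `0 1`, `0 2` or `1 2` is not zero. -/
def nd (s : M3) : Prop := s 0 1 ≠ 0 ∨ s 0 2 ≠ 0 ∨ s 1 2 ≠ 0
instance (s : M3) : Decidable (nd s) := by unfold nd; infer_instance
theorem brs : ∀ x : F4, (x = 0 ∨ nd ((n0 * m0 * uT3 0 x x) ^ 3).1) ∧
    (x = 0 ∨ nd ((m0 * n0 * uT3 x 0 x) ^ 3).1) := by decide +kernel
theorem tvs : ∀ (i j : Fin 3) (h : i ≠ j) (c : F4), SpecialLinearGroup.transvection h c ∈
    [uT3 c 0 0, uT3 0 c 0, uT3 0 0 c, m0 * uT3 c 0 0 * m0, n0 * uT3 0 c 0 * n0,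
      n0 * (m0 * uT3 c 0 0 * m0) * n0] := by decide +kernel

theorem off {s : SL(3, F4)} (h : s ∈ center SL(3, F4)) (i j : Fin 3) (n : i ≠ j) : s.1 i j = 0 := by
  obtain ⟨r, -, e⟩ := Matrix.SpecialLinearGroup.mem_center_iff.1 h
  rw [← e]
  exact diagonal_apply_ne _ n

theorem not_nd {s : SL(3, F4)} (h : s ∈ center SL(3, F4)) : ¬ nd s.1 := by
  simp [nd, off h]

theorem cen_z {s : SL(3, F4)}
    (h : ((s * uT3 0 0 1 : SL(3, F4)) : PS) = (uT3 0 0 1 * s : SL(3, F4))) :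
    ∃ a b c, (s : PS) = (uT3 a b c : SL(3, F4)) := by
  obtain ⟨r, -, e⟩ := Matrix.SpecialLinearGroup.mem_center_iff.1 (QuotientGroup.eq.1 h)
  have e1 : (s * uT3 0 0 1).1 * scalar (Fin 3) r = (uT3 0 0 1 * s).1 := by
    rw [e, ← Matrix.SpecialLinearGroup.coe_mul, mul_inv_cancel_left]
  have d := s.2
  have k := fun i j => congrFun (congrFun e1 i) j
  have k00 := k 0 0; have k01 := k 0 1; have k02 := k 0 2
  have k12 := k 1 2; have k20 := k 2 0; have k21 := k 2 1; have k22 := k 2 2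
  simp [coe_uT3, mul_apply, Fin.sum_univ_three] at k00 k01 k02 k12 k20 k21 k22
  rw [det_fin_three] at d
  have r1 : r = 1 := by
    by_contra n
    have t : ∀ x : F4, x * r = x → x = 0 := fun x e =>
      by_contra fun x0 => n (mul_left_cancel₀ x0 (e.trans (mul_one x).symm))
    simp only [t _ k20, zero_add] at k22
    simp [t _ k20, t _ k21, t _ k22] at d
  subst r1
  simp only [mul_one, left_eq_add, add_eq_right] at k00 k01 k12
  replace k02 : s.1 2 2 = s.1 0 0 := by linear_combination -k02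
  rw [k00, k01, k12, k02] at d
  have t : ∀ x y : F4, x * y * x = 1 → x ≠ 0 ∧ y = x := by decide
  obtain ⟨t1, t2⟩ := t (s 0 0) (s 1 1) (by simpa using d)
  refine ⟨s 0 1 / s 0 0, s 1 2 / s 0 0, s 0 2 / s 0 0, ?_⟩
  rw [← QuotientGroup.mk_mul_of_mem (uT3 _ _ _) (sc_mem _ t1)]
  refine congrArg _ (Subtype.ext ?_)
  rw [Matrix.SpecialLinearGroup.coe_mul]
  ext i j
  fin_cases i <;> fin_cases j <;>
    simp [coe_uT3, sc, mul_apply, Fin.sum_univ_three, t1, t2, k00, k01, k02, k12]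

end mat

section ext
variable {X Y : Type*} [Group X] [Group Y] {π : X →* Y}

theorem root (ho : Odd (Nat.card (center X))) (k : ℕ) {ζ : X} (h : ζ ∈ center X) :
    ∃ ξ ∈ center X, ξ ^ 2 ^ k = ζ := by
  obtain ⟨ξ, e⟩ := (powCoprime (G := center X) (n := 2 ^ k)
    ((Nat.coprime_two_right.2 ho).pow_right k)).surjective ⟨ζ, h⟩
  exact ⟨ξ, ξ.2, congrArg Subtype.val e⟩

theorem eq_one_of (ho : Odd (Nat.card (center X))) (k : ℕ) {ζ : X} (h : ζ ∈ center X)
    (e : ζ ^ 2 ^ k = 1) : ζ = 1 :=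
  congrArg Subtype.val ((powCoprime (G := center X) (n := 2 ^ k)
    ((Nat.coprime_two_right.2 ho).pow_right k)).injective (a₁ := ⟨ζ, h⟩) (a₂ := 1)
      (Subtype.ext (by simpa using e)))

theorem uniq (ho : Odd (Nat.card (center X))) (hk : ∀ x, π x = 1 ↔ x ∈ center X) (k : ℕ) {x y : X}
    (e : π x = π y) (hx : x ^ 2 ^ k = 1) (hy : y ^ 2 ^ k = 1) : x = y := by
  have c : x⁻¹ * y ∈ center X := (hk _).1 (by rw [map_mul, map_inv, e, inv_mul_cancel])
  rw [← mul_inv_cancel_left x y, Commute.mul_pow (mem_center_iff.1 c x), hx, one_mul] at hy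
  exact inv_mul_eq_one.1 (eq_one_of ho k c hy)

theorem lift2 (ho : Odd (Nat.card (center X))) (hk : ∀ x, π x = 1 ↔ x ∈ center X)
    (hs : Function.Surjective π) {y : Y} (hy : y * y = 1) : ∃ x, π x = y ∧ x * x = 1 := by
  obtain ⟨x, rfl⟩ := hs y
  obtain ⟨ξ, c, e⟩ := root ho 1 (inv_mem ((hk (x * x)).1 (by rwa [map_mul])))
  refine ⟨x * ξ, by rw [map_mul, (hk ξ).2 c, mul_one], ?_⟩
  rw [← pow_two, Commute.mul_pow (mem_center_iff.1 c x), pow_two x]
  exact mul_eq_one_iff_inv_eq.2 e.symm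

theorem top_of_map (hp : commutator X = ⊤) (hk : ∀ x, π x = 1 ↔ x ∈ center X) {B : Subgroup X}
    (h : ∀ y, y ∈ B.map π) : B = ⊤ := by
  have k : ∀ x, ∃ b ∈ B, ∃ z ∈ center X, x = b * z := fun x => by
    obtain ⟨b, hb, e⟩ := h (π x)
    exact ⟨b, hb, b⁻¹ * x, (hk _).1 (by rw [map_mul, map_inv, e, inv_mul_cancel]), by group⟩
  refine top_le_iff.1 (hp.ge.trans (commutator_le.2 fun x _ y _ => ?_))
  obtain ⟨b, hb, z, hz, rfl⟩ := k x
  obtain ⟨b', hb', z', hz', rfl⟩ := k y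
  convert mul_mem (mul_mem (mul_mem hb hb') (inv_mem hb)) (inv_mem hb') using 1
  calc _ = b * (z * (b' * z') * z⁻¹) * b⁻¹ * z'⁻¹ * b'⁻¹ := by rw [commutatorElement_def]; group
    _ = b * b' * (z' * b⁻¹ * z'⁻¹) * b'⁻¹ := by rw [← mem_center_iff.1 hz]; group
    _ = _ := by rw [← mem_center_iff.1 hz']; group

end ext

theorem jobF1 : JobF1.{u} := by
  intro G _ _ A std ho ⟨φ⟩
  let π : A →* PS := φ.toMonoidHom.comp (QuotientGroup.mk' _)
  have hs : Function.Surjective π := φ.surjective.comp (QuotientGroup.mk'_surjective _)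
  have hk : ∀ x, π x = 1 ↔ x ∈ center A := fun x => by
    simp [π]
  have hK : ∀ x : A, x ∈ center A ↔ (x : G) ∈ cen A := fun x => by
    simp [mem_center_iff, mem_centralizer_iff, Subtype.ext_iff]
  let p : SL(3, F4) →* PS := QuotientGroup.mk' _
  have pk : ∀ s, p s = 1 ↔ s ∈ center SL(3, F4) := fun s => QuotientGroup.eq_one_iff s
  have h1 : HM fun a b c : F4 => p (uT3 a b c) :=
    ⟨F4.two_eq, fun _ _ _ _ _ _ => by rw [← map_mul, uT3_mul], fun e =>
      ⟨off ((pk _).1 e) 0 1 (by decide), off ((pk _).1 e) 1 2 (by decide),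
        off ((pk _).1 e) 0 2 (by decide)⟩⟩
  have c1 : Nat.card h1.S = 2 ^ 6 := by simp [h1.card_S, F4.card_eq]
  have s1 : IsSyl 2 h1.S ⊤ := isSyl_of_not_dvd_relIndex le_top (IsPGroup.of_card c1) (by
    have := h1.S.card_mul_index
    rw [c1, H88.card_psl_three_four F4.card_eq] at this
    rw [relIndex_top_right]
    omega)
  obtain ⟨P, hP⟩ := exists_isSyl 2 (h1.S.comap π)
  have e1 : P.map π = h1.S := by
    have := hP.map π
    rw [map_comap_eq_self_of_surjective hs] at this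
    exact this.eq_of_isPGroup s1.isPGroup
  have inj : ∀ x ∈ P, π x = 1 → x = 1 := fun x hx e => by
    obtain ⟨k, hk'⟩ := isPGroup_iff_forall.1 hP.isPGroup x hx
    exact eq_one_of ho k ((hk x).1 e) hk'
  choose u uP pu using fun a b c => e1.ge (h1.mem_S a b c)
  have h2 : HM u := ⟨F4.two_eq, fun a b c a' b' c' => mul_inv_eq_one.1 (inj _
    (mul_mem (mul_mem (uP ..) (uP ..)) (inv_mem (uP ..))) (by
      rw [map_mul, map_mul, map_inv, pu, pu, pu, h1.mul, mul_inv_cancel])),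
    fun e => h1.inj (by rw [← pu, e, map_one])⟩
  have e2 : h2.S = P := le_antisymm (by rintro _ ⟨a, b, c, rfl⟩; exact uP ..) fun x hx => by
    obtain ⟨a, b, c, e⟩ := e1.le ⟨x, hx, rfl⟩
    exact ⟨a, b, c, mul_inv_eq_one.1 (inj _ (mul_mem (uP ..) (inv_mem hx)) (by
      rw [map_mul, map_inv, pu, mul_inv_eq_one]; exact e))⟩
  have u4 : ∀ a b c, u a b c ^ 2 ^ 2 = 1 := fun a b c => by
    rw [pow_two, pow_mul, h2.sq, h2.sq, mul_zero, h2.one]
  have cu : ∀ {g : A} {s a b c a' b' c'}, π g = p s → s * uT3 a b c = uT3 a' b' c' * s →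
      (g : G) * u a b c * (g : G)⁻¹ = u a' b' c' := fun {g s a b c a' b' c'} e l =>
    congrArg Subtype.val (uniq ho hk 2 (x := g * u a b c * g⁻¹) (by
      rw [map_mul, map_mul, map_inv, e, pu, pu, ← map_mul, l, map_mul, mul_inv_cancel_right])
      (by rw [conj_pow, u4, mul_one, mul_inv_cancel]) (u4 ..))
  obtain ⟨r1, r2, r3, r4, r5, r6, r7, r8⟩ := rels
  obtain ⟨n, pn, nn⟩ := lift2 ho hk hs (y := p n0) (by rw [← map_mul, r1, map_one])
  obtain ⟨m, pm, mm⟩ := lift2 ho hk hs (y := p m0) (by rw [← map_mul, r2, map_one])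
  obtain ⟨h, ph, h3⟩ : ∃ h, π h = p h0 ∧ h ^ 3 = 1 := by
    obtain ⟨h, ph⟩ := hs (p h0)
    have c : n * h * n * h ∈ center A := (hk _).1 (by
      simp only [map_mul, pn, ph]
      rw [← map_mul, ← map_mul, ← map_mul, r3, pk]; exact sc_mem ..)
    have c3 : h ^ 3 ∈ center A := (hk _).1 (by rw [map_pow, ph, ← map_pow, r8, map_one])
    obtain ⟨ξ, c', e⟩ := root ho 1 (inv_mem c)
    generalize hζ : n * h * n * h = ζ at c e
    have l : n * h * n⁻¹ = ζ * h⁻¹ := by rw [inv_eq_of_mul_eq_one_right nn, ← hζ]; group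
    have l3 : h ^ 3 = ζ ^ 3 * h⁻¹ ^ 3 := by
      rw [← Commute.mul_pow (mem_center_iff.1 c _).symm, ← l, conj_pow, mem_center_iff.1 c3,
        mul_inv_cancel_right]
    have cm := Commute.mul_pow (show Commute h ξ from mem_center_iff.1 c' h)
    refine ⟨h * ξ, by rw [map_mul, (hk ξ).2 c', mul_one, ph], eq_one_of ho 1
      (cm 3 ▸ mul_mem c3 (pow_mem c' 3)) ?_⟩
    rw [← pow_mul, cm, mul_comm 3, pow_mul ξ, e, pow_one, two_mul, pow_add]
    nth_rw 1 [l3]
    group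
  have K : ∀ {x : A} {s}, π x = p s → ((x : G) ∈ cen A ↔ s ∈ center SL(3, F4)) := fun e => by
    rw [← hK, ← hk, e, pk]
  have h2' := h2.map A.subtype fun x _ e => Subtype.ext e
  have eU : (⟨A, fun a b c => u a b c, h, n, m⟩ : Dt G).U = P.map A.subtype :=
    (closure_eq h2'.S).trans ((h2.map_S _ fun x _ e => Subtype.ext e).trans (by rw [e2]))
  refine ⟨⟨A, fun a b c => u a b c, h, n, m⟩, rfl, std, fun a ha hc => ?_, h2', fun a b c => (u a b c).2,
    ?_, h.2, congrArg Subtype.val h3, fun a b c => cu ph (h0_u a b c), n.2, congrArg Subtype.val nn,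
    fun a c => cu pn (n0_u a c), m.2, congrArg Subtype.val mm, fun b c => cu pm (m0_u b c),
    (K (x := n * h * n * h) (by simp only [map_mul, pn, ph])).2 (r3 ▸ sc_mem ..),
    (K (x := m * h * m * h) (by simp only [map_mul, pm, ph])).2 (r4 ▸ sc_mem ..),
    (K (x := (n * u 0 1 0) ^ 3) (by simp only [map_pow, map_mul, pn, pu])).2 (r5 ▸ one_mem _),
    (K (x := (m * u 1 0 0) ^ 3) (by simp only [map_pow, map_mul, pm, pu])).2 (r6 ▸ one_mem _),
    (K (x := (n * m) ^ 3) (by simp only [map_pow, map_mul, pn, pm])).2 (r7 ▸ one_mem _),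
    fun x e => (brs x).1.resolve_right (not_nd ((K (x := (n * m * u 0 x x) ^ 3)
      (by simp only [map_pow, map_mul, pn, pm, pu])).1 e)),
    fun x e => (brs x).2.resolve_right (not_nd ((K (x := (m * n * u x 0 x) ^ 3)
      (by simp only [map_pow, map_mul, pn, pm, pu])).1 e)), fun B b1 b2 b3 => ?_,
    fun x hx c => ?_⟩
  · rw [← orderOf_mk a ha, ← orderOf_mk _ ((hK ⟨a, ha⟩).2 hc)]
    exact ho.of_dvd_nat (orderOf_dvd_natCard _)
  · rw [eU]
    have : IsSyl 2 P ⊤ := ⟨le_top, hP.isPGroup, fun Q q1 q2 _ => hP.eq_of_le q1 q2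
      (map_le_iff_le_comap.1 (s1.eq_of_le (q1.map π) (e1 ▸ map_mono q2) le_top).le)⟩
    simpa [← MonoidHom.range_eq_map] using this.map_of_injective A.subtype_injective
  · have t : ∀ a b c, p (uT3 a b c) ∈ (B.subgroupOf A).map π := fun a b c =>
      ⟨u a b c, b1 (subset_closure ⟨a, b, c, rfl⟩), pu ..⟩
    have tn : p n0 ∈ (B.subgroupOf A).map π := ⟨n, b2, pn⟩
    have tm : p m0 ∈ (B.subgroupOf A).map π := ⟨m, b3, pm⟩
    refine subgroupOf_eq_top.1 (top_of_map std.1.1.commutator_eq_top hk fun y => ?_)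
    obtain ⟨s, rfl⟩ := QuotientGroup.mk'_surjective _ y
    refine H57.sl_transvection_induction (fun s => p s ∈ (B.subgroupOf A).map π)
      (by rw [map_one]; exact one_mem _) (fun i j l c => ?_)
      (fun a b x y => by rw [map_mul]; exact mul_mem x y) s
    have := tvs i j l c
    simp only [List.mem_cons, List.not_mem_nil, or_false] at this
    rcases this with e | e | e | e | e | e <;> simp only [e, map_mul]
    exacts [t .., t .., t .., mul_mem (mul_mem tm (t ..)) tm, mul_mem (mul_mem tn (t ..)) tn,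
      mul_mem (mul_mem tn (mul_mem (mul_mem tm (t ..)) tm)) tn]
  · obtain ⟨s, e⟩ := QuotientGroup.mk'_surjective _ (π ⟨x, hx⟩)
    obtain ⟨a, b, c, l⟩ := cen_z (s := s) (by
      change p _ = p _
      rw [map_mul, map_mul, ← pu, show p s = _ from e, ← map_mul, ← map_mul]
      exact congrArg π (Subtype.ext c))
    exact ⟨x * (u a b c : G)⁻¹, (hK (⟨x, hx⟩ * (u a b c)⁻¹)).1 ((hk _).1 (by
      rw [map_mul, map_inv, pu, ← e, mul_inv_eq_one]; exact l)), a, b, c, by simp⟩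

end H44.Te
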