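/- TE2, job F2, part a: involutions, centralizers and automorphisms of `U`. -/
import Cfsg.Agent.H88.TESpec

set_option autoImplicit false

namespace H44.Te
open Subgroup Cfsg H98 H1.Gold H86.L34 H6 H88.TE
open scoped commutatorElement

universe u

variable {G : Type u} [Group G] {d : Dt G} {g k x y s : G} {a b c e : F4}

theorem fr_add : ∀ σ (x y : F4), fr σ (x + y) = fr σ x + fr σ y := by decide
theorem fr_mul : ∀ σ (x y : F4), fr σ (x * y) = fr σ x * fr σ y := by decide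
theorem fr_fr : ∀ σ σ' (x : F4), fr σ (fr σ' x) = fr (xor σ σ') x := by decide
theorem fr_ne : ∀ σ (x : F4), x ≠ 0 → fr σ x ≠ 0 := by decide
@[simp] theorem fr_zero : ∀ σ, fr σ 0 = 0 := by decide
@[simp] theorem fr_one : ∀ σ, fr σ 1 = 1 := by decide
@[simp] theorem fr_false (x : F4) : fr false x = x := rfl

theorem exists_fr {φ : F4 → F4} (h1 : φ 1 = 1) (h2 : ∀ x y, φ (x + y) = φ x + φ y)
    (h3 : ∀ x y, φ (x * y) = φ x * φ y) : ∃ σ, ∀ x, φ x = fr σ x := by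
  have k0 : φ 0 = 0 := by simpa using h2 0 0
  have k1 : φ F4.v = φ F4.w + 1 := h1 ▸ h2 F4.w 1
  have k2 : φ F4.v = φ F4.w * φ F4.w := h3 F4.w F4.w
  have t : ∀ y : F4, y + 1 = y * y → y = F4.w ∨ y = F4.v := by decide
  rcases t _ (k1.symm.trans k2) with e | e <;> rw [e] at k1
  · exact ⟨false, fun x => by cases x; exacts [k0, h1, e, k1]⟩
  · exact ⟨true, fun x => by cases x; exacts [k0, h1, e, k1]⟩

theorem eq_one_odd (ho : Odd (orderOf x)) {j : ℕ} (h : x ^ 2 ^ j = 1) : x = 1 :=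
  orderOf_eq_one_iff.1 (((Nat.coprime_two_right.2 ho).pow_right j).eq_one_of_dvd
    (orderOf_dvd_of_pow_eq_one h))

theorem swap_z (e : F4) : d.swap.z e = d.z e := by simp [Dt.swap, Dt.z]

theorem cj3 (p q r : G) : p * q * r * (p * q)⁻¹ = p * (q * r * q⁻¹) * p⁻¹ := by group

variable (H : Fr0 d)
include H

theorem U_eq : d.U = H.hm.S := closure_eq H.hm.S
theorem V1_eq : d.V₁ = H.hm.A := closure_eq H.hm.A
theorem V2_eq : d.V₂ = H.hm.B := closure_eq H.hm.B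
theorem mem_U : x ∈ d.U ↔ ∃ a b c, d.u a b c = x := by rw [U_eq H]; rfl
theorem uU (a b c : F4) : d.u a b c ∈ d.U := (mem_U H).2 ⟨_, _, _, rfl⟩

theorem swap : Fr0 d.swap :=
  have e : d.swap.U = d.U := by rw [U_eq H, ← H.hm.swap_S]; exact closure_eq H.hm.swap.S
  have n := inv_eq_of_mul_eq_one_right H.nn
  have m := inv_eq_of_mul_eq_one_right H.mm
  { H with
    hm := H.hm.swap
    uA := fun _ _ _ => H.uA ..
    syl := e ▸ H.syl
    hu := fun a b c => (H.hu ..).trans (cg d.u rfl rfl (by revert a b c; decide))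
    nA := H.mA
    nn := H.mm
    nu := fun a c => by simpa [Dt.swap] using H.mu a c
    mA := H.nA
    mm := H.nn
    mu := fun a c => by simpa [Dt.swap] using H.nu a c
    nh := H.mh
    mh := H.nh
    nv := by simpa [Dt.swap] using H.mv
    mv := by simpa [Dt.swap] using H.nv
    nm := by
      have := inv_mem H.nm
      rwa [← inv_pow, mul_inv_rev, n, m] at this
    br₁ := fun x h => H.br₂ x (by simpa [Dt.swap] using h)
    br₂ := fun x h => H.br₁ x (by simpa [Dt.swap] using h)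
    gen := fun B h1 h2 h3 => H.gen B (e ▸ h1) h3 h2
    cenz := fun x hx h => by
      obtain ⟨k, hk, a, b, c, l⟩ := H.cenz x hx (swap_z (d := d) 1 ▸ h)
      exact ⟨k, hk, b, a, c + a * b, by
        rw [l]; exact congrArg _ (cg d.u rfl rfl (by linear_combination -(a * b) * F4.two_eq))⟩ }

theorem swap_U : d.swap.U = d.U := by rw [U_eq H, U_eq (swap H)]; exact H.hm.swap_S

omit H in
theorem comK (hk : k ∈ d.K) (hx : x ∈ d.A) : Commute k x := (mem_centralizer_iff.1 hk x hx).symm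

omit H in
theorem cjA (hg : g ∈ d.N) (hx : x ∈ d.A) : g * x * g⁻¹ ∈ d.A := H98.conj_mem_of_mem_normalizer hg hx

omit H in
theorem cjK (hg : g ∈ d.N) (hk : k ∈ d.K) : g * k * g⁻¹ ∈ d.K :=
  H98.conj_mem_of_mem_normalizer (normalizer_le_normalizer_centralizer _ hg) hk

omit H in
theorem K_le : d.K ≤ d.N := centralizer_le_normalizer _

omit H in
theorem KA_le : d.K ⊔ d.A ≤ d.N := sup_le K_le le_normalizer

omit H in
theorem mem_KA : x ∈ d.K ⊔ d.A ↔ ∃ k ∈ d.K, ∃ a ∈ d.A, x = k * a :=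
  mem_sup_right_norm (le_normalizer.trans (normalizer_le_normalizer_centralizer _))

omit H in
theorem cjK_eq (hk : k ∈ d.K) (hx : x ∈ d.A) : k * x * k⁻¹ = x := by
  rw [comK hk hx, mul_inv_cancel_right]

theorem u4 (a b c : F4) : d.u a b c ^ 2 ^ 2 = 1 := by
  rw [pow_two, pow_mul, H.hm.sq, H.hm.sq, mul_zero, H.hm.one]

theorem KA_one (hk : k ∈ d.K) (ha : k ∈ d.A) {j : ℕ} (h : k ^ 2 ^ j = 1) : k = 1 :=
  eq_one_odd (H.zodd k ha hk) h

theorem KU_one (hk : d.u a b c ∈ d.K) : d.u a b c = 1 := KA_one H hk (H.uA ..) (u4 H ..)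

theorem z_ne (he : e ≠ 0) : d.z e ≠ 1 := fun h => he (H.hm.inj h).2.2

theorem z_comm (e a b c : F4) : Commute (d.z e) (d.u a b c) := by
  rw [Commute, SemiconjBy, H.hm.mul, H.hm.mul]
  exact cg d.u (by simp) (by simp) (by simp [add_comm])

/-- The torus. -/
theorem tor (hc : c ≠ 0) : ∃ t ∈ d.A, d.Ac t c c false false := by
  have h1 : d.Ac d.h F4.v F4.v false false := H.hu
  cases c
  · exact absurd rfl hc
  · exact ⟨1, one_mem _, fun x y z => by simp [show F4.i = 1 from rfl]⟩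
  · refine ⟨d.h * d.h, mul_mem H.hA H.hA, fun x y z => ?_⟩
    rw [cj3, H.hu, H.hu]
    exact cg d.u (by revert x; decide) (by revert y; decide) (by revert z; decide)
  · exact ⟨_, H.hA, h1⟩

theorem torz (he : e ≠ 0) : ∃ t ∈ d.A, ∃ c, c ≠ 0 ∧ d.Ac t c c false false ∧
    t * d.z 1 * t⁻¹ = d.z e := by
  obtain ⟨t, ht, h⟩ := tor H (c := e * e) (mul_ne_zero he he)
  exact ⟨t, ht, _, mul_ne_zero he he, h, (h 0 0 1).trans
    (cg d.u (by simp) (by simp) (by clear h; revert e; decide))⟩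

theorem cenz' (he : e ≠ 0) (hx : x ∈ d.A) (h : Commute x (d.z e)) :
    ∃ k ∈ d.K, ∃ a b c, x = k * d.u a b c := by
  obtain ⟨t, ht, c, -, h1, h2⟩ := torz H he
  obtain ⟨k, hk, a, b, c', l⟩ := H.cenz (t⁻¹ * x * t) (mul_mem (mul_mem (inv_mem ht) hx) ht) (by
    have := h.conj t⁻¹
    rwa [← h2, inv_inv, ← mul_assoc, ← mul_assoc, inv_mul_cancel, one_mul,
      inv_mul_cancel_right] at this)
  refine ⟨k, hk, c * a, c * b, c * c * c', ?_⟩
  rw [← show t * d.u a b c' * t⁻¹ = d.u (c * a) (c * b) (c * c * c') from h1 a b c', ← mul_assoc,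
    ← mul_assoc, comK hk ht, mul_assoc t, ← l]
  group

theorem two_el (he : e ≠ 0) (hx : x ∈ d.A) (h : Commute x (d.z e)) {j : ℕ} (h2 : x ^ 2 ^ j = 1) :
    x ∈ d.U := by
  obtain ⟨k, hk, a, b, c, rfl⟩ := cenz' H he hx h
  have : k = 1 := KA_one H hk ((d.A.mul_mem_cancel_right (H.uA a b c)).1 hx) (j := j + 2) (by
    have := congrArg (· ^ 2 ^ 2) h2
    simp only [← pow_mul, ← pow_add, one_pow] at this
    rwa [(comK hk (H.uA ..)).mul_pow, add_comm j, pow_add 2 2 j, pow_mul (d.u a b c), u4 H, one_pow,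
      mul_one, ← pow_add, add_comm 2] at this)
  rw [this, one_mul]
  exact uU H a b c

theorem norU [Finite G] (hg : g ∈ d.N) (he : e ≠ 0) {e' : F4} (h : g * d.z e * g⁻¹ = d.z e') :
    g ∈ nor d.U := by
  refine mem_normalizer_of_cj_le ?_
  rintro _ ⟨y, hy, rfl⟩
  obtain ⟨a, b, c, rfl⟩ := (mem_U H).1 hy
  refine two_el H (e := e') (fun l => z_ne H he ?_) (cjA hg (H.uA ..))
    (h ▸ (z_comm H e a b c).symm.conj g) (j := 2) ?_
  · rwa [l, Dt.z, Dt.z, H.hm.one, conj_eq_one_iff] at h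
  · change (g * _ * g⁻¹) ^ _ = 1
    rw [conj_pow, u4 H, mul_one, mul_inv_cancel]

theorem cls1 (h : a ≠ 0 ∨ c ≠ 0) : ∃ y ∈ d.A, y * d.z 1 * y⁻¹ = d.u a 0 c := by
  by_cases a0 : a = 0
  · obtain ⟨t, ht, -, -, -, l⟩ := torz H (h.resolve_left (not_not.2 a0))
    exact ⟨t, ht, by rw [l, a0]⟩
  obtain ⟨t, ht, -, -, -, l⟩ := torz H a0
  refine ⟨d.u 0 (c / a) 0 * d.n * t, mul_mem (mul_mem (H.uA ..) H.nA) ht, ?_⟩
  calc _ = d.u 0 (c / a) 0 * (d.n * (t * d.z 1 * t⁻¹) * d.n⁻¹) * (d.u 0 (c / a) 0)⁻¹ := by group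
    _ = _ := by rw [l, H.nu, H.hm.conj]; exact cg d.u rfl rfl (by simp [a0])

theorem cls [Finite G] (hx : x ∈ d.A) (h : orderOf x = 2) : ∃ b ∈ d.A, b * d.z 1 * b⁻¹ = x := by
  have h2 : x ^ 2 ^ 1 = 1 := by rw [pow_one, ← h, pow_orderOf_eq_one]
  obtain ⟨y, hy, l⟩ := H.syl.exists_cj_le (isPGroup_zpowers h2) (zpowers_le.2 hx)
  obtain ⟨a, b, c, e⟩ := (mem_U H).1 (l (conj_mem_cj (mem_zpowers x)))
  have e1 : a * b = 0 := by
    have := H.hm.sq a b c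
    rw [e, conj_pow, ← pow_one 2, h2, mul_one, mul_inv_cancel] at this
    exact (H.hm.inj this.symm).2.2
  have e2 : ¬ (a = 0 ∧ b = 0 ∧ c = 0) := fun ⟨p, q, r⟩ => by
    rw [p, q, r, H.hm.one, eq_comm, conj_eq_one_iff] at e
    simp [e] at h
  obtain ⟨t, ht, l⟩ : ∃ t ∈ d.A, t * d.z 1 * t⁻¹ = d.u a b c := by
    rcases mul_eq_zero.1 e1 with rfl | rfl
    · simpa [Dt.swap, Dt.z] using cls1 (swap H) (a := b) (c := c) (by tauto)
    · exact cls1 H (by tauto)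
  refine ⟨y⁻¹ * t, mul_mem (inv_mem hy) ht, ?_⟩
  calc _ = y⁻¹ * (t * d.z 1 * t⁻¹) * y := by group
    _ = _ := by rw [l, e]; group

theorem dec (hs : s ∈ d.K ⊔ d.A) (h : s * s = 1) :
    ∃ k ∈ d.K, ∃ a ∈ d.A, k * k = 1 ∧ a * a = 1 ∧ s = k * a := by
  obtain ⟨k, hk, x, hx, rfl⟩ := mem_KA.1 hs
  have c := comK hk hx
  have e : k ^ 2 * x ^ 2 = 1 := by rw [← c.mul_pow, pow_two, h]
  obtain ⟨j, hj⟩ := H.zodd (x ^ 2) (pow_mem hx 2) (eq_inv_of_mul_eq_one_right e ▸ inv_mem (pow_mem hk 2))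
  have e1 : x ^ (2 * j + 1) * x ^ (2 * j + 1) = 1 := by
    rw [← pow_two, ← pow_mul, mul_comm, pow_mul, ← hj, pow_orderOf_eq_one]
  have e2 : k * x = k ^ (2 * j + 1) * x ^ (2 * j + 1) := by
    rw [← c.mul_pow, pow_succ, pow_mul, pow_two, h, one_pow, one_mul]
  refine ⟨_, pow_mem hk _, _, pow_mem hx _, ?_, e1, e2⟩
  rwa [e2, (c.pow_pow _ _).symm.mul_mul_mul_comm, e1, mul_one] at h

theorem inn (hg : g ∈ d.K ⊔ d.A) {l k : F4} {σ τ : Bool} (h : d.Ac g l k σ τ) :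
    l = k ∧ σ = false ∧ τ = false := by
  obtain ⟨k₀, hk₀, x, hx, rfl⟩ := mem_KA.1 hg
  have h1 : d.Ac x l k σ τ := fun a b c => by
    rw [← h, cj3, cjK_eq hk₀ (cjA (le_normalizer hx) (H.uA ..))]
  have h2 : x * d.z 1 * x⁻¹ = d.z (l * k) := by simpa using h1 0 0 1
  obtain ⟨t, ht, c, c0, h3, h4⟩ := torz H (e := l * k) fun e => z_ne H one_ne_zero (by
    rwa [e, Dt.z, Dt.z, H.hm.one, conj_eq_one_iff] at h2)
  obtain ⟨k₁, hk₁, α, β, γ, e⟩ := H.cenz (t⁻¹ * x) (mul_mem (inv_mem ht) hx) (by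
    rw [Commute, SemiconjBy, mul_assoc, mul_inv_eq_iff_eq_mul.1 h2, ← h4]; group)
  have key : ∀ a b, ∃ z, x * d.u a b 0 * x⁻¹ = d.u (c * a) (c * b) z := fun a b => ⟨_, by
    calc _ = t * (t⁻¹ * x * d.u a b 0 * (t⁻¹ * x)⁻¹) * t⁻¹ := by group
      _ = _ := by
        rw [e, cj3, H.hm.conj, cjK_eq hk₁ (H.uA ..), h3]; rfl⟩
  obtain ⟨z1, e1⟩ := key 1 0
  obtain ⟨z2, e2⟩ := key 0 1
  obtain ⟨z3, e3⟩ := key F4.w 0
  rw [h1] at e1 e2 e3
  cases τ
  · have p1 := (H.hm.ext e1).1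
    have p2 := (H.hm.ext e2).2.1
    have p3 := (H.hm.ext e3).1
    clear * - p1 p2 p3 c0
    revert l k c σ
    decide
  · exact absurd (by simpa using (H.hm.ext e1).1.symm) c0

theorem ker1 (hg : g ∈ d.N) (h : ∀ a b c, Commute g (d.u a b c)) :
    ∃ x, g * d.n * g⁻¹ = d.n * d.u x 0 x := by
  have c : ∀ a c, Commute (d.n⁻¹ * (g * d.n * g⁻¹)) (d.u a 0 c) := fun a c => by
    have : g * d.n * g⁻¹ * d.u a 0 c * (g * d.n * g⁻¹)⁻¹ = d.n * d.u a 0 c * d.n⁻¹ := by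
      calc _ = g * (d.n * (g⁻¹ * d.u a 0 c * g) * d.n⁻¹) * g⁻¹ := by group
        _ = _ := by rw [(h a 0 c).inv_left, inv_mul_cancel_right, H.nu, h, mul_inv_cancel_right]
    rw [Commute, SemiconjBy, mul_assoc, mul_inv_eq_iff_eq_mul.1 this]
    group
  have m := mul_mem (inv_mem H.nA) (cjA hg H.nA)
  obtain ⟨k, hk, α, β, γ, e⟩ := H.cenz _ m (c 0 1)
  have c1 := c 1 0
  rw [e] at c1 m
  replace c1 := (comK hk (H.uA 1 0 0)).inv_left.mul_left c1
  rw [inv_mul_cancel_left, ← commutatorElement_eq_one_iff_commute, H.hm.comm] at c1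
  obtain rfl : β = 0 := by simpa using (H.hm.inj c1).2.2
  rw [inv_mul_eq_iff_eq_mul] at e
  have kA := (d.A.mul_mem_cancel_right (H.uA ..)).1 m
  have e1 : k * k * d.u (γ + α) 0 (α + γ) = 1 := by
    calc _ = k * k * (d.n * d.u α 0 γ * d.n⁻¹ * d.u α 0 γ) := by rw [H.nu, H.hm.mul]; simp
      _ = d.n * (k * d.u α 0 γ) * (d.n * (k * d.u α 0 γ)) := by
        rw [inv_eq_of_mul_eq_one_right H.nn]
        simp only [← mul_assoc, ← (comK hk H.nA).eq,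
          (comK hk H.nA).symm.right_comm, (comK hk (H.uA ..)).symm.right_comm]
      _ = _ := by rw [← e, conj_mul, H.nn]; group
  have e2 := KU_one H (eq_inv_of_mul_eq_one_right e1 ▸ inv_mem (mul_mem hk hk))
  rw [e2, mul_one, ← pow_two] at e1
  obtain rfl : γ = α := by linear_combination (H.hm.inj e2).1 - α * F4.two_eq
  exact ⟨γ, by rw [e, KA_one H hk kA (j := 1) e1, one_mul]⟩

theorem ker (hg : g ∈ d.N) (h : ∀ a b c, Commute g (d.u a b c)) :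
    ∃ k ∈ d.K, ∃ e, g = k * d.z e := by
  obtain ⟨x, e⟩ := ker1 H hg h
  have zz : d.z x * d.z x = 1 := by rw [← pow_two, H.hm.sq, mul_zero, H.hm.one]
  have hg' : d.z x * g ∈ d.N := mul_mem (le_normalizer (H.uA ..)) hg
  have h' : ∀ a b c, Commute (d.z x * g) (d.u a b c) := fun a b c => (z_comm H ..).mul_left (h ..)
  have c1 : d.z x * g * d.n * (d.z x * g)⁻¹ = d.n := by
    calc _ = d.z x * (g * d.n * g⁻¹) * (d.z x)⁻¹ := by group
      _ = d.n * (d.n * d.z x * d.n⁻¹ * d.u x 0 x * (d.z x)⁻¹) := by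
        rw [e, inv_eq_of_mul_eq_one_right H.nn]
        simp only [← mul_assoc, H.nn, one_mul]
      _ = _ := by rw [H.nu, H.hm.inv, H.hm.mul, H.hm.mul]; simp [H.hm.one]
  obtain ⟨y, c2⟩ := ker1 (swap H) hg' fun a b c => h' ..
  change _ * d.m * _ = d.m * d.u 0 y (y + y * 0) at c2
  obtain rfl : y = 0 := H.br₁ y (by
    have := cjK hg' H.nm
    rwa [← conj_pow, ← conj_mul, c1, c2, mul_zero, add_zero, ← mul_assoc] at this)
  rw [mul_zero, add_zero, H.hm.one, mul_one] at c2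
  refine ⟨d.z x * g, fun a ha => mem_centralizer_singleton_iff.1 (H.gen (cen1 (d.z x * g))
    (fun y hy => ?_) (mem_centralizer_singleton_iff.2 (mul_inv_eq_iff_eq_mul.1 c1).symm)
    (mem_centralizer_singleton_iff.2 (mul_inv_eq_iff_eq_mul.1 c2).symm) ha), x, ?_⟩
  · obtain ⟨a, b, c, rfl⟩ := (mem_U H).1 hy
    exact mem_centralizer_singleton_iff.2 (h' ..).symm
  · rw [mul_assoc, h, ← mul_assoc, zz, one_mul]

theorem nor_u (hg : g ∈ nor d.U) (a b c : F4) : ∃ x y z, g * d.u a b c * g⁻¹ = d.u x y z :=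
  let ⟨x, y, z, e⟩ := (mem_U H).1 (H98.conj_mem_of_mem_normalizer hg (uU H a b c)); ⟨x, y, z, e.symm⟩

theorem comm_iff {a' b' c' : F4} : Commute (d.u a b c) (d.u a' b' c') ↔ a * b' + b * a' = 0 := by
  rw [← commutatorElement_eq_one_iff_commute, H.hm.comm]
  exact ⟨fun h => (H.hm.inj h).2.2, fun h => by rw [h, H.hm.one]⟩

theorem nor_z (hg : g ∈ nor d.U) (e : F4) : ∃ e', g * d.z e * g⁻¹ = d.z e' := by
  obtain ⟨x, y, z, l⟩ := nor_u H hg 0 0 e
  have k : ∀ a b, x * b + y * a = 0 := fun a b => by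
    obtain ⟨p, q, r, l'⟩ := nor_u H (inv_mem hg) a b 0
    have := (z_comm H e p q r).conj g
    rwa [l, ← l', inv_inv, ← mul_assoc, ← mul_assoc, mul_inv_cancel, one_mul, mul_inv_cancel_right,
      comm_iff H] at this
  exact ⟨z, by rw [l, show x = 0 by simpa using k 0 1, show y = 0 by simpa using k 1 0]⟩

/-- The conjugates of `Z` inside `V₁` are lines. -/
theorem line [Finite G] (hx : x ∈ d.A) (he : e ≠ 0) (a0 : a ≠ 0) (h : x * d.z e * x⁻¹ = d.u a 0 c)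
    (e' : F4) : ∃ y, x * d.z e' * x⁻¹ = d.u y 0 (c / a * y) := by
  have k : ∀ y, d.u 0 (c / a) 0 * d.n * d.z y * (d.u 0 (c / a) 0 * d.n)⁻¹ = d.u y 0 (c / a * y) :=
    fun y => by
      rw [cj3, H.nu, H.hm.conj]
      simp
  have hb := mul_mem (H.uA 0 (c / a) 0) H.nA
  generalize d.u 0 (c / a) 0 * d.n = b at k hb
  obtain ⟨y, l⟩ := nor_z H (norU H (g := b⁻¹ * x) (le_normalizer (mul_mem (inv_mem hb) hx)) he
    (e' := a) (by
      calc _ = b⁻¹ * (x * d.z e * x⁻¹) * b := by group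
        _ = _ := by rw [h, ← div_mul_cancel₀ c a0, ← k]; group)) e'
  exact ⟨y, by rw [← k, ← l]; group⟩

theorem perm (hg : g ∈ nor d.U) :
    ((∀ a c, ∃ x z, g * d.u a 0 c * g⁻¹ = d.u x 0 z) ∧ ∀ b c, ∃ y z, g * d.u 0 b c * g⁻¹ = d.u 0 y z) ∨
    ((∀ a c, ∃ y z, g * d.u a 0 c * g⁻¹ = d.u 0 y z) ∧ ∀ b c, ∃ x z, g * d.u 0 b c * g⁻¹ = d.u x 0 z) := by
  choose X Y Z l using nor_u H hg
  have k : ∀ a b c a' b' c', X a b c * Y a' b' c' + Y a b c * X a' b' c' = 0 ↔ a * b' + b * a' = 0 :=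
    fun a b c a' b' c' => by
      rw [← comm_iff H (c := Z a b c) (c' := Z a' b' c'), ← l, ← l, Commute.conj_iff, comm_iff H]
  have q : ∀ a b c, a * b = 0 → X a b c * Y a b c = 0 := fun a b c h => by
    have := H.hm.sq (X a b c) (Y a b c) (Z a b c)
    rw [← l, conj_pow, H.hm.sq, h, H.hm.one, mul_one, mul_inv_cancel] at this
    exact (H.hm.inj this.symm).2.2
  have k0 := (k 1 0 0 0 1 0).not.2 (by simp)
  have q1 := q 1 0 0 (by simp)
  have q2 := q 0 1 0 (by simp)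
  have k1 := fun a c => (k 1 0 0 a 0 c).2 (by simp)
  have k2 := fun b c => (k 0 1 0 0 b c).2 (by simp)
  by_cases h : Y 1 0 0 = 0
  · simp only [h, zero_mul, add_zero, mul_eq_zero, not_or] at k0 k1
    simp only [(mul_eq_zero.1 q2).resolve_right k0.2, zero_mul, zero_add, mul_eq_zero, k0.1, k0.2,
      false_or] at k1 k2
    exact .inl ⟨fun a c => ⟨_, _, k1 a c ▸ l a 0 c⟩, fun b c => ⟨_, _, k2 b c ▸ l 0 b c⟩⟩
  · simp only [(mul_eq_zero.1 q1).resolve_right h, zero_mul, zero_add, mul_eq_zero, not_or] at k0 k1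
    simp only [(mul_eq_zero.1 q2).resolve_left k0.2, zero_mul, add_zero, mul_eq_zero, h, k0.2,
      false_or] at k1 k2
    exact .inr ⟨fun a c => ⟨_, _, k1 a c ▸ l a 0 c⟩, fun b c => ⟨_, _, k2 b c ▸ l 0 b c⟩⟩

variable [Finite G]

/-- The image of a root subgroup `p Z p⁻¹` is a line. -/
theorem root_line (hg : g ∈ d.N) (hU : g ∈ nor d.U) {p : G} (hp : p ∈ d.A) {r : F4 → G}
    (hr : ∀ x, p * d.z x * p⁻¹ = r x) (n : ∀ e, r 1 ≠ d.z e) (h : ∃ x z, g * r 1 * g⁻¹ = d.u x 0 z) :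
    ∃ (f : F4 → F4) (l : F4), f 1 ≠ 0 ∧ ∀ x, g * r x * g⁻¹ = d.u (f x) 0 (l * f x) := by
  obtain ⟨a, c, h⟩ := h
  choose k hk using nor_z H hU
  have e : ∀ x, g * p * g⁻¹ * d.z (k x) * (g * p * g⁻¹)⁻¹ = g * r x * g⁻¹ := fun x => by
    rw [← hk, ← hr]; group
  have a0 : a ≠ 0 := by
    rintro rfl
    obtain ⟨e', l⟩ := nor_z H (inv_mem hU) c
    exact n e' (by rw [← l, Dt.z, ← h]; group)
  choose f hf using fun x => line H (cjA hg hp) (e := k 1) (fun l => z_ne H one_ne_zero (by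
    have := hk 1
    rwa [l, Dt.z, Dt.z, H.hm.one, conj_eq_one_iff] at this)) a0 ((e 1).trans h) (k x)
  exact ⟨f, c / a, (H.hm.ext ((hf 1).symm.trans ((e 1).trans h))).1 ▸ a0, fun x => (e x).symm.trans (hf x)⟩

theorem aut_core {d' : Dt G} (H' : Fr0 d') (eA : d'.A = d.A) (eU : d'.U = d.U)
    (ez : ∀ e, d'.z e = d.z e) (hg : g ∈ d.N) (hU : g ∈ nor d.U)
    (h1 : ∃ x z, g * d.u 1 0 0 * g⁻¹ = d'.u x 0 z) (h2 : ∃ y z, g * d.u 0 1 0 * g⁻¹ = d'.u 0 y z) :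
    ∃ a b l k σ, l ≠ 0 ∧ k ≠ 0 ∧ ∀ x y z, d'.u a b 0 * (g * d.u x y z * g⁻¹) * (d'.u a b 0)⁻¹ =
      d'.u (l * fr σ x) (k * fr σ y) (l * k * fr σ z) := by
  obtain ⟨f, β, f1, hf⟩ := root_line H' (g := g) (by rwa [Dt.N, eA]) (by rwa [eU]) (eA ▸ H.nA)
    (r := fun x => d.u x 0 0) (fun x => by rw [ez]; exact H.nu 0 x)
    (fun e l => one_ne_zero (H.hm.ext (l.trans (ez e))).1) h1
  obtain ⟨f', α, f1', hf'⟩ := root_line (swap H') (g := g) (show g ∈ d'.N by rwa [Dt.N, eA])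
    (by rwa [swap_U H', eU]) (show d.m ∈ d'.A from eA ▸ H.mA)
    (r := fun x => d.u 0 x 0) (fun x => by rw [swap_z, ez]; exact H.mu 0 x)
    (fun e l => one_ne_zero (H.hm.ext (l.trans ((swap_z e).trans (ez e)))).2.1)
    (by simpa [Dt.swap] using h2)
  choose κ hκ using nor_z H hU
  let φ := MulAut.conj (d'.u α β 0 * g)
  have hφ : ∀ y, φ y = d'.u α β 0 * (g * y * g⁻¹) * (d'.u α β 0)⁻¹ := fun y => cj3 ..
  have p1 : ∀ x, φ (d.u x 0 0) = d'.u (f x) 0 0 := fun x => by rw [hφ, hf, H'.hm.conj]; simp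
  have p2 : ∀ x, φ (d.u 0 x 0) = d'.u 0 (f' x) 0 := fun x => by
    rw [hφ, hf', Dt.swap, H'.hm.conj]; simp
  have p3 : ∀ x, φ (d.u 0 0 x) = d'.u 0 0 (κ x) := fun x => by
    rw [hφ, hκ, ← ez, H'.hm.conj]; simp
  have q1 : ∀ x y, κ (x + y) = κ x + κ y := fun x y => by
    have := map_mul φ (d.u 0 0 x) (d.u 0 0 y)
    rw [H.hm.mul, p3 x, p3 y, H'.hm.mul, add_zero, zero_mul, add_zero, p3] at this
    simpa using (H'.hm.ext this).2.2
  have q2 : ∀ x y, κ (x * y) = f x * f' y := fun x y => by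
    have := map_commutatorElement φ (d.u x 0 0) (d.u 0 y 0)
    rw [H.hm.comm, p1, p2, H'.hm.comm, p3] at this
    simpa using (H'.hm.ext this).2.2
  have r1 : ∀ x, f x = κ x / f' 1 := fun x => by rw [← mul_one x, q2, mul_one]; simp [f1']
  have r2 : ∀ x, f' x = κ x / f 1 := fun x => by rw [← one_mul x, q2, one_mul]; simp [f1]
  obtain ⟨σ, hσ⟩ := exists_fr (φ := fun x => κ x / (f 1 * f' 1))
    (by rw [← mul_one 1, q2, mul_one]; simp [f1, f1']) (fun x y => by rw [q1, add_div])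
    fun x y => by rw [q2, r1 x, r2 y]; field_simp
  have r3 : ∀ x, κ x = f 1 * f' 1 * fr σ x := fun x => by rw [← hσ]; field_simp
  refine ⟨α, β, f 1, f' 1, σ, f1, f1', fun x y z => ?_⟩
  rw [← hφ, show d.u x y z = d.u x 0 0 * d.u 0 0 (z + x * y) * d.u 0 y 0 by
    rw [H.hm.mul, H.hm.mul]; exact cg d.u (by simp) (by simp) (by simp [add_assoc]),
    map_mul, map_mul, p1, p2, p3, H'.hm.mul, H'.hm.mul, q1]
  refine cg d'.u ?_ ?_ ?_
  · rw [r1 x, r3]; field_simp; simp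
  · rw [r2 y, r3]; field_simp; simp
  · simp [← r3, q2, add_assoc]

theorem aut (hg : g ∈ d.N) (hU : g ∈ nor d.U) :
    ∃ a b l k σ τ, l ≠ 0 ∧ k ≠ 0 ∧ d.Ac (d.u a b 0 * g) l k σ τ := by
  rcases perm H hU with ⟨h1, h2⟩ | ⟨h1, h2⟩
  · obtain ⟨a, b, l, k, σ, l0, k0, h⟩ := aut_core H H rfl rfl (fun _ => rfl) hg hU (h1 ..) (h2 ..)
    exact ⟨a, b, l, k, σ, false, l0, k0, fun x y z => (cj3 ..).trans (h x y z)⟩
  · obtain ⟨a, b, l, k, σ, l0, k0, h⟩ := aut_core H (swap H) rfl (swap_U H) swap_z hg hU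
      (by simpa [Dt.swap] using h1 1 0) (by simpa [Dt.swap] using h2 1 0)
    refine ⟨b, a, k, l, σ, true, k0, l0, fun x y z => ?_⟩
    obtain ⟨p, q, r, e⟩ := nor_u H hU x y z
    have := h x y z
    simp only [e, Dt.swap, H.hm.conj] at this
    rw [cj3, e, H.hm.conj, this, if_pos rfl, fr_add, fr_mul]
    exact cg d.u rfl rfl (by ring)

theorem tri (hg : g ∈ d.N) (hz : ∀ e, Commute g (d.z e))
    (h : (∀ a, ∃ e, g * d.u a 0 0 * g⁻¹ = d.u a 0 e) ∨ ∀ b, ∃ e, g * d.u 0 b 0 * g⁻¹ = d.u 0 b e) :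
    ∃ k ∈ d.K, ∃ a b c, g = k * d.u a b c := by
  have z1 : ∀ e, g * d.z e * g⁻¹ = d.z e := fun e => by rw [hz, mul_inv_cancel_right]
  obtain ⟨a, b, l, k, σ, τ, l0, k0, e⟩ := aut H hg (norU H hg one_ne_zero (z1 1))
  have e1 := e 0 0 1
  have e2 := e 0 0 F4.w
  rw [cj3, z1, H.hm.conj] at e1 e2
  obtain ⟨rfl, rfl, rfl, rfl⟩ : l = 1 ∧ k = 1 ∧ σ = false ∧ τ = false := by
    rcases h with h | h <;> obtain ⟨z, e3⟩ := h 1
    · have e4 := e 1 0 0
      rw [cj3, e3, H.hm.conj] at e4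
      cases τ <;> have p1 := (H.hm.ext e1).2.2 <;> have p2 := (H.hm.ext e2).2.2 <;>
        have p3 := (H.hm.ext e4).1 <;> clear * - p1 p2 p3 <;> revert a b l k σ <;> decide
    · have e4 := e 0 1 0
      rw [cj3, e3, H.hm.conj] at e4
      cases τ <;> have p1 := (H.hm.ext e1).2.2 <;> have p2 := (H.hm.ext e2).2.2 <;>
        have p3 := (H.hm.ext e4).2.1 <;> clear * - p1 p2 p3 <;> revert a b l k σ <;> decide
  obtain ⟨k, hk, c, l⟩ := ker H (mul_mem (le_normalizer (H.uA a b 0)) hg) fun x y z =>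
    mul_inv_eq_iff_eq_mul.1 (by simpa using e x y z)
  exact ⟨k, hk, _, _, _, by
    rw [eq_inv_mul_of_mul_eq l, ← mul_assoc, ← comK hk (inv_mem (H.uA ..)), mul_assoc, H.hm.inv,
      H.hm.mul]⟩

end H44.Te
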