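/- TE2, job F2, part b: types of automorphisms and counting. -/
import Cfsg.Agent.H44.TeF2a

set_option autoImplicit false

namespace H44.Te
open Subgroup Cfsg H98 H1.Gold H86.L34 H6 H88.TE
open scoped commutatorElement

universe u

variable {G : Type u} [Group G] {d : Dt G} {g g' k x y s t : G} {l l' r r' a b : F4}
  {σ σ' τ τ' : Bool} {B D E T : Subgroup G}

theorem card_le_mul [Finite G] (T X : Subgroup G) {β : Type} [Finite β] (f : T → β)
    (hf : ∀ x y, f x = f y → (x : G)⁻¹ * y ∈ X) :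
    Nat.card T ≤ Nat.card β * Nat.card ↥(T ⊓ X) := by
  rw [← (X.subgroupOf T).card_mul_index, mul_comm, ← inf_subgroupOf_left,
    Nat.card_congr (subgroupOfEquivOfLe inf_le_left).toEquiv, inf_subgroupOf_left]
  refine Nat.mul_le_mul_right _ (Nat.card_le_card_of_injective
    (fun q : T ⧸ X.subgroupOf T => f q.out) fun p q e => ?_)
  rw [← p.out_eq', ← q.out_eq']
  exact QuotientGroup.eq.2 (hf _ _ e)

theorem mem_of_odd {j o : ℕ} (h : x ^ 2 ^ j = 1) (ho : Odd o) (m : x ^ o ∈ B) : x ∈ B :=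
  zpowers_le.2 m (mem_zpowers_pow_iff.2 (((Nat.coprime_two_right.2 ho).pow_right j).coprime_dvd_right
    (orderOf_dvd_of_pow_eq_one h)))

theorem el_pg (h : El E) : IsPGroup 2 E :=
  isPGroup_iff_forall.2 fun x hx => ⟨1, by simpa [pow_two] using h x hx⟩

theorem el_comm (h : El E) (hx : x ∈ E) (hy : y ∈ E) : Commute x y := by
  have := eq_inv_of_mul_eq_one_left (h _ (mul_mem hx hy))
  rwa [mul_inv_rev, inv_eq_of_mul_eq_one_right (h x hx), inv_eq_of_mul_eq_one_right (h y hy)] at this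

theorem el_cj (h : El E) (y : G) : El (cj y E) := by
  rintro _ ⟨x, hx, rfl⟩
  rw [← map_mul, h x hx, map_one]

theorem pg_sup [Finite G] (hD : IsPGroup 2 D) (hs : s * s = 1) (h : D ≤ cen1 s) :
    IsPGroup 2 ↥(D ⊔ zpowers s) :=
  hD.to_sup_of_normal_left' (isPGroup_zpowers (k := 1) (by simpa [pow_two])) (zpowers_le.2
    (centralizer_le_normalizer _ fun x hx => mem_centralizer_singleton_iff.1 (h hx)))

abbrev P3 : Type := F4 × F4 × F4

/-- The action on coordinates. -/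
def act (l r : F4) (σ τ : Bool) (a b : F4) (p : P3) : P3 :=
  if τ then (l * fr σ p.2.1, r * fr σ p.1,
    l * r * fr σ (p.2.2 + p.1 * p.2.1) + a * (r * fr σ p.1) + b * (l * fr σ p.2.1))
  else (l * fr σ p.1, r * fr σ p.2.1,
    l * r * fr σ p.2.2 + a * (r * fr σ p.2.1) + b * (l * fr σ p.1))

abbrev uu (d : Dt G) (p : P3) : G := d.u p.1 p.2.1 p.2.2

/-- The type of an automorphism. -/
def Ty (d : Dt G) (B : Subgroup G) (g : G) (σ τ : Bool) : Prop :=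
  ∃ a ∈ B, ∃ l r, l ≠ 0 ∧ r ≠ 0 ∧ d.Ac (a * g) l r σ τ

theorem ac_mul (h : d.Ac g l r σ τ) (h' : d.Ac g' l' r' σ' τ') : d.Ac (g * g')
    (l * fr σ (if τ then r' else l')) (r * fr σ (if τ then l' else r')) (xor σ σ') (xor τ τ') := by
  intro a b c
  rw [cj3, h']
  cases τ <;> cases τ' <;> simp only [Bool.false_eq_true, if_false, if_true, Bool.xor_false,
    Bool.xor_true, Bool.not_false, Bool.not_true] <;> rw [h] <;>
    simp only [Bool.false_eq_true, if_false, if_true, fr_add, fr_mul, fr_fr] <;>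
    refine cg d.u (by ring) (by ring) ?_
  · ring
  · ring
  · ring
  · linear_combination (l * r * fr σ l' * fr σ r' * fr (xor σ σ') a * fr (xor σ σ') b) * F4.two_eq

theorem Ty.mul (hg : g ∈ nor B) (h : Ty d B g σ τ) (h' : Ty d B g' σ' τ') :
    Ty d B (g * g') (xor σ σ') (xor τ τ') := by
  obtain ⟨a, ha, l, r, l0, r0, h⟩ := h
  obtain ⟨a', ha', l', r', l0', r0', h'⟩ := h'
  refine ⟨a * (g * a' * g⁻¹), mul_mem ha (H98.conj_mem_of_mem_normalizer hg ha'), _, _, ?_, ?_,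
    (show a * g * (a' * g') = a * (g * a' * g⁻¹) * (g * g') by group) ▸ ac_mul h h'⟩ <;>
    cases τ <;> simp [fr_ne, *]

theorem Ty.mono (h : Ty d B g σ τ) {B' : Subgroup G} (hB : B ≤ B') : Ty d B' g σ τ :=
  let ⟨a, ha, e⟩ := h; ⟨a, hB ha, e⟩

theorem fin_one : ∀ l r σ τ a b, l ≠ 0 → r ≠ 0 → σ = true ∨ τ = true →
    (Finset.univ.filter fun p : P3 => p.2.1 = 0 ∧ act l r σ τ a b p = p).card ≤ 4 ∧
    (Finset.univ.filter fun p : P3 => p.1 = 0 ∧ act l r σ τ a b p = p).card ≤ 4 := by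
  decide +kernel

theorem fin_sig : ∀ l r τ a b, l ≠ 0 → r ≠ 0 → (Finset.univ.filter fun p : P3 =>
    (p.1 = 0 ∧ p.2.1 = 0) ∧ act l r true τ a b p = p).card ≤ 2 := by decide +kernel

theorem fin_tau : ∀ l r a b, (∀ p, act l r false true a b (act l r false true a b p) = p) →
    l * r = 1 ∧ b = a * r ∧ ∀ p, act l r false true a b p = p → p.1 = 0 ∧ p.2.1 = 0 := by
  decide +kernel

set_option synthInstance.maxSize 10000 in
theorem fin_oc : ∀ l r σ τ a b, σ = true ∨ τ = true →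
    (∀ p, act l r σ τ a b (act l r σ τ a b p) = p) → ∀ p : P3, p.1 * p.2.1 = 0 →
    act l r σ τ a b p = p → ∃ q : P3, p = ((act l r σ τ a b q).1 + q.1,
      (act l r σ τ a b q).2.1 + q.2.1, (act l r σ τ a b q).2.2 + (q.2.2 + q.1 * q.2.1) +
        (act l r σ τ a b q).1 * q.2.1) := by decide +kernel

theorem fin_sq : ∀ l r τ a b, (∀ p, act l r true τ a b (act l r true τ a b p) = p) →
    ∃ q : P3, act l r true τ a b q = q ∧ q.1 * q.2.1 ≠ 0 := by decide +kernel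

theorem cj_K (hy : y ∈ d.A) : cj y d.K = d.K :=
  cj_eq_self (normalizer_le_normalizer_centralizer _ (le_normalizer hy))
theorem cj_KA (hy : y ∈ d.A) : cj y (d.K ⊔ d.A) = d.K ⊔ d.A := cj_eq_self_of_mem (mem_sup_right hy)
theorem cj_N (hy : y ∈ d.A) : cj y d.N = d.N := cj_eq_self_of_mem (le_normalizer hy)
theorem conj_KA (hy : y ∈ d.A) : y * x * y⁻¹ ∈ d.K ⊔ d.A ↔ x ∈ d.K ⊔ d.A := by
  rw [← conj_mem_cj_iff (g := y) (x := x), cj_KA hy]
theorem conj_N (hy : y ∈ d.A) (hx : x ∈ d.N) : y * x * y⁻¹ ∈ d.N := cj_N hy ▸ conj_mem_cj hx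
theorem card_cj_inf (hy : y ∈ d.A) (E : Subgroup G) :
    Nat.card ↥(cj y E ⊓ d.K) = Nat.card ↥(E ⊓ d.K) := by
  rw [← card_cj y (E ⊓ d.K), cj_inf, cj_K hy]
theorem conj_sq (h : s * s = 1) (y : G) : y * s * y⁻¹ * (y * s * y⁻¹) = 1 := by
  rw [conj_mul, h, mul_one, mul_inv_cancel]

variable (H : Fr0 d)
include H

theorem uu_inj {p q : P3} (h : uu d p = uu d q) : p = q :=
  Prod.ext (H.hm.ext h).1 (Prod.ext (H.hm.ext h).2.1 (H.hm.ext h).2.2)

theorem Ty.af (h : Ty d d.U g σ τ) : ∃ l r a b, l ≠ 0 ∧ r ≠ 0 ∧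
    ∀ p, g * uu d p * g⁻¹ = uu d (act l r σ τ a b p) := by
  obtain ⟨v, hv, l, r, l0, r0, h⟩ := h
  obtain ⟨a, b, c, rfl⟩ := (mem_U H).1 hv
  refine ⟨l, r, a, b, l0, r0, fun p => ?_⟩
  rw [show g * uu d p * g⁻¹ = (d.u a b c)⁻¹ * (d.u a b c * g * uu d p * (d.u a b c * g)⁻¹) *
    d.u a b c by group, h]
  cases τ <;> exact H.hm.conj' ..

theorem af_inv (hs : s * s = 1) {φ : P3 → P3} (h : ∀ p, s * uu d p * s⁻¹ = uu d (φ p)) (p : P3) :
    φ (φ p) = p := uu_inj H (by rw [← h, ← h, ← cj3, hs]; group)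

theorem Ty.cube (hg : g ∈ d.N) (h : Ty d d.A g false false) : g ^ 3 ∈ d.K ⊔ d.A := by
  obtain ⟨v, hv, l, r, l0, r0, h⟩ := h
  have m := mul_mem (le_normalizer hv) hg
  have c3 : ∀ x : F4, x ≠ 0 → x * (x * x) = 1 := by decide
  obtain ⟨k, hk, e, l⟩ := ker H (mul_mem m (mul_mem m m)) fun a b c =>
    mul_inv_eq_iff_eq_mul.1 ((ac_mul h (ac_mul h h) a b c).trans
      (by simp [c3 l l0, c3 r r0]))
  rw [show g ^ 3 = (v * (g * v * g⁻¹) * (g * (g * v * g⁻¹) * g⁻¹))⁻¹ * (v * g * (v * g * (v * g))) by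
    group, l]
  exact mul_mem (mem_sup_right (inv_mem (mul_mem (mul_mem hv (cjA hg hv)) (cjA hg (cjA hg hv)))))
    (mul_mem_sup hk (H.uA ..))

theorem Ty.inner (hg : g ∈ d.N) (h : Ty d d.A g false false) {j : ℕ} (h2 : g ^ 2 ^ j = 1) :
    g ∈ d.K ⊔ d.A := mem_of_odd h2 (by decide) (h.cube H hg)

theorem Ty.outer (hs : s ∈ d.N) (h : Ty d d.U s σ τ) (h2 : s * s = 1) (n : s ∉ d.K ⊔ d.A) :
    σ = true ∨ τ = true := by
  by_contra e
  simp only [not_or, Bool.not_eq_true] at e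
  obtain ⟨rfl, rfl⟩ := e
  exact n ((h.mono H.syl.le).inner H hs (j := 1) (by simpa [pow_two]))

theorem part_fix (hg : g ∈ d.N) (hU : g ∈ nor d.U) (hk : k ∈ d.K) {p : P3}
    (h : Commute g (k * uu d p)) : g * uu d p * g⁻¹ = uu d p := by
  obtain ⟨x, y, z, e⟩ := nor_u H hU p.1 p.2.1 p.2.2
  have e1 : k⁻¹ * (g * k * g⁻¹) = uu d p * (g * uu d p * g⁻¹)⁻¹ := by
    rw [eq_mul_inv_iff_mul_eq, mul_assoc, conj_mul, h, mul_inv_cancel_right, inv_mul_cancel_left]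
  have m := mul_mem (inv_mem hk) (cjK hg hk)
  rw [e1, e, H.hm.inv, H.hm.mul] at m
  have := KU_one H m
  rw [← H.hm.mul, ← H.hm.inv, ← e] at this
  exact (mul_inv_eq_one.1 this).symm

theorem K_norU : d.K ≤ nor d.U :=
  (centralizer_le H.syl.le).trans (centralizer_le_normalizer _)

variable [Finite G]

theorem tyU (hg : g ∈ d.N) (hU : g ∈ nor d.U) : ∃ σ τ, Ty d d.U g σ τ :=
  let ⟨_, _, l, r, σ, τ, h⟩ := aut H hg hU; ⟨σ, τ, _, uU H _ _ _, l, r, h⟩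

theorem tyA (hg : g ∈ d.N) : ∃ σ τ, Ty d d.A g σ τ := by
  obtain ⟨v, hv, n, hn, e⟩ := H.syl.frattini_mem (inv_mem hg)
  obtain ⟨σ, τ, w, hw, l, r, h⟩ := tyU H (mul_mem (le_normalizer hn) hg)
    (show n * g = v⁻¹ by rw [inv_eq_iff_eq_inv.1 e]; group ▸ inv_mem hv)
  exact ⟨σ, τ, w * n, mul_mem (H.syl.le hw) hn, l, r, by rwa [mul_assoc]⟩

theorem osq (hx : x ∈ sqs d.N) : x ^ 3 ∈ d.K ⊔ d.A := by
  have one : Ty d d.A 1 false false := ⟨1, one_mem _, 1, 1, by simp, by simp, fun a b c => by simp⟩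
  suffices h : x ∈ d.N ∧ Ty d d.A x false false from h.2.cube H h.1
  induction hx using closure_induction with
  | mem x hx =>
    obtain ⟨y, hy, rfl⟩ := hx
    obtain ⟨σ, τ, h⟩ := tyA H hy
    exact ⟨mul_mem hy hy, by simpa using h.mul hy h⟩
  | one => exact ⟨one_mem _, one⟩
  | mul x y _ _ p q => exact ⟨mul_mem p.1 q.1, p.2.mul p.1 q.2⟩
  | inv x _ p =>
    have : ∀ j, Ty d d.A (x ^ j) false false := fun j => by
      induction j with
      | zero => rwa [pow_zero]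
      | succ j ih => exact pow_succ' x j ▸ p.2.mul p.1 ih
    refine ⟨inv_mem p.1, ?_⟩
    rw [inv_eq_of_mul_eq_one_left (show x ^ (orderOf x - 1) * x = 1 by
      rw [← pow_succ, Nat.sub_add_cancel (orderOf_pos x), pow_orderOf_eq_one])]
    exact this _

theorem out4 (hT : T ≤ d.N) (h2 : IsPGroup 2 T) : Nat.card T ≤ 4 * Nat.card ↥(T ⊓ (d.K ⊔ d.A)) := by
  choose σ τ h using fun x : T => tyA H (hT x.2)
  have k : ∀ x y : T, (σ x, τ x) = (σ y, τ y) → (x : G) * y ∈ d.K ⊔ d.A := fun x y e => by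
    obtain ⟨j, hj⟩ := isPGroup_iff_forall.1 h2 _ (mul_mem x.2 y.2)
    obtain ⟨e1, e2⟩ := Prod.ext_iff.1 e
    refine Ty.inner H (hT (mul_mem x.2 y.2)) ?_ hj
    simpa [show σ x = σ y from e1, show τ x = τ y from e2] using (h x).mul (hT x.2) (h y)
  simpa using card_le_mul T (d.K ⊔ d.A) (fun x => (σ x, τ x)) fun x y e => by
    simpa [mul_assoc] using mul_mem (inv_mem (k x x rfl)) (k x y e)

theorem into (hT : T ≤ d.N) (h2 : IsPGroup 2 T) : ∃ y ∈ d.A, cj y T ≤ nor d.U := by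
  obtain ⟨S, hS, l⟩ := exists_isSyl_le h2 (le_sup_right : T ≤ d.A ⊔ T)
  obtain ⟨y, hy, e⟩ := (hS.inf_of_le_normalizer le_sup_left
    (hS.le.trans (sup_le le_normalizer hT))).exists_cj_eq H.syl
  refine ⟨y, hy, ?_⟩
  rw [← e, nor, ← cj_normalizer]
  exact cj_mono y (le_normalizer_inf (le_normalizer_of_le l) hT)

omit [Finite G] in
theorem mem_U_of (hx : x ∈ d.A) (hU : x ∈ nor d.U) {j : ℕ} (h : x ^ 2 ^ j = 1) : x ∈ d.U :=
  zpowers_le.1 (H.syl.le_of_le_normalizer' (isPGroup_zpowers h) (zpowers_le.2 hx) (zpowers_le.2 hU))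

omit [Finite G] in
theorem dec2 (hx : x ∈ d.K ⊔ d.A) (hU : x ∈ nor d.U) {j : ℕ} (h : x ^ 2 ^ j = 1) :
    ∃ k ∈ d.K, ∃ p, x = k * uu d p := by
  obtain ⟨k, hk, v, hv, rfl⟩ := mem_KA.1 hx
  have c := comK hk hv
  have o := H.zodd _ (pow_mem hv (2 ^ j))
    (eq_inv_of_mul_eq_one_right ((c.mul_pow _).symm.trans h) ▸ inv_mem (pow_mem hk _))
  obtain ⟨k', hk', w, hw, e⟩ := (mem_sup_right_norm (N := d.K) (H := d.U) (H.syl.le.trans
    (le_normalizer.trans (normalizer_le_normalizer_centralizer _)))).1 (mem_of_odd h o (by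
      rw [c.mul_pow]
      exact mul_mem_sup (pow_mem hk _) (mem_U_of H (pow_mem hv _) (pow_mem
        (((nor d.U).mul_mem_cancel_left (K_norU H hk)).1 hU) _) (j := j)
        (by rw [← pow_mul, mul_comm, pow_mul, pow_orderOf_eq_one]))))
  obtain ⟨a, b, c, rfl⟩ := (mem_U H).1 hw
  exact ⟨k', hk', (a, b, c), e⟩

theorem cnt (h1 : D ≤ d.K ⊔ d.A) (hU : D ≤ nor d.U) (h2 : IsPGroup 2 D) (P : P3 → Prop)
    [DecidablePred P] (hP : ∀ k ∈ d.K, ∀ p, k * uu d p ∈ D → P p) {c : ℕ}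
    (hc : (Finset.univ.filter P).card ≤ c) : Nat.card D ≤ c * Nat.card ↥(D ⊓ d.K) := by
  choose k hk p e using fun x : D => (isPGroup_iff_forall.1 h2 x x.2).elim fun j hj =>
    dec2 H (h1 x.2) (hU x.2) hj
  refine (card_le_mul D d.K (fun x => (⟨p x, hP _ (hk x) _ (e x ▸ x.2)⟩ : {p // P p}))
    fun x y l => ?_).trans (Nat.mul_le_mul_right _ (by
      rwa [Nat.card_eq_fintype_card, Fintype.card_subtype]))
  rw [e x, e y, ← show p x = p y from congrArg Subtype.val l]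
  have := cjK (inv_mem (le_normalizer (H.uA (p x).1 (p x).2.1 (p x).2.2)))
    (mul_mem (inv_mem (hk x)) (hk y))
  simpa [mul_assoc] using this

omit [Finite G] in
theorem side (h1 : E ≤ d.N) (hU : E ≤ nor d.U) (h2 : El E) :
    (∀ k ∈ d.K, ∀ p, k * uu d p ∈ E → p.2.1 = 0) ∨ ∀ k ∈ d.K, ∀ p, k * uu d p ∈ E → p.1 = 0 := by
  refine or_iff_not_imp_left.2 fun n k hk p m => ?_
  push Not at n
  obtain ⟨k', hk', q, m', n⟩ := n
  have e := h2 _ m'
  rw [← pow_two, (comK hk' (H.uA ..)).mul_pow, H.hm.sq] at e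
  have e1 := (H.hm.inj (KU_one H (eq_inv_of_mul_eq_one_right e ▸ inv_mem (pow_mem hk' 2)))).2.2
  have e2 := part_fix H (h1 m) (hU m) hk' (el_comm h2 m m')
  rw [cj3, cjK_eq hk (cjA (le_normalizer (H.uA ..)) (H.uA ..)), mul_inv_eq_iff_eq_mul] at e2
  simpa [(mul_eq_zero.1 e1).resolve_right n, n] using (comm_iff H).1 e2

theorem rkin (h1 : E ≤ d.K ⊔ d.A) (h2 : El E) :
    ∃ a ∈ d.A, cj a E ≤ d.K ⊔ d.V₁ ∨ cj a E ≤ d.K ⊔ d.V₂ := by
  obtain ⟨y, hy, hU⟩ := into H (h1.trans KA_le) (el_pg h2)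
  have h3 : cj y E ≤ d.K ⊔ d.A := cj_KA hy ▸ cj_mono y h1
  have k := fun x (hx : x ∈ cj y E) => dec2 H (h3 hx) (hU hx) (j := 1)
    (by simpa [pow_two] using el_cj h2 y x hx)
  refine ⟨y, hy, (side H (h3.trans KA_le) hU (el_cj h2 y)).imp (fun h x hx => ?_) fun h x hx => ?_⟩ <;>
    obtain ⟨k, hk, p, rfl⟩ := k x hx
  · exact mul_mem_sup hk (V1_eq H ▸ H.hm.mem_A.2 (h k hk p hx))
  · exact mul_mem_sup hk (V2_eq H ▸ H.hm.mem_B.2 (h k hk p hx))

theorem two0 (hs : s ∈ d.N ⊓ nor d.U) (ht : t ∈ d.N ⊓ nor d.U) (ss : s * s = 1)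
    (ts : Ty d d.U s false true) (tt : Ty d d.U t true τ) (hD : D ≤ (d.K ⊔ d.A) ⊓ cen1 s ⊓ cen1 t)
    (hU : D ≤ nor d.U) (h2 : IsPGroup 2 D) : Nat.card D ≤ 2 * Nat.card ↥(D ⊓ d.K) := by
  obtain ⟨l, r, a, b, -, -, h⟩ := ts.af H
  obtain ⟨l', r', a', b', l0, r0, h'⟩ := tt.af H
  refine cnt H (fun x hx => (hD hx).1.1) hU h2 _ (fun k hk p m => ⟨?_, ?_⟩) (fin_sig l' r' τ a' b' l0 r0)
  · exact (fin_tau l r a b (af_inv H ss h)).2.2 p (uu_inj H ((h p).symm.trans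
      (part_fix H hs.1 hs.2 hk (mem_centralizer_singleton_iff.1 (hD m).1.2).symm)))
  · exact uu_inj H ((h' p).symm.trans
      (part_fix H ht.1 ht.2 hk (mem_centralizer_singleton_iff.1 (hD m).2).symm))

theorem two1 (hs : s ∈ d.N ⊓ nor d.U) (ht : t ∈ d.N ⊓ nor d.U) (ss : s * s = 1) (tt : t * t = 1)
    (c : Commute s t) (n1 : s ∉ d.K ⊔ d.A) (n2 : t ∉ d.K ⊔ d.A) (n3 : s * t ∉ d.K ⊔ d.A)
    (hD : D ≤ (d.K ⊔ d.A) ⊓ cen1 s ⊓ cen1 t) (hU : D ≤ nor d.U) (h2 : IsPGroup 2 D) :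
    Nat.card D ≤ 2 * Nat.card ↥(D ⊓ d.K) := by
  obtain ⟨σ, τ, h⟩ := tyU H hs.1 hs.2
  obtain ⟨σ', τ', h'⟩ := tyU H ht.1 ht.2
  have st : s * t * (s * t) = 1 := by rw [c.symm.mul_mul_mul_comm, ss, tt, mul_one]
  have h'' := h.mul hs.2 h'
  have o1 := h.outer H hs.1 ss n1
  have o2 := h'.outer H ht.1 tt n2
  have o3 := h''.outer H (mul_mem hs.1 ht.1) st n3
  have hD' : D ≤ (d.K ⊔ d.A) ⊓ cen1 (s * t) ⊓ cen1 t := fun x hx => ⟨⟨(hD hx).1.1,
    mem_centralizer_singleton_iff.2 (Commute.mul_right (mem_centralizer_singleton_iff.1 (hD hx).1.2)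
      (mem_centralizer_singleton_iff.1 (hD hx).2))⟩, (hD hx).2⟩
  cases σ <;> cases σ' <;> cases τ <;> cases τ' <;> simp at o1 o2 o3
  · exact two0 H hs ht ss h h' hD hU h2
  · exact two0 H hs ht ss h h' hD hU h2
  · exact two0 H ht hs tt h' h (hD.trans (inf_right_comm ..).le) hU h2
  · exact two0 H ht hs tt h' h (hD.trans (inf_right_comm ..).le) hU h2
  · exact two0 H (mul_mem hs ht) ht st h'' h' hD' hU h2
  · exact two0 H (mul_mem hs ht) ht st h'' h' hD' hU h2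

theorem two (hs : s ∈ d.N) (ht : t ∈ d.N) (ss : s * s = 1) (tt : t * t = 1) (c : Commute s t)
    (n1 : s ∉ d.K ⊔ d.A) (n2 : t ∉ d.K ⊔ d.A) (n3 : s * t ∉ d.K ⊔ d.A)
    (hD : D ≤ (d.K ⊔ d.A) ⊓ cen1 s ⊓ cen1 t) (h2 : IsPGroup 2 D) :
    Nat.card D ≤ 2 * Nat.card ↥(D ⊓ d.K) := by
  obtain ⟨y, hy, hU⟩ := into H (T := D ⊔ zpowers s ⊔ zpowers t) (sup_le (sup_le
    (fun x hx => KA_le (hD hx).1.1) (zpowers_le.2 hs)) (zpowers_le.2 ht))
    (pg_sup (pg_sup h2 ss fun x hx => (hD hx).1.2) tt (sup_le (fun x hx => (hD hx).2)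
      (zpowers_le.2 (mem_centralizer_singleton_iff.2 c))))
  rw [← card_cj y D, ← card_cj_inf hy]
  refine two1 H ⟨conj_N hy hs, hU (conj_mem_cj (mem_sup_left (mem_sup_right (mem_zpowers s))))⟩
    ⟨conj_N hy ht, hU (conj_mem_cj (mem_sup_right (mem_zpowers t)))⟩ (conj_sq ss y) (conj_sq tt y)
    (c.conj y) ((conj_KA hy).not.2 n1) ((conj_KA hy).not.2 n2) (by rwa [conj_mul, conj_KA hy]) ?_
    ((cj_mono y (le_sup_left.trans le_sup_left)).trans hU) (isPGroup_cj y h2)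
  rintro _ ⟨x, hx, rfl⟩
  exact ⟨⟨(conj_KA hy).2 (hD hx).1.1, mem_centralizer_singleton_iff.2
    (Commute.conj (mem_centralizer_singleton_iff.1 (hD hx).1.2) y)⟩, mem_centralizer_singleton_iff.2
    (Commute.conj (mem_centralizer_singleton_iff.1 (hD hx).2) y)⟩

end H44.Te
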