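/- TE2, job F2, part c: outer involutions. -/
import Cfsg.Agent.H44.TeF2b

set_option autoImplicit false

namespace H44.Te
open Subgroup Cfsg H98 H1.Gold H86.L34 H6 H88.TE
open scoped commutatorElement

universe u

variable {G : Type u} [Group G] {d : Dt G} {g k x y s t : G} {l r : F4} {D E T X : Subgroup G}

/-- The conclusion of `sqd`. -/
def Sq (d : Dt G) (s : G) : Prop := ∃ x ∈ sqs (d.A ⊓ cen1 s), orderOf x = 2

theorem sq_conj (hy : y ∈ d.A) (h : Sq d (y * s * y⁻¹)) : Sq d s := by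
  obtain ⟨x, hx, o⟩ := h
  refine ⟨y⁻¹ * x * y, ?_, by simpa [o] using (MulAut.conj y⁻¹).orderOf_eq x⟩
  clear o
  induction hx using closure_induction with
  | mem x hx =>
    obtain ⟨w, hw, rfl⟩ := hx
    refine Subgroup.subset_closure ⟨y⁻¹ * w * y, mem_inf.2 ⟨mul_mem (mul_mem (inv_mem hy) hw.1) hy,
      mem_centralizer_singleton_iff.2 ?_⟩, by group⟩
    simpa [mul_assoc] using (Commute.conj (mem_centralizer_singleton_iff.1 hw.2) y⁻¹).eq
  | one => simp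
  | mul x w _ _ p q => simpa [mul_assoc] using mul_mem p q
  | inv x _ p => simpa [mul_assoc] using inv_mem p

theorem odd_sqs [Finite G] (hx : x ∈ X) (ho : Odd (orderOf x)) : x ∈ sqs X := by
  obtain ⟨j, hj⟩ := ho
  exact Subgroup.subset_closure ⟨x ^ (j + 1), pow_mem hx _, by
    rw [← pow_add, show j + 1 + (j + 1) = orderOf x + 1 by omega, pow_succ, pow_orderOf_eq_one,
      one_mul]⟩

variable [Finite G] (H : Fr0 d)
include H

theorem one0 (hs : s ∈ d.N) (hU : s ∈ nor d.U) (ss : s * s = 1) (n : s ∉ d.K ⊔ d.A)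
    (hD : D ≤ (d.K ⊔ d.A) ⊓ cen1 s) (hU' : D ≤ nor d.U) (h2 : El D) :
    Nat.card D ≤ 4 * Nat.card ↥(D ⊓ d.K) := by
  obtain ⟨σ, τ, h⟩ := tyU H hs hU
  obtain ⟨l, r, a, b, l0, r0, h'⟩ := h.af H
  obtain ⟨c1, c2⟩ := fin_one l r σ τ a b l0 r0 (h.outer H hs ss n)
  have f : ∀ k ∈ d.K, ∀ p, k * uu d p ∈ D → act l r σ τ a b p = p := fun k hk p m =>
    uu_inj H ((h' p).symm.trans
      (part_fix H hs hU hk (mem_centralizer_singleton_iff.1 (hD m).2).symm))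
  rcases side H (fun x hx => KA_le (hD hx).1) hU' h2 with e | e
  · exact cnt H (fun x hx => (hD hx).1) hU' (el_pg h2) _ (fun k hk p m => ⟨e k hk p m, f k hk p m⟩) c1
  · exact cnt H (fun x hx => (hD hx).1) hU' (el_pg h2) _ (fun k hk p m => ⟨e k hk p m, f k hk p m⟩) c2

theorem rkout (hE : E ≤ d.N) (h2 : El E) (n : ¬ E ≤ d.K ⊔ d.A) :
    Nat.card E ≤ 8 * Nat.card ↥(E ⊓ d.K) := by
  wlog hU : E ≤ nor d.U generalizing E
  · obtain ⟨y, hy, hU⟩ := into H hE (el_pg h2)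
    rw [← card_cj y E, ← card_cj_inf hy]
    exact this (cj_N hy ▸ cj_mono y hE) (el_cj h2 y) (by rwa [← cj_KA hy, cj_le_cj_iff]) hU
  obtain ⟨s, hs, n⟩ := SetLike.not_le_iff_exists.1 n
  have e : E ⊓ (d.K ⊔ d.A) ⊓ d.K = E ⊓ d.K := by rw [inf_assoc, inf_eq_right.2 (le_sup_left : d.K ≤ d.K ⊔ d.A)]
  have c : ∀ {s}, s ∈ E → ∀ x ∈ E ⊓ (d.K ⊔ d.A), x ∈ cen1 s := fun hs x hx =>
    mem_centralizer_singleton_iff.2 (el_comm h2 hx.1 hs)
  have h3 : El (E ⊓ (d.K ⊔ d.A)) := fun x hx => h2 x hx.1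
  by_cases h : ∃ t ∈ E, t ∉ d.K ⊔ d.A ∧ s * t ∉ d.K ⊔ d.A
  · obtain ⟨t, ht, n1, n2⟩ := h
    have := two H (hE hs) (hE ht) (h2 s hs) (h2 t ht) (el_comm h2 hs ht) n n1 n2
      (D := E ⊓ (d.K ⊔ d.A)) (fun x hx => ⟨⟨hx.2, c hs x hx⟩, c ht x hx⟩) (el_pg h3)
    have := out4 H hE (el_pg h2)
    rw [e] at *
    omega
  push Not at h
  have h4 := one0 H (hE hs) (hU hs) (h2 s hs) n (D := E ⊓ (d.K ⊔ d.A)) (fun x hx => ⟨hx.2, c hs x hx⟩)
    (inf_le_left.trans hU) h3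
  have h5 := card_le_mul E (d.K ⊔ d.A) (fun x => (x : G) ∈ d.K ⊔ d.A) fun x y l => by
    by_cases m : (x : G) ∈ d.K ⊔ d.A
    · exact mul_mem (inv_mem m) (l ▸ m)
    · simpa [mul_assoc] using mul_mem (inv_mem (h x x.2 m)) (h y y.2 (l ▸ m))
  rw [e] at h4
  rw [show Nat.card Prop = 2 by simp] at h5
  omega

theorem rk (hE : E ≤ d.N) (h2 : El E) : Nat.card E ≤ 16 * Nat.card ↥(E ⊓ d.K) := by
  by_cases n : E ≤ d.K ⊔ d.A
  swap
  · have := rkout H hE h2 n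
    omega
  obtain ⟨y, hy, hU⟩ := into H hE (el_pg h2)
  have h3 : cj y E ≤ d.K ⊔ d.A := cj_KA hy ▸ cj_mono y n
  rw [← card_cj y E, ← card_cj_inf hy]
  rcases side H (h3.trans KA_le) hU (el_cj h2 y) with e | e
  · exact cnt H h3 hU (el_pg (el_cj h2 y)) _ e (by decide +kernel)
  · exact cnt H h3 hU (el_pg (el_cj h2 y)) _ e (by decide +kernel)

theorem oc (hs : s ∈ d.N) (ss : s * s = 1) (n : s ∉ d.K ⊔ d.A) (hx : x ∈ d.A) (xx : x * x = 1)
    (c : Commute s x) : ∃ a ∈ d.A, a * s * a⁻¹ = s * x := by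
  wlog hU : s ∈ nor d.U ∧ x ∈ nor d.U generalizing s x
  · obtain ⟨y, hy, hU⟩ := into H (T := zpowers x ⊔ zpowers s)
      (sup_le (zpowers_le.2 (le_normalizer hx)) (zpowers_le.2 hs))
      (pg_sup (isPGroup_zpowers (k := 1) (by simpa [pow_two])) ss
        (zpowers_le.2 (mem_centralizer_singleton_iff.2 c.symm)))
    obtain ⟨a, ha, e⟩ := this (conj_N hy hs) (conj_sq ss y) ((conj_KA hy).not.2 n)
      (cjA (le_normalizer hy) hx) (conj_sq xx y) (c.conj y)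
      ⟨hU (conj_mem_cj (mem_sup_right (mem_zpowers s))), hU (conj_mem_cj (mem_sup_left (mem_zpowers x)))⟩
    refine ⟨y⁻¹ * a * y, mul_mem (mul_mem (inv_mem hy) ha) hy, ?_⟩
    calc _ = y⁻¹ * (a * (y * s * y⁻¹) * a⁻¹) * y := by group
      _ = _ := by rw [e]; group
  obtain ⟨α, β, γ, rfl⟩ := (mem_U H).1 (mem_U_of H hx hU.2 (j := 1) (by simpa [pow_two]))
  obtain ⟨σ, τ, h⟩ := tyU H hs hU.1
  obtain ⟨l, r, a, b, -, -, h'⟩ := h.af H
  obtain ⟨q, e⟩ := fin_oc l r σ τ a b (h.outer H hs ss n) (af_inv H ss h') (α, β, γ)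
    (H.hm.inj ((H.hm.sq ..).symm.trans ((pow_two _).trans xx))).2.2
    (uu_inj H ((h' _).symm.trans (mul_inv_eq_iff_eq_mul.2 c)))
  refine ⟨uu d q, H.uA .., ?_⟩
  rw [show d.u α β γ = uu d (α, β, γ) from rfl, e, uu, uu, ← H.hm.mul, ← H.hm.inv,
    ← show s * uu d q * s⁻¹ = d.u _ _ _ from h' q,
    inv_eq_of_mul_eq_one_right ss, ← mul_assoc, ← mul_assoc, ← mul_assoc, ss, one_mul]

theorem sq_tau (hs : s ∈ d.N) (ss : s * s = 1) (e : l * r = 1) (h : d.Ac s l r false true) :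
    Sq d s := by
  have h1 : d.Ac d.h F4.v F4.v false false := H.hu
  have i := inv_eq_of_mul_eq_one_right ss
  have sz : ∀ e, s * d.z e * s⁻¹ = d.z e := fun c => by simpa [e] using h 0 0 c
  have zz : ∀ e e', d.z e * d.z e' = d.z (e + e') := fun e e' => by simp [H.hm.mul]
  have m := mul_mem (inv_mem H.hA) (cjA hs H.hA)
  obtain ⟨ζ, hζ, c, e1⟩ := ker H (le_normalizer m) fun x y z => mul_inv_eq_iff_eq_mul.1 (by
    have k : s * d.h * s * d.u x y z * (s * d.h * s)⁻¹ = d.h * d.u x y z * d.h⁻¹ := by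
      rw [ac_mul (ac_mul h h1) h, H.hu]
      exact cg d.u (by clear * - e; revert l r x; decide) (by clear * - e; revert l r y; decide)
        (by clear * - e; revert l r z; decide)
    rw [cj3, i, k]
    group)
  have ζA : ζ ∈ d.A := (d.A.mul_mem_cancel_right (H.uA ..)).1 (e1 ▸ m)
  obtain ⟨β, hβ⟩ : ∃ β, l * β * β = F4.v * c := by clear * - e; revert l r c; decide
  refine sq_conj (H.uA (l * β) β 0) ?_
  have e2 : d.u (l * β) β 0 * s * (d.u (l * β) β 0)⁻¹ = s * d.z (F4.v * c) := by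
    calc _ = s * (s * d.u (l * β) β 0 * s⁻¹ * (d.u (l * β) β 0)⁻¹) := by
          rw [i]; simp only [← mul_assoc, ss, one_mul]
      _ = _ := by
          rw [h, if_pos rfl, H.hm.inv, H.hm.mul, ← hβ]
          exact congrArg _ (cg d.u (by simp) (by clear * - e; revert l r β; decide) (by simp [e]))
  have ss' := conj_sq ss (d.u (l * β) β 0)
  have hs' := conj_N (H.uA (l * β) β 0) hs
  rw [e2] at ss' hs' ⊢
  have e3 : s * d.z (F4.v * c) * d.h * (s * d.z (F4.v * c))⁻¹ = d.h * ζ := by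
    have k : d.z (F4.v * c) * d.h * (d.z (F4.v * c))⁻¹ = d.h * d.z c := by
      rw [← mul_inv_eq_iff_eq_mul.1 (show d.h * d.z (F4.w * c) * d.h⁻¹ = d.z (F4.v * c) from
        (H.hu ..).trans (cg d.u (by simp) (by simp) (by clear * -; revert c; decide))),
        H.hm.inv, mul_assoc, H.hm.mul]
      exact congrArg _ (cg d.u (by simp) (by simp) (by clear * -; revert c; decide))
    rw [cj3, k, ← conj_mul, sz, inv_mul_eq_iff_eq_mul.1 e1, mul_assoc, mul_assoc, zz, F4.add_self,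
      Dt.z, H.hm.one, mul_one]
  have sz' : Commute (s * d.z (F4.v * c)) (d.z 1) :=
    Commute.mul_left (mul_inv_eq_iff_eq_mul.1 (sz 1)) (z_comm H ..)
  generalize s * d.z (F4.v * c) = t at ss' hs' e3 sz'
  have e4 : t * ζ * t⁻¹ = ζ⁻¹ := by
    have : t * (t * d.h * t⁻¹) * t⁻¹ = d.h := by rw [← cj3, ss']; group
    rw [e3, ← conj_mul, e3, mul_assoc, mul_eq_left] at this
    exact eq_inv_of_mul_eq_one_right this
  obtain ⟨j, hj⟩ := H.zodd ζ ζA hζ
  have c1 : Commute d.h (ζ ^ (j + 1)) := (comK (pow_mem hζ _) H.hA).symm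
  have m1 : d.h * ζ ^ (j + 1) ∈ d.A ⊓ cen1 t := ⟨mul_mem H.hA (pow_mem ζA _),
    mem_centralizer_singleton_iff.2 (mul_inv_eq_iff_eq_mul.1 (by
      rw [← conj_mul, ← conj_pow, e3, e4, mul_assoc, inv_pow, mul_right_inj,
        mul_inv_eq_iff_eq_mul, ← pow_add, show j + 1 + (j + 1) = orderOf ζ + 1 by omega, pow_succ,
        pow_orderOf_eq_one, one_mul])).symm⟩
  have o1 : Odd (orderOf (d.h * ζ ^ (j + 1))) := Odd.of_dvd_nat
    (Odd.mul (by decide : Odd 3) ⟨j, hj⟩) (orderOf_dvd_of_pow_eq_one (by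
      rw [c1.mul_pow, pow_mul, H.h3, one_pow, one_mul, ← pow_mul, mul_comm, mul_comm 3, mul_assoc,
        pow_mul, pow_orderOf_eq_one, one_pow]))
  have m2 : d.z 1 ∈ d.A ⊓ cen1 t := ⟨H.uA .., mem_centralizer_singleton_iff.2 sz'.symm⟩
  refine ⟨_, mul_mem (odd_sqs (mul_mem (mul_mem (inv_mem m2) m1) m2) (by
    rw [← (MulAut.conj (d.z 1)⁻¹).orderOf_eq] at o1; simpa using o1)) (inv_mem (odd_sqs m1 o1)), ?_⟩
  rw [mul_assoc _ (d.z 1), mul_assoc, ← mul_assoc _ (d.z 1), cj3,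
    cjK_eq (pow_mem hζ _) (H.uA ..), H.hu, H.hm.inv, H.hm.mul]
  exact orderOf_eq_prime (by rw [H.hm.sq]; simpa using H.hm.one)
    fun l => absurd (H.hm.inj l).2.2 (by decide)

theorem sqd (hs : s ∈ d.N) (ss : s * s = 1) (n : s ∉ d.K ⊔ d.A) : Sq d s := by
  wlog hU : s ∈ nor d.U generalizing s
  · obtain ⟨y, hy, hU⟩ := into H (zpowers_le.2 hs) (isPGroup_zpowers (k := 1) (by simpa [pow_two]))
    exact sq_conj hy (this (conj_N hy hs) (conj_sq ss y) ((conj_KA hy).not.2 n)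
      (hU (conj_mem_cj (mem_zpowers s))))
  obtain ⟨σ, τ, h⟩ := tyU H hs hU
  obtain ⟨l, r, a, b, -, -, h'⟩ := h.af H
  cases σ
  · obtain rfl : τ = true := by simpa using h.outer H hs ss n
    obtain ⟨e, rfl, -⟩ := fin_tau l r a b (af_inv H ss h')
    refine sq_conj (H.uA a 0 0) (sq_tau H (conj_N (H.uA ..) hs) (conj_sq ss _) e fun x y z => ?_)
    rw [cj3, cj3, inv_inv, H.hm.conj', show d.u x y _ = uu d (x, y, _) from rfl, h', H.hm.conj]
    exact cg d.u rfl rfl (by clear * - e; revert l r a x y z; decide +kernel)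
  obtain ⟨q, e, q0⟩ := fin_sq l r τ a b (af_inv H ss h')
  refine ⟨_, Subgroup.subset_closure ⟨uu d q, ⟨H.uA .., mem_centralizer_singleton_iff.2
    (mul_inv_eq_iff_eq_mul.1 ((h' q).trans (congrArg _ e))).symm⟩, rfl⟩, ?_⟩
  rw [← pow_two, H.hm.sq]
  exact orderOf_eq_prime (by rw [H.hm.sq]; simpa using H.hm.one) (z_ne H q0)

omit [Finite G] H in
theorem jobF2 : JobF2.{u} := fun _ _ _ _ H =>
  { H with
    cls := fun _ => cls H
    dec := fun _ => dec H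
    norU := fun _ hg _ he _ => norU H hg he
    aut := fun _ => aut H
    ker := fun _ => ker H
    inn := fun _ hg _ _ _ _ => inn H hg
    tri₁ := fun _ hg hz h => tri H hg hz (.inl h)
    tri₂ := fun _ hg hz h => tri H hg hz (.inr h)
    rkin := fun _ => rkin H
    rkout := fun _ => rkout H
    rk := fun _ => rk H
    out4 := fun _ => out4 H
    osq := fun _ => osq H
    oc := fun _ hs ss n _ => oc H hs ss n
    sqd := fun _ => sqd H
    two := fun _ hs _ ht ss tt c n1 n2 n3 _ => two H hs ht ss tt c n1 n2 n3 }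

end H44.Te
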