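/- STD-2E6, slot FE: fixed points of involutory automorphisms. -/
import Cfsg.Agent.H78.TEDef
import Cfsg.Agent.H64.SGFE
import Cfsg.Agent.H4.ClassMisc

set_option autoImplicit false
set_option linter.unusedSectionVars false

namespace H44.TEFE

open Cfsg.Lie H63 H65 H64 H64.SG H68 H46.SF Subgroup H78.TE H98 H64.SGE
open scoped Pointwise

theorem map_O2_le {G : Type*} [Group G] (f : MulAut G) {A B : Subgroup G} (h : ∀ a ∈ A, f a ∈ B) :
    (O2 A).map f.toMonoidHom ≤ O2 B := by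
  rw [O2, MonoidHom.map_closure]
  refine closure_mono ?_
  rintro _ ⟨g, ⟨h1, h2⟩, rfl⟩
  exact ⟨h g h1, by rwa [MulEquiv.coe_toMonoidHom, f.orderOf_eq]⟩

theorem bound0 {G : Type*} [Group G] [Finite G] {U R : Subgroup G} (hU : IsSyl 2 U ⊤) {α : MulAut G}
    (e : Is2 α) (h1 : IsPGroup 2 R) (h2 : R ≤ fx α) :
    ∃ g, U.map (MulAut.conj g * α * (MulAut.conj g)⁻¹).toMonoidHom = U ∧
      Nat.card R ≤ Nat.card ↥(U ⊓ fx (MulAut.conj g * α * (MulAut.conj g)⁻¹)) := by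
  have : Fact (Nat.Prime 2) := ⟨Nat.prime_two⟩
  have hB : IsPGroup 2 ↥(R.map MulAut.conj ⊔ zpowers α) := (h1.map _).to_sup_of_normal_left'
    e.zpowers (zpowers_le.2 (Cs_le_Ns _ (by
      rintro _ ⟨y, hy, rfl⟩
      rw [H37.Sg.mul_conj, mem_fx.1 (h2 hy)])))
  obtain ⟨P, rfl⟩ := isSyl_top_iff.1 hU
  obtain ⟨Q, hQ⟩ := hB.nonempty_fixed_point_of_prime_not_dvd_card (Sylow 2 G)
    (not_dvd_card_sylow 2 G)
  obtain ⟨g, rfl⟩ := MulAction.exists_smul_eq G Q P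
  have hg : ∀ β ∈ R.map MulAut.conj ⊔ zpowers α, ((g • Q : Sylow 2 G) : Subgroup G).map
      (MulAut.conj g * β * (MulAut.conj g)⁻¹).toMonoidHom = (g • Q : Sylow 2 G) := fun β hβ => by
    have h1 : β • (Q : Subgroup G) = Q := congrArg (fun Q : Sylow 2 G => (Q : Subgroup G)) (hQ ⟨β, hβ⟩)
    show (MulAut.conj g * β * (MulAut.conj g)⁻¹) • (MulAut.conj g • (Q : Subgroup G)) =
      MulAut.conj g • (Q : Subgroup G)
    rw [mul_smul, inv_smul_smul, mul_smul, h1]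
  refine ⟨g, hg α (mem_sup_right (mem_zpowers α)), Nat.card_le_card_of_injective
    (fun y => ⟨g * y * g⁻¹, ?_, by simp [mem_fx, mul_assoc, mem_fx.1 (h2 y.2)]⟩)
    fun a b e => by simpa using congrArg Subtype.val e⟩
  exact ((IsPGroup.inf_normalizer_sylow ((isPGroup_iff_is2.1 h1 _ y.2).conj g).zpowers (g • Q)).le
    ⟨mem_zpowers _, mem_normalizer_iff_map_conj_eq.2 (by
      simpa [map_mul] using hg _ (mem_sup_left (mem_map_of_mem _ y.2)))⟩).2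

variable {F K : Type} [Field F] [Finite F] [CharP F 2] [Field K] [Finite K] [CharP K 2] {T : Qd F K}
  (k : T.KB) {α : MulAut T.X}

theorem cube {s : Rt E6} (hs : gm s ≠ s) : (T.xs s 1 * T.xs (ng s) 1) ^ 3 = 1 := by
  have c : ∀ s : Rt E6, gm s ≠ s → 0 ≤ ip s (gm s) ∧ 0 ≤ ip s (ng (gm s)) ∧ 0 ≤ ip (ng s) (gm s) ∧
    0 ≤ ip (ng s) (ng (gm s)) := by decide +kernel
  obtain ⟨c1, c2, c3, c4⟩ := c s hs
  have c5 : Commute (xG E6 K s 1 * xG E6 K (ng s) 1) (xG E6 K (gm s) 1 * xG E6 K (ng (gm s)) 1) :=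
    .mul_left (.mul_right (cY c1 1 1) (cY c2 1 1)) (.mul_right (cY c3 1 1) (cY c4 1 1))
  refine Subtype.ext ?_
  rw [coe_pow, coe_mul, T.xs_val, T.xs_val, map_one, gm_ng, mul_assoc,
    ← mul_assoc (xG E6 K (gm s) 1), ← cY c3, mul_assoc, ← mul_assoc, c5.mul_pow, ng_eq, ng_eq,
    x_neg_cube (stY K).toStN, x_neg_cube (stY K).toStN, one_mul, coe_one]

section
variable (hα : ∀ r u, 0 ≤ a2 r → α (T.xs r u) = T.xs r (T.σ u))
include k hα

theorem memx (r : Rt D4) (h : 0 ≤ a2 (lr r)) (c : F) : T.x r c ∈ fx α := by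
  obtain ⟨w, hw⟩ := k.half
  rw [← T.xs_lr r (u := w * T.ι c) (by rw [map_mul, T.fi, ← add_mul, hw, one_mul]), mem_fx,
    hα _ _ h, ← T.xs_gm, gm_lr]

theorem o2s {u : Rt E6} (hu : gm u ≠ u) (h : 0 ≤ a2 u) (a : F) : T.xs u (T.ι a) ∈ O2 (fx α) := by
  have c : ∀ u : Rt E6, gm u ≠ u → 0 ≤ a2 u → ∃ s, gm s ≠ s ∧ 0 ≤ a2 s ∧ 0 ≤ a2 (ng s) ∧
      ∃ v, ip s v = -1 ∧ su s v = u ∧ 0 ≤ ip s (gm v) ∧ 0 ≤ a2 v ∧ 0 ≤ ip (ng s) v ∧
        0 ≤ ip (ng s) (gm v) := by decide +kernel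
  obtain ⟨s, s1, s2, s3, v, v1, rfl, v2, v3, v4, v5⟩ := c u hu h
  have m := conj_O2 (mem_O2_of_odd (mul_mem (mem_fx.2 ((hα s 1 s2).trans (by rw [map_one])))
    (mem_fx.2 ((hα _ 1 s3).trans (by rw [map_one])))) (odd_orderOf_of_pow (by decide) (cube s1)))
    (mem_fx.2 ((hα v (T.ι a) v3).trans (by rw [T.fi])))
  rwa [mul_assoc (T.xs s 1), k.c0 _ _ v4 v5, mul_inv_rev, ← mul_assoc (T.xs s 1),
    ← mul_assoc (_ * T.xs (ng s) 1), mul_inv_cancel_right, k.cs _ _ v1 v2, inv_mul_cancel_left,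
    one_mul] at m

theorem o2l (v : Rt D4) (h : 0 ≤ a2 (lr v)) (c : F) : T.x v c ∈ O2 (fx α) := by
  have d : ∀ v : Rt D4, 0 ≤ a2 (lr v) → ∃ r : Rt D4, 0 ≤ a2 (lr r) ∧ ∃ s, gm s ≠ s ∧
      ip (lr r) s = -1 ∧ lr v = su (su (lr r) s) (gm s) ∧ 0 ≤ a2 s ∧ 0 ≤ a2 (su (lr r) s) ∧
        gm (su (lr r) s) ≠ su (lr r) s := by decide +kernel
  obtain ⟨r, r1, s, s1, s2, s3, s4, s5, s6⟩ := d v h
  have m := conj_O2 (o2s k hα s1 s4 1) (memx k hα r r1 c)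
  rw [k.cj r v s s1 s2 s3 _ 1 c (by simp), mul_assoc, inv_mul_cancel_left, ← map_mul, mul_one] at m
  exact (mul_mem_cancel_left (o2s k hα s6 s5 c)).1 m

theorem big0 : Nat.card F ^ 24 ≤ Nat.card ↥(T.U ⊓ O2 (fx α)) := by
  let S : Finset (Rt E6) := Finset.univ.filter fun r => 36 ≤ r.1 ∧ r ≤ gm r
  have hS : ∀ r ∈ S.toList, 36 ≤ r.1 ∧ r ≤ gm r := fun r hr => by simpa [S] using hr
  have p : ∀ r : Rt E6, 36 ≤ r.1 → 0 ≤ a2 r := by decide +kernel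
  have := card_ge (stY K).rgd rfl (stY K) (ρ := Function.Involutive.toPerm gm gm_gm) (σ := T.σ)
    gm_gm (fun _ => pos_gm.2) (K := (T.U ⊓ O2 (fx α)).map (fx T.ph).subtype) S.nodup_toList
    (fun r hr => ⟨pos_iff.2 (hS r hr).1, (hS r hr).2⟩) (A := S → F)
    (fun f r => if h : r ∈ S then T.ι (f ⟨r, h⟩) else 0) (fun a b h => funext fun r =>
      T.ι.injective (by simpa only [r.2, dif_pos] using h r (Finset.mem_toList.2 r.2))) fun f r hr => by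
      have h1 := (hS r hr).1
      rw [dif_pos (Finset.mem_toList.1 hr), Xo]
      split_ifs with e
      · obtain ⟨v, rfl⟩ := exists_lr r e
        exact ⟨T.x v _, ⟨k.x_mem v h1 _, o2l k hα v (p _ h1) _⟩, T.x_val v _⟩
      · exact ⟨T.xs r _, ⟨T.xs_mem h1 _, o2s k hα e (p _ h1) _⟩, rfl⟩
  rwa [Nat.card_fun, Nat.card_eq_fintype_card (α := S), Fintype.card_coe,
    show S.card = 24 by decide +kernel, card_map_of_injective (subtype_injective _)] at this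

end

include k

theorem big (b : T.BR) (o : T.FO) (e : α * α = 1) (ho : ∀ g, α ≠ MulAut.conj g) :
    ∃ P ≤ O2 (fx α), IsPGroup 2 P ∧ Nat.card F ^ 24 ≤ Nat.card P := by
  obtain ⟨β, γ, c, h1, h2⟩ := o α e ho
  refine ⟨(T.U ⊓ O2 (fx (β * α * β⁻¹))).map β⁻¹.toMonoidHom, (map_mono inf_le_right).trans
    (map_O2_le _ fun a ha => β.injective (by simpa using mem_fx.1 ha)), k.isP.to_inf_left.map _, ?_⟩
  rw [card_map_of_injective β⁻¹.injective]
  refine big0 k fun r u h => ?_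
  rw [h2, MulAut.mul_apply, MulAut.conj_apply, k.cx _ _ (by rwa [lr_hi, ip_hi]),
    mul_inv_cancel_right, b.act γ 1 _ h1, chr_one, Units.val_one, one_mul]

theorem cardU : Nat.card T.U = Nat.card F ^ 36 := by
  rw [k.card SU (by decide +kernel)]
  exact congrArg _ (by decide +kernel)

theorem szW {t : T.X} (ht : t ∈ T.W) : Nat.card F ^ 20 ≤ Nat.card ↥(T.U ⊓ Cz t) := by
  have h1 : T.U ≤ Ns T.W := T.gt_le.2 fun r hr => k.nrm SW (by decide +kernel) r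
    ((by decide +kernel : ∀ r ∈ SU, ∀ s ∈ SW, s ≠ ng r ∧ (ip r s = -1 → su r s ∈ SW)) r hr)
  have h2 : (Cz t).relIndex T.U ≤ Nat.card F ^ 11 := by
    rw [H4.relIndex_cent_eq_ncard, show 11 = (Finset.univ.filter (· ∈ SW)).card by decide +kernel,
      ← k.card SW (by decide +kernel)]
    refine Set.ncard_le_ncard (t := (T.W : Set T.X)) ?_
    rintro _ ⟨d, hd, rfl⟩
    exact conj_mem_of_mem_normalizer (h1 hd) ht
  have h3 := ((Cz t).subgroupOf T.U).card_mul_index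
  rw [← inf_subgroupOf_left, Nat.card_congr (subgroupOfEquivOfLe inf_le_left).toEquiv,
    inf_subgroupOf_left, cardU k] at h3
  refine (Nat.pow_le_pow_right Nat.card_pos (by norm_num : 20 ≤ 25)).trans
    (Nat.le_of_mul_le_mul_right ?_ (pow_pos (Nat.card_pos (α := F)) 11))
  rw [← pow_add, ← h3]
  exact Nat.mul_le_mul_left _ h2

omit k in
theorem jobFE : H78.TE.JobFE := by
  intro F K _ _ _ _ _ _ T k tb b ic o ub
  have : Fact (Nat.Prime 2) := ⟨Nat.prime_two⟩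
  refine ⟨fun α e ho y hy y2 => ?_, fun β e => ?_⟩
  · obtain ⟨P, p1, p2, p3⟩ := big k b o e ho
    obtain ⟨R, hR⟩ := exists_isSyl 2 (fx α)
    obtain ⟨g, g1, g2⟩ := bound0 (syl_iff.1 tb.syl) (is2_of_sq e) hR.isPGroup hR.le
    have h1 := ub.ub _ g1 ((is2_of_sq e).conj _) fun a _ ha => ho (g⁻¹ * a * g) (by
      rw [map_mul, map_mul, ← ha, map_inv]; group)
    rw [cardU k, show 36 = 12 + 24 from rfl, pow_add] at h1
    obtain ⟨a, a1, a2⟩ := (hR.of_card_ge p2 (p1.trans (O2_le _)) (g2.trans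
      ((Nat.le_of_mul_le_mul_left h1 (pow_pos Nat.card_pos 12)).trans p3))).exists_cj_le
      (is2_of_sq y2).zpowers (zpowers_le.2 hy)
    exact (mem_normalizer_iff.1 (Ns_le_Ns_O2 _ (le_normalizer a1)) y).2
      (p1 (a2 (mem_map_of_mem _ (mem_zpowers y))))
  by_cases ho : ∀ g, β ≠ MulAut.conj g
  · obtain ⟨P, p1, p2, p3⟩ := big k b o e ho
    exact ⟨P, p1.trans (O2_le _), p2,
      (Nat.pow_le_pow_right Nat.card_pos (by norm_num)).trans p3⟩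
  push Not at ho
  obtain ⟨g, rfl⟩ := ho
  obtain ⟨t, t1, t2⟩ : ∃ t ∈ T.W, IsConj t g := by
    by_cases g1 : g = 1
    · exact ⟨1, one_mem _, g1 ▸ IsConj.refl _⟩
    rcases ic.ic g ⟨tb.cen _ (by rw [map_mul, e]), g1⟩ with h | h | h
    · exact ⟨_, k.x_mem (hi D4) (by decide +kernel) 1, h.symm⟩
    · exact ⟨_, T.xs_mem (by decide +kernel) 1, h.symm⟩
    · exact ⟨_, mul_mem (T.xs_mem (by decide +kernel) 1)
        (k.x_mem ⟨20, by decide⟩ (by decide +kernel) 1), h.symm⟩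
  obtain ⟨a, rfl⟩ := isConj_iff.1 t2
  refine ⟨cjs a (T.U ⊓ Cz t), ?_, k.isP.to_inf_left.map _, ?_⟩
  · rintro _ ⟨y, hy, rfl⟩
    rw [fx_conj, mem_Cz]
    change _ * (a * y * a⁻¹) = a * y * a⁻¹ * _
    rw [conj_mul, conj_mul, mem_Cz.1 hy.2]
  · rw [card_map_of_injective (MulAut.conj a).injective]
    exact szW k t1

end H44.TEFE
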