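/- STS tower, slot 1: `t` is moved to `t z`. -/
import Cfsg.Agent.H25.STBase

set_option autoImplicit false
set_option linter.unusedSectionVars false

namespace H44.STJ1

open H64.SG Subgroup H25.ST
open scoped commutatorElement

universe u

/-- The product of the conjugates of `t` in an abelian subgroup. -/
theorem sigma {G : Type*} [Group G] [Finite G] {F N : Subgroup G} {t : G}
    (hc : ∀ a ∈ F, ∀ b ∈ F, a * b = b * a) (ht : t ∈ F) (tt : t * t = 1)
    (hN : ∀ u ∈ F, IsConj t u → t⁻¹ * u ∈ N) (ho : Odd {u | u ∈ F ∧ IsConj t u}.ncard) :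
    ∃ s, t⁻¹ * s ∈ N ∧ ∀ m ∈ Ns F, m * s * m⁻¹ = s := by
  classical
  let _ : CommGroup F := { (inferInstance : Group F) with
    mul_comm := fun a b => Subtype.ext (hc a a.2 b b.2) }
  have := Fintype.ofFinite F
  let A : Finset F := Finset.univ.filter fun x => IsConj t (x : G)
  have h1 : Odd A.card := by
    rwa [← Set.ncard_coe_finset, ← Set.ncard_image_of_injective _ Subtype.val_injective,
      show Subtype.val '' (A : Set F) = {u | u ∈ F ∧ IsConj t u} from Set.ext fun u =>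
        ⟨by rintro ⟨x, hx, rfl⟩; exact ⟨x.2, by simpa [A] using hx⟩,
          fun hu => ⟨⟨u, hu.1⟩, by simpa [A] using hu.2, rfl⟩⟩]
  refine ⟨(∏ x ∈ A, x : F), ?_, fun m hm => ?_⟩
  · have h2 : (∏ x ∈ A, (⟨t, ht⟩ : F)⁻¹ * x) ∈ N.subgroupOf F :=
      prod_mem fun x hx => hN x x.2 (by simpa [A] using hx)
    obtain ⟨k, hk⟩ := h1
    rw [Finset.prod_mul_distrib, Finset.prod_const, hk, inv_pow, pow_succ, pow_mul, pow_two,
      show (⟨t, ht⟩ : F) * ⟨t, ht⟩ = 1 from Subtype.ext tt, one_pow, one_mul] at h2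
    exact h2
  · let φ := F.normalizerMonoidHom ⟨m, hm⟩
    have h2 : φ (∏ x ∈ A, x) = ∏ x ∈ A, x := by
      rw [map_prod]
      refine Finset.prod_equiv φ.toEquiv (fun x => ?_) fun x _ => rfl
      have h3 : IsConj (x : G) (φ x : G) := isConj_iff.2 ⟨m, rfl⟩
      simp only [A, Finset.mem_filter, Finset.mem_univ, true_and]
      exact ⟨fun c => c.trans h3, fun c => c.trans h3.symm⟩
    exact congrArg Subtype.val h2

variable {X : Type} [Group X] {G : Type u} [Group G] [Finite G] {e : X →* G} {t g u : G}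
  {O : Subgroup G} {A : Subgroup X} {x y z b : X}

/-- The group `⟨t⟩ × e A`. -/
def tE (h : B1 e t) (A : Subgroup X) : Subgroup G where
  carrier := {u | ∃ x ∈ A, u = e x ∨ u = t * e x}
  one_mem' := ⟨1, one_mem _, .inl (map_one e).symm⟩
  mul_mem' := by
    rintro _ _ ⟨x, hx, rfl | rfl⟩ ⟨y, hy, rfl | rfl⟩ <;> refine ⟨x * y, mul_mem hx hy, ?_⟩ <;>
      rw [map_mul]
    · exact .inl rfl
    · exact .inr (by rw [← mul_assoc, ← h.comm, mul_assoc])
    · exact .inr (mul_assoc _ _ _)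
    · exact .inl (by rw [h.comm, mul_assoc, ← mul_assoc t, h.tt, one_mul])
  inv_mem' := by
    rintro _ ⟨x, hx, rfl | rfl⟩ <;> refine ⟨x⁻¹, inv_mem hx, ?_⟩
    · exact .inl (map_inv _ _).symm
    · exact .inr (by rw [mul_inv_rev, h.inv_eq, h.comm, map_inv])

theorem te_ne (h : B1 e t) (hF : F0 X) (x y : X) : e x ≠ t * e y := fun c =>
  h.t_ne hF (x * y⁻¹) (by rw [map_mul, c, map_inv, mul_inv_cancel_right])

theorem card_tE (h : B1 e t) (hF : F0 X) (A : Subgroup X) :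
    Nat.card (tE h A) = 2 * Nat.card A := by
  have := hF.fin
  have h1 : (tE h A : Set G) = e '' A ∪ (fun x => t * e x) '' A := Set.ext fun u =>
    ⟨by rintro ⟨x, hx, rfl | rfl⟩; exacts [.inl ⟨x, hx, rfl⟩, .inr ⟨x, hx, rfl⟩], by
      rintro (⟨x, hx, rfl⟩ | ⟨x, hx, rfl⟩); exacts [⟨x, hx, .inl rfl⟩, ⟨x, hx, .inr rfl⟩]⟩
  change (tE h A : Set G).ncard = 2 * (A : Set X).ncard
  rw [h1, Set.ncard_union_eq (Set.disjoint_left.2 (by
      rintro _ ⟨x, -, rfl⟩ ⟨y, -, c⟩; exact te_ne h hF x y c.symm)),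
    Set.ncard_image_of_injective _ h.inj,
    Set.ncard_image_of_injective _ fun a b c => h.inj (mul_left_cancel c), two_mul]

theorem te_conj (h : B1 e t) (x y : X) : e x * (t * e y) * (e x)⁻¹ = t * e (x * y * x⁻¹) := by
  rw [← conj_mul, h.conj_t, map_mul, map_mul, map_inv]

theorem mem_Ns_tE (h : B1 e t) (hx : x ∈ Ns A) : e x ∈ Ns (tE h A) := by
  refine H98.mem_normalizer_of_cj_le ?_
  rintro _ ⟨_, ⟨y, hy, rfl | rfl⟩, rfl⟩ <;>
    refine ⟨x * y * x⁻¹, H98.conj_mem_of_mem_normalizer hx hy, ?_⟩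
  · exact .inl (by simp)
  · exact .inr (te_conj h x y)

theorem conj_te (h : B1 e t) (c : IsConj x y) : IsConj (t * e x) (t * e y) := by
  obtain ⟨a, rfl⟩ := isConj_iff.1 c
  exact isConj_iff.2 ⟨e a, te_conj h a x⟩

theorem card_Py (c : IsConj x y) : Nat.card (Py x) = Nat.card (Py y) := by
  obtain ⟨a, rfl⟩ := isConj_iff.1 c
  rw [← cj_Py, H67.SA.card_cjs]

section
variable (hF : F0 X) (h : B1 e t) (hO : AB e t O)
include hF h hO

/-- The partner `y'` of `y`. -/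
theorem partner (hy : Inv2 y) (c : IsConj t (t * e y)) : ∃ y', Inv2 y' ∧ IsConj t (t * e y') ∧
    Nat.card (Py y) = Nat.card (Py y') ∧ (IsConj y y' → Mv e t y) := by
  obtain ⟨g, hg⟩ := isConj_iff.1 c
  have h1 := h.cje g
  have h2 := hO.cje g
  have h3 : (Cz y).map e ≤ Cz (g * t * g⁻¹) := by
    rintro _ ⟨a, ha, rfl⟩
    rw [mem_Cz, hg, mul_assoc, ← map_mul, mem_Cz.1 ha, map_mul, ← mul_assoc, h.comm, mul_assoc]
  have ee : e y * e y = 1 := by rw [← map_mul, hy.1, map_one]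
  obtain ⟨y', hy'⟩ := h2.cm _ (commutator_mono h3 h3
    (map_commutator _ _ e ▸ mem_map_of_mem e (hF.der y hy))) (is2_of_sq ee)
  refine ⟨y', ⟨h1.inj (by rw [map_mul, hy', ee, map_one]), fun d => hy.2 (h.inj (by
    rw [← hy', d, map_one, map_one]))⟩, (isConj_iff.2 ⟨g, ?_⟩).symm, ?_, fun d => ?_⟩
  · rw [← conj_mul, ← cje_apply, hy', hg, mul_assoc, ee, mul_one]
  · rw [← card_map_e h.inj, ← card_map_e h1.inj, ← hO.pf_Cz h, ← h2.pf_Cz h1, hy', hg]
    rw [show Cz t ⊓ Cz (e y) = Cz (t * e y) ⊓ Cz (e y) from ext fun a => by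
      simp only [mem_inf, mem_Cz]
      refine and_congr_left fun d => ?_
      rw [mul_assoc, d, ← mul_assoc, ← mul_assoc, mul_left_inj]]
  · obtain ⟨a, rfl⟩ := isConj_iff.1 d
    refine ⟨g * e a, ?_, ?_⟩
    · rw [← hg]
      conv_rhs => rw [← h.conj_t a]
      group
    · conv_rhs => rw [← hy', cje_apply, map_mul, map_mul, map_inv]
      group

/-- The action of an element moving `t` to `t b`. -/
theorem act (hb : PV b) (g1 : g * t * g⁻¹ = t * e b) (g2 : g * e b * g⁻¹ = e b)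
    (hx : x ∈ Vy b ⊔ Py b) : g * e x * g⁻¹ ∈ tE h (Vy b ⊔ Py b) := by
  have := hF.fin
  have n1 := mem_Ns_CC (.inl g1) g2
  have n2 := Ns_le_Ns_Pf _ n1
  rw [hO.pf_Cz h] at n2
  obtain ⟨v, hv, p, hp, rfl⟩ := (H98.mem_sup_left_norm (inf_le_left.trans (Cs_le_Ns _))).1 hx
  rw [map_mul, ← conj_mul]
  refine mul_mem ?_ ?_
  · have h1 : g * e v * g⁻¹ ∈ Cz t ⊓ Cz (e b) := H98.conj_mem_of_mem_normalizer n1
      (mem_inf.2 ⟨h.mem_Cz v, (comap_Cz h.inj b).ge (mem_inf.1 hv).2⟩)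
    have h2 : g * e v * g⁻¹ ∈ Cs ((Py b).map e) := H98.conj_mem_of_mem_normalizer
      (H98.normalizer_le_normalizer_centralizer _ n2) (map_mem_Cs (mem_inf.1 hv).1)
    have h3 : Is2 v := ⟨2, orderOf_dvd_iff_pow_eq_one.1 (((Vy b).orderOf_dvd_natCard hv).trans
      (by rcases hb.card with c | c <;> rw [c] <;> decide))⟩
    obtain ⟨β, hβ⟩ := h.ind (mem_inf.1 h1).1
    have h4 := hβ.fix h.inj (mem_Cz.1 (mem_inf.1 h1).2).symm
    have h5 := hβ.le_fx h.inj h2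
    obtain ⟨a, rfl⟩ := hb.cv β h4 h5
    refine ⟨a, mem_sup_left (mem_inf.2 ⟨fun q hq => ?_, mem_Cz.2 ?_⟩),
      hO.inn _ (mem_inf.1 h1).1 ((h3.map e).conj g) a hβ⟩
    · exact (mul_inv_eq_iff_eq_mul.1 (mem_fx.1 (h5 hq))).symm
    · exact (mul_inv_eq_iff_eq_mul.1 h4).symm
  · obtain ⟨q, hq, c⟩ := H98.conj_mem_of_mem_normalizer n2 (mem_map_of_mem e hp)
    exact ⟨q, mem_sup_right hq, .inl c.symm⟩

/-- The normaliser of `⟨t⟩ × e E` fixes `t`. -/
theorem fix_t {E : Subgroup X} (hE : El E) (c : IsConj t (t * e b)) (b1 : b ≠ 1)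
    (hn : ∀ x, Inv2 x → IsConj t (t * e x) → IsConj b x)
    (ev : Even (Nat.card {x // x ∈ E ∧ IsConj b x})) (h1 : ∀ x ∈ E, Ns E ≤ Cz x → x = 1)
    (hg : g ∈ Ns (tE h E)) : g * t * g⁻¹ = t := by
  have := hF.fin
  have h2 : {u | u ∈ tE h E ∧ IsConj t u} =
      (fun x => t * e x) '' insert 1 {x | x ∈ E ∧ IsConj b x} := Set.ext fun u => by
    constructor
    · rintro ⟨⟨x, hx, rfl | rfl⟩, d⟩
      · exact absurd d (hO.nr x)
      · exact ⟨x, or_iff_not_imp_left.2 fun n => ⟨hx, hn x ⟨hE x hx, n⟩ d⟩, rfl⟩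
    · rintro ⟨x, rfl | hx, rfl⟩
      · exact ⟨⟨1, one_mem _, .inr rfl⟩, by simpa only [map_one, mul_one] using IsConj.refl t⟩
      · exact ⟨⟨x, hx.1, .inr rfl⟩, c.trans (conj_te h hx.2)⟩
  obtain ⟨s, ⟨x, hx, s1⟩, s2⟩ := sigma (F := tE h E) (N := E.map e) (t := t) (by
      rintro _ ⟨x, hx, rfl | rfl⟩ _ ⟨y, hy, rfl | rfl⟩ <;>
        have := (e_comm h.inj).2 (hE.comm hx hy)
      · exact this
      · rw [← mul_assoc, ← h.comm, mul_assoc, mul_assoc, this]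
      · rw [← mul_assoc, ← h.comm, mul_assoc, mul_assoc, this]
      · rw [mul_assoc, mul_assoc, ← mul_assoc (e x), ← mul_assoc (e y), ← h.comm, ← h.comm,
          mul_assoc, mul_assoc, this])
    ⟨1, one_mem _, .inr (by simp)⟩ h.tt (by
      rintro _ ⟨x, hx, rfl | rfl⟩ d
      · exact absurd d (hO.nr x)
      · exact ⟨x, hx, by simp⟩) (by
      rw [h2, Set.ncard_image_of_injective _ fun a b c => h.inj (mul_left_cancel c),
        Set.ncard_insert_of_notMem fun n => b1 (isConj_one_left.1 n.2)]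
      exact Even.add_one ev)
  obtain rfl : s = t * e x := by rw [s1, mul_inv_cancel_left]
  obtain rfl : x = 1 := h1 x hx fun n hn => mem_Cz.2 ((e_comm h.inj).1 (by
    have := s2 _ (mem_Ns_tE h hn)
    rw [mul_inv_eq_iff_eq_mul, ← mul_assoc, ← h.comm, mul_assoc, mul_assoc] at this
    exact (mul_left_cancel this).symm))
  simpa using s2 g hg

theorem exists_I (d : FAd z b) (hy : Inv2 y) (c : IsConj t (t * e y)) :
    ∃ x, I x ∧ IsConj t (t * e x) := by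
  by_contra! H
  have hn : ∀ x, Inv2 x → IsConj t (t * e x) → IsConj b x := fun x h1 h2 =>
    (d.cls x h1).resolve_left fun h3 => H x (d.zI.isConj h3) h2
  have cb := c.trans (conj_te h (hn y hy c).symm)
  obtain ⟨s0, E, E1, E2, E3, E4, E5, E6⟩ := d.s1 fun n => H b n cb
  obtain ⟨b', p1, p2, -, p3⟩ := partner hF h hO d.bI cb
  obtain ⟨g, g1, g2⟩ := p3 (hn b' p1 p2)
  have ee : e b * e b = 1 := by rw [← map_mul, d.bI.1, map_one]
  have h1 : cjs g (tE h E) ≤ tE h (Vy b ⊔ Py b) := by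
    rintro _ ⟨_, ⟨x, hx, rfl | rfl⟩, rfl⟩
    · exact act hF h hO d.pb g1 g2 (E1 hx)
    · change g * (t * e x) * g⁻¹ ∈ _
      rw [← conj_mul, g1]
      exact mul_mem ⟨b, E1 E4, .inr rfl⟩ (act hF h hO d.pb g1 g2 (E1 hx))
  have h2 : t ∈ cjs g (tE h E) := ⟨t * e b, ⟨b, E4, .inr rfl⟩, by
    change g * (t * e b) * g⁻¹ = t
    rw [← conj_mul, g1, g2, mul_assoc, ee, mul_one]⟩
  have h3 : cjs g (tE h E) = tE h ((cjs g (tE h E)).comap e) := le_antisymm (fun u hu => by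
    obtain ⟨x, -, rfl | rfl⟩ := h1 hu
    · exact ⟨x, hu, .inl rfl⟩
    · exact ⟨x, (mul_mem_cancel_left h2).1 hu, .inr rfl⟩) (by
    rintro _ ⟨x, hx, rfl | rfl⟩
    exacts [hx, mul_mem h2 hx])
  refine s0 ((cjs g (tE h E)).comap e) (fun x hx => ?_) (fun x hx => h.inj ?_) ?_ fun n k => ?_
  · obtain ⟨x', h4, c | c⟩ := h1 hx
    · exact h.inj c ▸ h4
    · exact absurd c (te_ne h hF _ _)
  · obtain ⟨_, ⟨a, ha, rfl | rfl⟩, c⟩ := hx <;> rw [map_mul, ← c, ← map_mul]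
    · rw [← map_mul, E2 a ha]; simp
    · rw [mul_assoc, ← mul_assoc (e a), ← h.comm, mul_assoc, ← map_mul, E2 a ha]; simp [h.tt]
  · have := congrArg (fun A : Subgroup G => Nat.card A) h3
    simp only [H67.SA.card_cjs, card_tE h hF, E3] at this
    omega
  · have h4 := mem_Ns_tE h k
    rw [← h3, ← cj_Ns, H67.SA.mem_cjs] at h4
    have h5 := fix_t hF h hO E2 cb d.bI.2 hn E5 E6 h4
    have h6 : e n * (t * e b) * (e n)⁻¹ = t * e b := by
      rw [← g1]
      conv_rhs => rw [← h5]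
      group
    rw [te_conj h] at h6
    exact mem_Cz.2 (mul_inv_eq_iff_eq_mul.1 (h.inj (mul_left_cancel h6))).symm

end

theorem job1 : Job1.{u} := by
  intro X _ G _ _ e t hF ⟨z, b, d⟩ h O hO y hy c w hw
  obtain ⟨x, h1, h2⟩ := exists_I hF h.toB1 hO d hy c
  obtain ⟨w', p1, -, p2, p3⟩ := partner hF h.toB1 hO hw.1
    (h2.trans (conj_te h.toB1 (hF.one x w h1 hw)))
  refine p3 (hF.one w w' hw ?_)
  by_contra n
  have h3 := (d.cls w' p1).resolve_left fun h3 => n (d.zI.isConj h3)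
  refine d.c6 (fun k => n (k.isConj h3)) ?_
  rw [card_Py h3, ← p2, card_Py (hF.one z w d.zI hw)]

end H44.STJ1
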