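import Cfsg.Agent.H25.SQBase

/-! Tower SQ (S3093): the jobs `TZ`, `Mv`, `Hf`. -/

set_option autoImplicit false
set_option linter.unusedSectionVars false

namespace H44.SQ

open H64.SG H25.SQ Subgroup

universe u

variable {X : Type} [Group X] {G : Type u} [Group G] [Finite G] {e : X →* G} {t g : G}
  {O : Subgroup G} {n k : ℕ}

theorem act (h : CE e t) {s : G} (ss : s * s = 1) (s1 : s ≠ 1) (hs : s ∈ Cz t) (st : s ≠ t) :
    ∃ β, Ind e s β ∧ β * β = 1 ∧ β ≠ 1 := by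
  obtain ⟨β, hβ⟩ := h.toB1.ind hs
  refine ⟨β, hβ, (hβ.mul hβ).unique h.inj (ss ▸ ind_one), fun c => ?_⟩
  exact (h.eq_or ((hβ.eq_one_iff h.inj).1 c) (is2_of_sq ss) (mem_Cz.1 hs)).elim s1 st

/-- The partner of `y` in the conjugate of `A`. -/
theorem partner (fz : FZ X n k) (h : CE e t) (hO : AB e t O) (c : g * t * g⁻¹ ∈ Cz t)
    (ne : g * t * g⁻¹ ≠ t) {P : Subgroup X} (pf : P ≤ ⁅P, P⁆) (hP : P.map e ≤ Cz (g * t * g⁻¹))
    {y : X} (hy : y ∈ P) (yn : orderOf y = n) : ∃ z, I z ∧ g * e z * g⁻¹ = e (y ^ k) := by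
  have h1 := h.cje g
  have h2 := (hO.cje g).pf _ hP (map_perf e pf)
  obtain ⟨β, b1, b2, b3⟩ := act h1 h.inv.1 h.inv.2 (mem_Cz.2 (mem_Cz.1 c).symm) ne.symm
  obtain ⟨y', hy'⟩ := h2 (mem_map_of_mem e hy)
  refine ⟨y' ^ k, fz.pw β b2 b3 y' (le_Pf (N := (P.map e).comap (cje g e)) (fun x hx => ?_)
    (perf_comap h1.inj h2 (map_perf e pf)) (show cje g e y' ∈ P.map e from ⟨y, hy, hy'.symm⟩)) ?_, ?_⟩
  · obtain ⟨p, -, hp⟩ := hx
    exact b1.fix h1.inj (hp ▸ h.toB1.comm p)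
  · rw [← orderOf_injective _ h1.inj, hy', orderOf_injective _ h.inj, yn]
  · rw [← cje_apply, map_pow, hy', map_pow]

theorem jobTZ : JobTZ.{u} := by
  intro X _ G _ _ e t hF n k fz h O hO s c hs st
  obtain ⟨g, rfl⟩ := isConj_iff.1 c
  have s2 := (h.cje g).inv
  obtain ⟨β, b1, b2, b3⟩ := act h s2.1 s2.2 hs st
  rcases fz.alt β b2 b3 with ⟨z, hz, rfl⟩ | ⟨y, hy, yn, l, hl⟩
  · rcases hO.inn _ hs (is2_of_sq s2.1) z (is2_of_sq hz.sq) b1 with k | k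
    · exact absurd (k ▸ c) (hO.nr z hz)
    · exact ⟨z, hz, k ▸ c⟩
  have k1 : ∀ p ∈ Pf (fx β), g * t * g⁻¹ * e p = e p * (g * t * g⁻¹) := fun p hp =>
    b1.comm (mem_fx.1 (Pf_le _ hp))
  obtain ⟨z, hz, k2⟩ := partner fz h hO hs st (Pf_perf (fx β)) (by
    rintro _ ⟨p, hp, rfl⟩; exact mem_Cz.2 (k1 p hp)) hy yn
  refine ⟨z, hz, isConj_iff.2 ⟨g⁻¹ * e l * g, ?_⟩⟩
  have k3 : e l * (g * t * g⁻¹) * (e l)⁻¹ = g * (t * e z) * g⁻¹ := by
    conv_rhs => rw [← conj_mul, k2, k1 _ (pow_mem hy k), ← hl, map_mul, map_inv, ← b1]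
    group
  calc _ = g⁻¹ * (e l * (g * t * g⁻¹) * (e l)⁻¹) * g := by group
    _ = _ := by rw [k3]; group

theorem jobMv : JobMv.{u} := by
  intro X _ G _ _ e t hF n k fz h O hO z hz c ⟨y, hy, yn, yk⟩
  obtain ⟨g, hg⟩ := isConj_iff.1 c
  have b := h.toB1
  obtain ⟨z', hz', k2⟩ := partner (g := g) fz h hO
    (hg ▸ mul_mem (mem_Cz.2 rfl) (b.mem_Cz z))
    (fun c => hz.ne (h.inj ((mul_eq_left.1 (hg.symm.trans c)).trans (map_one e).symm)))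
    (Pf_perf (Cz z)) (by
      rintro _ ⟨a, ha, rfl⟩
      rw [mem_Cz, hg, mul_assoc, ← map_mul, mem_Cz.1 (Pf_le _ ha), map_mul, ← mul_assoc, b.comm,
        mul_assoc]) hy yn
  obtain ⟨a, rfl⟩ := isConj_iff.1 (hF.one z z' hz hz')
  refine ⟨g * e a, ?_, ?_⟩
  · rw [← hg]
    conv_rhs => rw [← b.conj_t a]
    group
  · conv_rhs => rw [← yk, ← k2, map_mul, map_mul, map_inv]
    group

theorem half (b : B1 e t) (ab : AB e t O) {z : X} (z2 : Inv2 z)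
    (cz : ∀ β : MulAut X, Cz z ≤ fx β → β = 1 ∨ β = MulAut.conj z) {w : G}
    (tw : w * t * w⁻¹ = t * e z) (h1 : w ∈ Cs ((Cz z).map e)) :
    ∃ w, w * w = 1 ∧ w * t * w⁻¹ = t * e z ∧ w ∈ Cs ((Cz z).map e) := by
  have Z2 : e z * e z = 1 := by rw [← map_mul, z2.1, map_one]
  have Z1 : e z ≠ 1 := fun h => z2.2 (b.inj (h.trans (map_one e).symm))
  have cZ : ∀ {w}, w ∈ Cs ((Cz z).map e) → e z * w = w * e z := fun h =>
    mem_Cs_map.1 h z (mem_Cz.2 rfl)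
  have sq : ∀ {w}, w * t * w⁻¹ = t * e z → w ∈ Cs ((Cz z).map e) → w * w * t * (w * w)⁻¹ = t :=
    fun {w} tw h1 => by
      calc _ = w * (w * t * w⁻¹) * w⁻¹ := by group
        _ = w * t * (e z * w) * w⁻¹ * w⁻¹ := by rw [tw]; group
        _ = w * t * w⁻¹ * (w * (w * e z) * w⁻¹ * w⁻¹) := by rw [cZ h1]; group
        _ = _ := by rw [tw, ← cZ h1, ← mul_assoc w, ← cZ h1, mul_assoc t, ← mul_assoc (e z),
          ← mul_assoc (e z), ← mul_assoc (e z), ← mul_assoc (e z), Z2]; group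
  obtain ⟨k, m, ⟨j, rfl⟩, hm⟩ := Nat.exists_eq_two_pow_mul_odd (orderOf_pos w).ne'
  have i2 : Is2 (w ^ (2 * j + 1)) := ⟨k, by rw [← pow_mul, mul_comm, ← hm, pow_orderOf_eq_one]⟩
  have tw' : w ^ (2 * j + 1) * t * (w ^ (2 * j + 1))⁻¹ = t * e z := by
    have c : Commute ((w ^ 2) ^ j) t :=
      (show Commute (w ^ 2) t from mul_inv_eq_iff_eq_mul.1 (pow_two w ▸ sq tw h1)).pow_left j
    rw [pow_succ', pow_mul, mul_assoc w, c.eq, ← tw]
    group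
  replace h1 := pow_mem h1 (2 * j + 1)
  generalize w ^ (2 * j + 1) = v at i2 tw' h1
  have hc : v * v ∈ Cz t := mem_Cz.2 (mul_inv_eq_iff_eq_mul.1 (sq tw' h1)).symm
  obtain ⟨β, hβ⟩ := b.ind hc
  have nt : v * t ≠ t * v := fun h => Z1 (by
    rwa [h, mul_inv_cancel_right, left_eq_mul] at tw')
  have H : v * v = 1 ∨ v * v = e z := by
    rcases cz β (hβ.le_fx b.inj (mul_mem h1 h1)) with rfl | rfl
    · refine Or.inl ((ab.inn _ hc (i2.mul i2 rfl) 1 ⟨0, by simp⟩ (by simpa using hβ)).elim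
        (fun h => h.trans (map_one e)) fun h => absurd ?_ nt)
      rw [map_one, mul_one] at h
      rw [← h, mul_assoc]
    · refine Or.inr ((ab.inn _ hc (i2.mul i2 rfl) z (is2_of_sq z2.1) hβ).resolve_right fun h => nt ?_)
      refine mul_right_cancel (b := e z) ?_
      rw [mul_assoc t, ← cZ h1, ← mul_assoc, mul_assoc v, ← h, mul_assoc]
  rcases H with h | h
  · exact ⟨v, h, tw', h1⟩
  have h3 : v * t * (v * t) = 1 := by
    calc _ = v * t * v⁻¹ * (v * v) * t := by group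
      _ = 1 := by rw [tw', h, mul_assoc t, Z2, mul_one, b.tt]
  refine ⟨v * t, h3, ?_, mul_mem h1 (Cs_range_le _ b.cen)⟩
  rw [← tw']; group

theorem mem_Ns_O (b : B1 e t) (ab : AB e t O) {z : X} (z2 : Inv2 z)
    (cz : ∀ β : MulAut X, Cz z ≤ fx β → β = 1 ∨ β = MulAut.conj z) {w : G}
    (tw : w * t * w⁻¹ = t * e z) (h1 : w ∈ Cs ((Cz z).map e)) : w ∈ Ns O := by
  refine H98.mem_normalizer_of_cj_le ?_
  rintro _ ⟨o, ho, rfl⟩
  change w * o * w⁻¹ ∈ O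
  have n1 := mem_Ns_CC (.inl tw)
    (mul_inv_eq_iff_eq_mul.2 (mem_Cs_map.1 h1 z (mem_Cz.2 rfl)).symm)
  have k1 := (H98.conj_mem_of_mem_normalizer n1
    ⟨(ab.le ho).2, mem_Cz.2 (mem_Cs_range.1 (ab.le ho).1 z)⟩).1
  have k2 := mul_mem (mul_mem h1 (Cs_range_le _ (ab.le ho).1)) (inv_mem h1)
  have oo : Odd (orderOf (w * o * w⁻¹)) :=
    ((MulAut.conj w).orderOf_eq o).symm ▸ odd_orderOf_of_mem ab.odd ho
  generalize w * o * w⁻¹ = p at k1 k2 oo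
  obtain ⟨β, hβ⟩ := b.ind k1
  obtain rfl : β = 1 := (cz β (hβ.le_fx b.inj k2)).elim id fun c =>
    (is2_of_sq (by rw [c, ← map_mul, z2.1, map_one])).eq_one (hβ.odd b.inj oo)
  refine (ab.ko p (ind_one_iff.1 hβ) k1).resolve_right fun h => b.inv.2 ?_
  have c : Commute p⁻¹ (p * t) :=
    ((Commute.refl p).mul_right (show Commute p t from (mem_Cz.1 k1).symm)).inv_left
  have := odd_orderOf_mul (by rwa [orderOf_inv]) (odd_orderOf_of_mem ab.odd h) c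
  rw [inv_mul_cancel_left] at this
  exact (is2_of_sq b.tt).eq_one this

theorem hf_conj (b : B1 e t) {z : X} {w : G} (tw : w * t * w⁻¹ = t * e z)
    (h1 : w ∈ Cs ((Cz z).map e)) (r : X) :
    e r * w * (e r)⁻¹ * t * (e r * w * (e r)⁻¹)⁻¹ = t * e (r * z * r⁻¹) ∧
      e r * w * (e r)⁻¹ ∈ Cs ((Cz (r * z * r⁻¹)).map e) := by
  constructor
  · rw [map_mul, map_mul, map_inv]
    conv_lhs => rw [← b.conj_t r]
    conv_rhs => rw [← b.conj_t r, conj_mul, ← tw]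
    group
  · rw [← cj_Cz, cjs_eq, ← (ind_conj r).cjs_map, ← cj_Cs]
    exact H67.SA.conj_mem_cjs.2 h1

theorem jobHf : JobHf.{u} := by
  intro X _ G _ _ e t hF z f d ce O ab ⟨g, h1, h2⟩
  have b := ce.toB1
  obtain ⟨hz, hf, -, zf⟩ := d.lc.ln
  have hN := Ns_le_Ns_Pf _ (mem_Ns_CC (Or.inl h1) h2)
  rw [ab.pf_Cz b, Py, Pf_eq_self d.pf] at hN
  obtain ⟨γ, hγ⟩ := exists_ind (e := e.comp (Cz z).subtype)
    (b.inj.comp Subtype.val_injective) (by rwa [MonoidHom.range_comp, range_subtype])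
  obtain ⟨c, rfl⟩ := d.aut γ
  obtain ⟨w, w1, w2, w3⟩ := half b ab hz.1 d.cz (w := (e c)⁻¹ * g) (by
    calc _ = (e c)⁻¹ * (g * t * g⁻¹) * e c := by group
      _ = _ := by
        rw [h1, mul_assoc, mul_assoc, ← map_mul, mem_Cz.1 c.2, map_mul, ← mul_assoc t, b.comm]
        group) (mem_Cs_map.2 fun a ha => by
    have : g * e a * g⁻¹ = e (c * a * (c : X)⁻¹) := hγ ⟨a, ha⟩
    rw [map_mul, map_mul, map_inv, mul_inv_eq_iff_eq_mul] at this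
    rw [mul_assoc, this]
    group)
  have wN := mem_Ns_O b ab hz.1 d.cz w2 w3
  refine ⟨w, w1, by rwa [inv_eq_of_mul_eq_one_left w1] at w2, w3, ?_⟩
  obtain ⟨ρ, r1, r2⟩ := d.lc.rot
  obtain ⟨x2, x3⟩ := hf_conj b w2 w3 ρ
  obtain ⟨y2, y3⟩ := hf_conj b x2 x3 ρ
  rw [r1] at x2 x3 y2 y3
  rw [r2] at y2 y3
  have eO : ∀ s, e s ∈ Cs O := fun s o ho => (mem_Cs_range.1 (ab.le ho).1 s).symm
  have tO : t ∈ Cs O := fun o ho => (mem_Cz.1 (ab.le ho).2).symm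
  let φ := O.normalizerMonoidHom
  have hφ : ∀ a : Ns O, φ a = 1 ↔ a.1 ∈ Cs O := fun a => by
    rw [← MonoidHom.mem_ker, normalizerMonoidHom_ker]; rfl
  let W : Ns O := ⟨w, wN⟩
  let R : Ns O := ⟨e ρ, Cs_le_Ns _ (eO ρ)⟩
  have WW : φ W * φ W = 1 := by rw [← map_mul, show W * W = 1 from Subtype.ext w1, map_one]
  have k1 : φ (W * (R * W * R⁻¹) * (R * (R * W * R⁻¹) * R⁻¹)) = φ W := by
    simp only [map_mul, map_inv, (hφ R).2 (eO ρ), one_mul, inv_one, mul_one, WW]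
  have k2 : ((W * (R * W * R⁻¹) * (R * (R * W * R⁻¹) * R⁻¹) : Ns O) : G) =
      w * (e ρ * w * (e ρ)⁻¹) * (e ρ * (e ρ * w * (e ρ)⁻¹) * (e ρ)⁻¹) := rfl
  generalize W * (R * W * R⁻¹) * (R * (R * W * R⁻¹) * R⁻¹) = P at k1 k2
  generalize e ρ * (e ρ * w * (e ρ)⁻¹) * (e ρ)⁻¹ = y at y2 y3 k2
  generalize e ρ * w * (e ρ)⁻¹ = x at x2 x3 k2
  have p1 : (P : G) ∈ Cz t := mem_Cz.2 (mul_inv_eq_iff_eq_mul.1 (by
    have c1 := mem_Cs_map.1 x3 (z * f) (mem_Cz.2 (by rw [← mul_assoc, ← zf]))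
    have c2 := mem_Cs_map.1 w3 z (mem_Cz.2 rfl)
    have c3 : e f * e (z * f) = e z := by
      rw [← map_mul, zf, ← mul_assoc, hf.sq, one_mul]
    rw [k2]
    calc _ = w * (x * (y * t * y⁻¹) * x⁻¹) * w⁻¹ := by group
      _ = w * (x * t * x⁻¹ * (x * e (z * f) * x⁻¹)) * w⁻¹ := by rw [y2]; group
      _ = w * t * w⁻¹ * (w * e z * w⁻¹) := by
        rw [x2, ← c1, mul_inv_cancel_right, mul_assoc t, c3]; group
      _ = t := by
        rw [w2, ← c2, mul_inv_cancel_right, mul_assoc, ← map_mul, hz.sq, map_one, mul_one])).symm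
  obtain ⟨β, hβ⟩ := b.ind p1
  obtain ⟨v, -, rfl⟩ := d.lc.cV β (hβ.le_fx b.inj (k2 ▸ mul_mem (mul_mem
    (centralizer_le (map_mono inf_le_left) w3) (centralizer_le (map_mono inf_le_right) x3))
    (centralizer_le (map_mono fun g hg => mem_Cz.2 (by
      rw [mul_assoc, mem_Cz.1 hg.2, ← mul_assoc, mem_Cz.1 hg.1, mul_assoc])) y3)))
  obtain ⟨c, c1, c2⟩ : ∃ c ∈ Cs O, (P : G) * c ∈ O := by
    rcases ab.ko _ (ind_conj_iff.1 hβ) (mul_mem p1 (inv_mem (b.mem_Cz v))) with k | k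
    · exact ⟨_, inv_mem (eO v), k⟩
    · exact ⟨_, mul_mem (inv_mem (eO v)) tO, mul_assoc (P : G) _ _ ▸ k⟩
  refine (hφ W).1 ((is2_of_sq WW).eq_one ?_)
  let C : Ns O := ⟨c, Cs_le_Ns _ c1⟩
  have k3 : φ (P * C) = φ W := by rw [map_mul, (hφ C).2 c1, mul_one, k1]
  refine k3 ▸ Odd.of_dvd_nat ?_ (orderOf_map_dvd φ _)
  rw [← orderOf_coe]
  exact odd_orderOf_of_mem ab.odd c2

end H44.SQ
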