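import Cfsg.Agent.H44.Wr0a

/-! STD-H, section 9: Job0O. -/

set_option autoImplicit false
open Subgroup Cfsg H98 H1.Gold H99.Wr H53.Wr0
open scoped commutatorElement

universe u

namespace H44.WrO

variable {G : Type u} [Group G] [Finite G]

section
variable {L S E E' : Subgroup G} {f : G} {P : G → Subgroup G} (hD : Dat L S E E' f)
  (hO : Ox L S E E' P)
include hD hO

theorem outer {c : G} (hc : c ∈ nor L) (h : c ∉ cen L ⊔ L) :
    (∃ x ∈ L, cj c E = cj x E') ∧ ∃ y ∈ L, cj c E' = cj y E := by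
  have hS := hO.sy
  obtain ⟨x, hx, h3⟩ := hD.syl.exists_cj_le (hD.el.cj c).two (cj_le_of_le hD.EL hc)
  obtain ⟨y, hy, h4⟩ := hD.syl.exists_cj_le (hS.el'.cj c).two
    (cj_le_of_le (hD.E'S.trans hD.syl.le) hc)
  rcases hD.two _ h3 ((hD.el.cj c).cj x) (by rw [card_cj, card_cj]) with e | e
  · exact (h (kl.1 (hO.out c hc ⟨x⁻¹, inv_mem hx, by rw [← cj_inj (g := x), e, cj_cj_inv]⟩))).elim
  refine ⟨⟨x⁻¹, inv_mem hx, by rw [← e, cj_inv_cj]⟩, ?_⟩
  rcases hD.two _ h4 ((hS.el'.cj c).cj y) (by rw [card_cj, card_cj, hS.cE, hS.cE']) with e' | e'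
  · exact ⟨y⁻¹, inv_mem hy, by rw [← e', cj_inv_cj]⟩
  · refine (not_conj hD hS (conj_mem_of_mem_normalizer' hc (mul_mem (inv_mem hy) hx)) ?_).elim
    rw [← cj_cj, ← cj_cj, ← cj_cj, e, ← cj_inj (g := c), cj_cj_inv, ← cj_inj (g := y), cj_cj_inv, e']

theorem mul_kl : ∀ c ∈ nor L, ∀ d ∈ nor L, c ∉ cen L ⊔ L → d ∉ cen L ⊔ L → c * d ∈ cen L ⊔ L := by
  intro c hc d hd h1 h2
  obtain ⟨-, y, hy, e⟩ := outer hD hO hc h1
  obtain ⟨⟨x, hx, e'⟩, -⟩ := outer hD hO hd h2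
  refine kl.1 (hO.out _ (mul_mem hc hd) ⟨c * x * c⁻¹ * y,
    mul_mem (conj_mem_of_mem_normalizer hc hx) hy, ?_⟩)
  rw [← cj_cj, e', ← cj_cj _ y, ← e, cj_cj, cj_cj, inv_mul_cancel_right]

/-- an outer involution centralising `A` is conjugate to one swapping `E` and `E'` -/
theorem exists_swap {a : G} (ha : a ∈ nor L) (aa : a * a = 1) (h : a ∉ cen L ⊔ L) {A : Subgroup G}
    (hA : A ≤ L) (h2 : IsPGroup 2 A) (hc : A ≤ cen1 a) : ∃ l ∈ L, cj l A ≤ S ∧
      l * a * l⁻¹ ∈ nor S ∧ cj (l * a * l⁻¹) E = E' ∧ cj (l * a * l⁻¹) E' = E := by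
  obtain ⟨U, hU, h3⟩ := exists_isSyl_le (Q := A ⊔ zpowers a) (H := L ⊔ zpowers a)
    (h2.to_sup_of_normal_left' (isPGroup_zpowers (k := 1) (by rw [pow_one, pow_two, aa]))
      (zpowers_le.2 (centralizer_le_normalizer _ (mem_cen.2 fun b hb =>
        H99.Wr.mem_cen1.1 (hc hb))))) (sup_le_sup_right hA _)
  obtain ⟨l, hl, e⟩ := (hU.inf_of_le_normalizer le_sup_left
    (hU.le.trans (sup_le le_normalizer (zpowers_le.2 ha)))).exists_cj_eq hD.syl
  have h4 : l * a * l⁻¹ ∈ nor S := by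
    exact e ▸ (cj_normalizer l _).le (conj_mem_cj (cj_eq_self_iff.1 (by
      rw [cj_inf, cj_eq_self ha, cj_eq_self_of_mem (h3 (mem_sup_right (mem_zpowers a)))])))
  have h5 : cj (l * a * l⁻¹) E = E' := (hD.two _ (cj_le_of_le hD.ES h4) (hD.el.cj _)
    (by rw [card_cj])).resolve_left fun e => h (by
      have := kl.1 (hO.out _ (mul_mem (mul_mem (le_normalizer hl) ha) (inv_mem (le_normalizer hl)))
        ⟨1, one_mem _, by rw [e, cj_one]⟩)
      rwa [mul_mem_cancel_right (inv_mem (mem_sup_right hl)),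
        mul_mem_cancel_left (mem_sup_right hl)] at this)
  exact ⟨l, hl, e ▸ cj_mono l (le_inf (le_sup_left.trans h3) hA), h4, h5, by
    rw [← h5, cj_tt (by rw [conj_mul, aa]; group)]⟩

end

theorem job0O : Job0O.{u} := by
  intro sw G _ _ L S E E' f P hA hL hZ hD hP hX
  have hmul := mul_kl hD hX
  obtain ⟨g, s, hg, hs, os, sI⟩ : ∃ g s, g ∉ nor (cen L) ∧ s ∈ cj g (cen L) ⊓ nor (cen L) ∧
      orderOf s = 2 ∧ KL L s := by
    obtain ⟨g, hg, h2⟩ := exists_te hA hL hP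
    obtain ⟨s, hs, os⟩ := H14.exists_involution_mem h2
    by_cases sI : s ∈ cen L ⊔ L
    · exact ⟨g, s, hg, hs, os, kl.2 sI⟩
    obtain ⟨-, hK, -, hn⟩ := hL
    have ss := H14.mul_self_of_two os
    obtain ⟨l, hl, -, h3, h4, h5⟩ := exists_swap hD hX (hn.ge hs.2) ss sI bot_le IsPGroup.of_bot bot_le
    have lK : l ∈ nor (cen L) := hn.le (le_normalizer hl)
    have hg' : l * g ∉ nor (cen L) := by rwa [mul_mem_cancel_left lK]
    have hs' : l * s * l⁻¹ ∈ cj (l * g) (cen L) := by rw [← cj_cj]; exact conj_mem_cj hs.1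
    have os' : orderOf (l * s * l⁻¹) = 2 := by rw [← os]; exact (MulAut.conj l).orderOf_eq s
    generalize l * s * l⁻¹ = v at h3 h4 h5 hs' os'
    generalize l * g = h at hg' hs'
    obtain ⟨y, hy, yv, yZ, y1, x, hx, e⟩ := (sw G S E E' v hX.sy h4 h5).2 h3 (H14.mul_self_of_two os')
    have zL : y * y ∈ L := hD.EL yZ.1
    by_cases hx' : x ∈ nor (cj h (cen L))
    · exact ⟨h, y * y, hg', ⟨(mul_mem_cancel_right hs').1 (e ▸ conj_mem_of_mem_normalizer hx' hs'),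
        hn.le (le_normalizer zL)⟩, H14.orderOf_two_of_mul_self (hD.el _ yZ.1) y1,
        kl.2 (mem_sup_right zL)⟩
    · have y0 : h⁻¹ * y * h ∈ nor L := hn.ge (mem_cj.1 ((cj_normalizer h _).ge
        (H14.te_centralizer_le (H14.te_cj hK h) os' hs' (H99.Wr.mem_cen1.2 yv))))
      have v0 : h⁻¹ * v * h ∈ cen L := mem_cj.1 hs'
      have e0 : h⁻¹ * x * h * (h⁻¹ * v * h) * (h⁻¹ * x * h)⁻¹ =
          h⁻¹ * y * h * (h⁻¹ * y * h) * (h⁻¹ * v * h) := by
        calc _ = h⁻¹ * (x * v * x⁻¹) * h := by group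
          _ = _ := by rw [e]; group
      refine ⟨h⁻¹ * x * h, _, fun c => hx' ((cj_normalizer h _).le (mem_cj.2 c)),
        ⟨conj_mem_cj v0, ?_⟩, ?_, kl.2 ?_⟩
      · rw [e0]
        exact (nor (cen L)).mul_mem (hn.le (mul_mem y0 y0)) (le_normalizer v0)
      · rw [← os', show h⁻¹ * x * h * (h⁻¹ * v * h) * (h⁻¹ * x * h)⁻¹ = h⁻¹ * x * v * (h⁻¹ * x)⁻¹ by
          group]
        exact (MulAut.conj _).orderOf_eq v
      · rw [e0]
        refine mul_mem ?_ (mem_sup_left v0)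
        by_cases c : h⁻¹ * y * h ∈ cen L ⊔ L
        exacts [mul_mem c c, hmul _ y0 _ y0 c c]
  obtain ⟨t, htK, ht2, hR, x, hx, hx2, h, hh⟩ := core hL hZ hP hmul hX.qs (fun x hx h2 σ hσ hc => by
    obtain ⟨l, hl, e⟩ := hX.EP x hx h2
    refine hX.out σ hσ ⟨σ * l⁻¹ * σ⁻¹ * l,
      mul_mem (conj_mem_of_mem_normalizer hσ (inv_mem hl)) hl, ?_⟩
    rw [← cj_cj _ l, ← cj_eq_self (centralizer_le_normalizer _ (centralizer_anti e hc)), cj_cj,
      cj_cj, inv_mul_cancel_right, inv_mul_cancel_right]) (fun x hx h2 => by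
    obtain ⟨l, hl, e⟩ := hX.EP x hx h2
    by_contra hc
    push Not at hc
    have h3 : cj l E ≤ zpowers x := fun v hv => (mem_zpowers_sq (H14.mul_self_of_two h2)).2
      (or_iff_not_imp_left.2 (hc v (e hv) (hD.el.cj l v hv)))
    have := card_le_of_le h3
    rw [card_cj, hX.sy.cE, Nat.card_zpowers, h2] at this
    omega) hg hs os sI
  obtain ⟨hq, hK, -, hn⟩ := hL
  have tt := H14.mul_self_of_two ht2
  have hnL : cen1 t ≤ nor L := (H14.te_centralizer_le hK ht2 htK).trans hn.ge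
  have htt : zpowers t ≤ cen L ⊓ cen1 t := zpowers_le.mpr ⟨htK, H99.Wr.mem_cen1.2 rfl⟩
  obtain ⟨hO, hdec⟩ := dec_of_central (hR.of_le htt inf_le_left)
    (zpowers_le.mpr (mem_cen.2 fun a ha => H99.Wr.mem_cen1.1 ha.2))
  set O := res 2 (cen L ⊓ cen1 t) with hOd
  have hOle : O ≤ cen L ⊓ cen1 t := res_le _
  have hLt : ∀ l ∈ L, l * t = t * l := mem_cen.1 htK
  have hF : ∀ c ∈ cen1 t, c ∈ cen L ⊔ L → In0 t L O c := fun c hc hI => by
    obtain ⟨k, hk, l, hl, e⟩ := kl.2 hI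
    have h1 : k ∈ cen1 t := (mul_mem_cancel_right (H99.Wr.mem_cen1.2 (hLt l hl))).mp (e ▸ hc)
    obtain ⟨w, hw, o, ho, e'⟩ := hdec k ⟨hk, h1⟩
    refine ⟨o, ho, l, hl, ?_⟩
    rcases (mem_zpowers_sq tt).1 hw with rfl | rfl
    · left; rw [e, e', one_mul]
    · right; rw [e, e', mul_assoc]
  have hzL : L ⊓ cen L ≤ O := fun a ha =>
    mem_res_of_coprime ⟨ha.2, H99.Wr.mem_cen1.2 (hLt a ha.1)⟩ (Nat.coprime_two_right.mpr (odd_of_mem hZ ha))
  have hnc : ∀ g : G, g * t * g⁻¹ ∉ L := fun g hy => by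
    have hy2 : orderOf (g * t * g⁻¹) = 2 := by rw [← ht2]; exact (MulAut.conj g).orderOf_eq t
    have h1 : ⁅cen1 t ⊓ (cen L ⊔ L), cen1 t ⊓ (cen L ⊔ L)⁆ ≤ O ⊔ L := by
      have key : ∀ c ∈ cen1 t ⊓ (cen L ⊔ L), ∃ a ∈ O ⊔ L, ∃ z, (∀ b ∈ cen1 t, b * z = z * b) ∧ c = z * a :=
        fun c hc => by
          obtain ⟨o, ho, l, hl, e | e⟩ := hF c hc.1 hc.2
          · exact ⟨_, mul_mem (mem_sup_left ho) (mem_sup_right hl), 1, by simp, by rw [e, one_mul]⟩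
          · exact ⟨_, mul_mem (mem_sup_left ho) (mem_sup_right hl), t, fun b hb => H99.Wr.mem_cen1.1 hb, e⟩
      have hle : O ⊔ L ≤ cen1 t := sup_le (hOle.trans inf_le_right) fun l hl => H99.Wr.mem_cen1.2 (hLt l hl)
      refine commutator_le.mpr fun c hc c' hc' => ?_
      obtain ⟨a, ha, z, hz, e⟩ := key c hc
      obtain ⟨b, hb, w, hw, e'⟩ := key c' hc'
      have h2 : c * c' * c⁻¹ = a * c' * a⁻¹ := by
        have h3 := hz _ ((cen1 t).mul_mem ((cen1 t).mul_mem (hle ha) hc'.1) (inv_mem (hle ha)))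
        calc c * c' * c⁻¹ = z * (a * c' * a⁻¹) * z⁻¹ := by rw [e]; group
          _ = _ := by rw [← h3]; group
      have h4 : c' * a⁻¹ * c'⁻¹ = b * a⁻¹ * b⁻¹ := by
        have h3 := hw _ (mul_mem (mul_mem (hle hb) (inv_mem (hle ha))) (inv_mem (hle hb)))
        calc c' * a⁻¹ * c'⁻¹ = w * (b * a⁻¹ * b⁻¹) * w⁻¹ := by rw [e']; group
          _ = _ := by rw [← h3]; group
      rw [commutatorElement_def, h2, mul_assoc, mul_assoc, ← mul_assoc c', h4]
      exact mul_mem ha (mul_mem (mul_mem hb (inv_mem ha)) (inv_mem hb))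
    have h0 : ⁅cen1 t, cen1 t⁆ ≤ cen1 t ⊓ (cen L ⊔ L) := le_inf (commutator_le_self _)
      (comm_le_two fun c hc d hd => hmul c (hnL hc) d (hnL hd))
    have h2 : P (g * t * g⁻¹) ≤ cj g (cen1 t) := (hP.le _ hy hy2).trans
      (inf_le_right.trans (cj_cen1 g t).ge)
    have h2' : P (g * t * g⁻¹) ≤ cj g (cen1 t ⊓ (cen L ⊔ L)) := (hP.perf _ hy hy2).ge.trans
      ((commutator_mono h2 h2).trans ((cj_commutator _ _ _).ge.trans (cj_mono g h0)))
    have h3 : g * t * g⁻¹ ∈ cj g (O ⊔ L) := by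
      refine cj_mono g h1 ?_
      rw [cj_commutator]
      exact commutator_mono h2' h2' ((hP.perf _ hy hy2).ge (hP.mem _ hy hy2))
    rw [conj_mem_cj_iff, mem_sup_left_norm
      (le_normalizer_of_le_centralizer (hOle.trans inf_le_left))] at h3
    obtain ⟨o, ho, l, hl, e⟩ := h3
    have h4 : l ∈ O := hzL ⟨hl, ((cen L).mul_mem_cancel_left (hOle ho).1).mp (e ▸ htK)⟩
    exact H14.ne_one_of_two ht2 (one_of_odd_sq (odd_of_mem hO (e ▸ mul_mem ho h4)) tt)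
  refine ⟨t, O, ⟨ht2, htK, hOle.trans inf_le_left, hOle.trans inf_le_right, hO,
    le_normalizer_res (le_normalizer_inf (le_normalizer_centralizer hnL) le_normalizer), hnL, hzL,
    fun c hc h2 => hF c hc (kl.1 (hX.out c (hnL hc) h2)), fun A hA el tA cA a ha => hF a (hA ha) ?_,
    hnc, ?_⟩⟩
  · by_contra aI
    obtain ⟨l, hl, h1, -, h2, h3⟩ := exists_swap hD hX (hnL (hA ha)) (el a ha) aI
      (A := A ⊓ (cen L ⊔ L) ⊓ L) inf_le_right (el.two.to_le (inf_le_left.trans inf_le_left))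
      fun b hb => H99.Wr.mem_cen1.2 (el.comm hb.1.1 ha)
    have c1 := (sw G S E E' _ hX.sy h2 h3).1 _ h1
      ((el.mono (inf_le_left.trans inf_le_left)).cj l) (by
        rw [← cj_cen1]
        exact cj_mono l fun b hb => H99.Wr.mem_cen1.2 (el.comm hb.1.1 ha))
    have c2 := relIndex_le_two (A := A) (K := cen L ⊔ L) fun b hb c hc =>
      hmul b (hnL (hA hb)) c (hnL (hA hc))
    have key : ∀ b ∈ A ⊓ (cen L ⊔ L), b ∉ L → t * b ∈ L := fun b hb h4 => by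
      obtain ⟨k, hk, m, hm, e, kk, -⟩ := (kl.2 hb.2).dec2 hZ (el b hb.1)
      have h5 : k ∈ cen1 t :=
        (mul_mem_cancel_right (H99.Wr.mem_cen1.2 (hLt m hm))).mp (e ▸ hA hb.1)
      rcases (mem_zpowers_sq tt).1 (hR.le_of_le_normalizer' (isPGroup_zpowers (k := 1)
        (by rw [pow_one, pow_two, kk])) (zpowers_le.2 hk) (zpowers_le.2
          (centralizer_le_normalizer _ ((cen1_eq t).le h5))) (mem_zpowers k)) with h6 | h6
      · exact (h4 (by rwa [e, h6, one_mul])).elim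
      · rwa [e, h6, ← mul_assoc, tt, one_mul]
    have c3 := relIndex_le_two (A := A ⊓ (cen L ⊔ L)) (K := L) fun b hb c hc h4 h5 => by
      have := mul_mem (key b hb h4) (key c hc h5)
      rwa [← H99.Wr.mem_cen1.1 (hA hb.1), mul_assoc, ← mul_assoc t, tt, one_mul] at this
    rw [card_eq_relIndex_mul A (cen L ⊔ L), card_eq_relIndex_mul (A ⊓ (cen L ⊔ L)) L,
      hX.sy.cE] at cA
    rw [card_cj] at c1
    have := Nat.mul_le_mul c2 (Nat.mul_le_mul c3 c1)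
    omega
  obtain ⟨l, hl, he⟩ := hD.inv x hx (H14.mul_self_of_two hx2)
  refine ⟨l * h, _, he, by simpa using H14.ne_one_of_two hx2, ?_⟩
  have h1 := hh.resolve_left fun e => hnc h (e ▸ hx)
  calc l * h * t * (l * h)⁻¹ = l * (h * t * h⁻¹) * l⁻¹ := by group
    _ = l * t * x * l⁻¹ := by rw [h1]; group
    _ = _ := by rw [hLt l hl]; group

end H44.WrO
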