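import Cfsg.Agent.H99.WrOBase

/-! STD-H, section 9: jobs SW and Out. -/

set_option autoImplicit false
open Subgroup Cfsg H98 H1.Gold H99.Wr

universe u

namespace H44.WrO

variable {G : Type u} [Group G]

theorem four_cases [Finite G] {Z : Subgroup G} (h4 : Nat.card Z = 4) (el : El Z) {a b c : G}
    (ha : a ∈ Z) (hb : b ∈ Z) (a1 : a ≠ 1) (b1 : b ≠ 1) (ab : a ≠ b) (hc : c ∈ Z) :
    c = 1 ∨ c = a ∨ c = b ∨ c = a * b := by
  have h1 : a * b ≠ 1 := fun e => ab (by rw [eq_inv_of_mul_eq_one_left e, inv_of_sq (el b hb)])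
  have h2 : ({1, a, b, a * b} : Set G) = Z := by
    refine Set.eq_of_subset_of_ncard_le ?_ ?_
    · rintro x (rfl | rfl | rfl | rfl)
      exacts [Z.one_mem, ha, hb, Z.mul_mem ha hb]
    · rw [← Nat.card_coe_set_eq, SetLike.coe_sort_coe, h4, Set.ncard_insert_of_notMem,
        Set.ncard_insert_of_notMem, Set.ncard_pair] <;> simp [a1, b1, ab, a1.symm, b1.symm, h1.symm]
  have : c ∈ ({1, a, b, a * b} : Set G) := h2 ▸ hc
  simpa using this

/-- the square of a 2-element normalising a four-group centralises it -/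
theorem sq_cen_four [Finite G] {Z : Subgroup G} (h4 : Nat.card Z = 4) (el : El Z) {q : G}
    (hq : q ∈ nor Z) {k : ℕ} (hk : q ^ 2 ^ k = 1) : q * q ∈ cen Z := by
  obtain ⟨⟨z, hz⟩, z1⟩ := ne_bot_iff_exists_ne_one.1 (inf_centralizer_ne_bot el.two
    (isPGroup_zpowers hk) (zpowers_le.2 hq) (fun e => by simp [e] at h4))
  have z1 : z ≠ 1 := fun e => z1 (Subtype.ext e)
  have qz : q * z * q⁻¹ = z := cj_of_comm (mem_cen.1 hz.2 q (mem_zpowers q))
  refine mem_cen.2 fun w hw => (comm_of_cj ?_).symm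
  rw [show q * q * w * (q * q)⁻¹ = q * (q * w * q⁻¹) * q⁻¹ by group]
  by_cases w1 : w = 1
  · simp [w1]
  by_cases wz : z = w
  · rw [← wz, qz, qz]
  rcases four_cases h4 el hz.1 hw z1 w1 wz (conj_mem_of_mem_normalizer hq hw) with e | e | e | e
  · exact absurd (conj_eq_one_iff.1 e) w1
  · exact absurd (mul_left_cancel (mul_right_cancel (qz.trans e.symm))) wz
  · rw [e, e]
  · rw [e, ← conj_mul, qz, e, ← mul_assoc, el z hz.1, one_mul]

theorem coset_sq {A : Subgroup G} {y : G} (hn : y ∈ nor A) (h2 : y * y ∈ A) {g : G}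
    (hg : g ∈ A ⊔ zpowers y) : g ∈ A ∨ g * y⁻¹ ∈ A := by
  obtain ⟨a, ha, _, ⟨k, rfl⟩, rfl⟩ := (mem_sup_right_norm (zpowers_le.2 hn)).1 hg
  rcases Int.even_or_odd' k with ⟨m, rfl | rfl⟩
  · exact Or.inl (mul_mem ha (by simpa only [zpow_mul, zpow_two] using zpow_mem h2 m))
  · refine Or.inr ?_
    simp only [zpow_add, zpow_one, zpow_mul, zpow_two, mul_assoc, mul_inv_cancel, mul_one]
    exact mul_mem ha (zpow_mem h2 m)

section SW

variable [Finite G] {S E E' : Subgroup G} {v : G} (h : Sy S E E') (h1 : cj v E = E')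
  (h2 : cj v E' = E)
include h h1 h2

omit [Finite G] in
theorem fix_Z {j : G} (hj : j ∈ E ⊔ E') (jj : j * j = 1) (hv : v * j * v⁻¹ = j) : j ∈ E ⊓ E' := by
  rcases h.inv_J hj jj with e | e
  · exact ⟨e, by rw [← h1, ← hv]; exact conj_mem_cj e⟩
  · exact ⟨by rw [← h2, ← hv]; exact conj_mem_cj e, e⟩

theorem sw1 {A : Subgroup G} (hA : A ≤ S) (el : El A) (hv : A ≤ cen1 v) : Nat.card A ≤ 4 := by
  have k : (E ⊔ E') ⊓ A ≤ E ⊓ E' := fun a ha =>
    fix_Z h h1 h2 ha.1 (el a ha.2) (cj_of_comm (H99.Wr.mem_cen1.1 (hv ha.2)).symm)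
  by_cases hZ : E ⊓ E' ≤ A
  · exact h.cZ ▸ card_le_of_le fun a ha =>
      k ⟨h.cenZ ⟨hA ha, centralizer_anti hZ (el.le_cen ha)⟩, ha⟩
  · have h3 := card_dvd_of_le k
    have h4 : Nat.card ↥((E ⊔ E') ⊓ A) ≠ 4 := fun e => hZ
      ((eq_of_le_of_card_ge k (by rw [e, h.cZ])).ge.trans inf_le_right)
    have h5 := relIndex_le_of_le_right (H := E ⊔ E') hA (by rw [h.relIndex_J]; omega)
    have h6 := card_mul_index ((E ⊔ E').subgroupOf A)
    rw [← inf_subgroupOf_right, Nat.card_congr (subgroupOfEquivOfLe inf_le_right).toEquiv,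
      inf_subgroupOf_right, ← relIndex] at h6
    rw [h.cZ] at h3
    rw [h.relIndex_J] at h5
    have h7 := Nat.le_of_dvd (by omega) h3
    generalize Nat.card ↥((E ⊔ E') ⊓ A) = n at *
    have : n ≤ 2 := by interval_cases n <;> omega
    nlinarith

omit [Finite G] h2 in
theorem xe (vv : v * v = 1) {e : G} (he : e ∈ E) :
    e * (v * e * v⁻¹) ∈ E ⊔ E' ∧ e * (v * e * v⁻¹) * (e * (v * e * v⁻¹)) ∈ E ⊓ E' ∧
      v * (e * (v * e * v⁻¹)) * v⁻¹ = (e * (v * e * v⁻¹))⁻¹ := by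
  have h3 : v * e * v⁻¹ ∈ E' := h1 ▸ conj_mem_cj he
  refine ⟨mul_mem (mem_sup_left he) (mem_sup_right h3), h.comm_mem he h3, ?_⟩
  rw [mul_inv_rev, inv_of_sq (h.el _ he), inv_of_sq (h.el' _ h3), ← conj_mul,
    show v * (v * e * v⁻¹) * v⁻¹ = v * v * e * (v * v)⁻¹ by group, vv]
  group

omit [Finite G] in
theorem xe_ne {e : G} (he : e ∈ E) (hn : e ∉ E') :
    e * (v * e * v⁻¹) * (e * (v * e * v⁻¹)) ≠ 1 := fun c => by
  have h3 : v * e * v⁻¹ ∈ E' := h1 ▸ conj_mem_cj he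
  exact hn ((h.nc e he _ h3 (h.comm_of_sq he h3 c)).elim id fun c => by
    rwa [← h2, conj_mem_cj_iff] at c)

omit [Finite G] h h1 h2 in
theorem conj_inv_v {x : G} (hx : v * x * v⁻¹ = x⁻¹) : x * v * x⁻¹ = x * x * v := by
  rw [show x * v * x⁻¹ = x * (v * x * v⁻¹)⁻¹ * v by group, hx, inv_inv]

omit [Finite G] h1 h2 in
theorem bil {a a' b : G} (ha : a ∈ E) (ha' : a' ∈ E) (hb : b ∈ E') :
    a * a' * b * (a * a' * b) = a * b * (a * b) * (a' * b * (a' * b)) := by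
  have c := mem_cen.1 (h.Z_cen (h.comm_mem ha' hb)) (b * (a * b))
    (mul_mem (mem_sup_right hb) (mul_mem (mem_sup_left ha) (mem_sup_right hb)))
  calc _ = a * (a' * b * (a' * b)) * (b * (a * b)) := by
        nth_rw 2 [h.el.comm ha ha']
        rw [show a * (a' * b * (a' * b)) * (b * (a * b)) = a * a' * b * a' * (b * b) * a * b by group,
          h.el' b hb]
        group
    _ = _ := by rw [mul_assoc, ← c]; group

/-- if `v` centralises `Z`, then `v` is conjugate to each element of `Z v` -/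
theorem all_Z (vv : v * v = 1) (hv : v ∈ cen (E ⊓ E')) {ζ : G} (hζ : ζ ∈ E ⊓ E') :
    ∃ x ∈ E ⊔ E', x * v * x⁻¹ = ζ * v := by
  obtain ⟨e, he, hn⟩ := h.exists_not
  obtain ⟨f, hf, f1, f2⟩ : ∃ f ∈ E, f ∉ E' ∧ e * f ∉ E' := by
    by_contra hc
    push Not at hc
    have h3 : E'.relIndex E = 2 := relIndex_eq_two_iff.2 ⟨e, he, fun b hb => by
      by_cases h4 : b ∈ E'
      · exact Or.inr ⟨h4, fun c => hn ((mul_mem_cancel_left h4).1 c)⟩
      · exact Or.inl ⟨h.el.comm he hb ▸ hc b hb h4, h4⟩⟩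
    have h6 := card_mul_index (E'.subgroupOf E)
    rw [← inf_subgroupOf_right, Nat.card_congr (subgroupOfEquivOfLe inf_le_right).toEquiv,
      inf_subgroupOf_right, ← relIndex, h3, inf_comm, h.cZ, h.cE] at h6
    omega
  obtain ⟨e1, e2, e3⟩ := xe h h1 vv he
  obtain ⟨g1, g2, g3⟩ := xe h h1 vv hf
  have elZ : El (E ⊓ E') := h.el.mono inf_le_left
  have ne : e * (v * e * v⁻¹) * (e * (v * e * v⁻¹)) ≠ f * (v * f * v⁻¹) * (f * (v * f * v⁻¹)) := by
    intro c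
    refine xe_ne h h1 h2 (mul_mem he hf) f2 ?_
    have e' : v * e * v⁻¹ ∈ E' := h1 ▸ conj_mem_cj he
    have f' : v * f * v⁻¹ ∈ E' := h1 ▸ conj_mem_cj hf
    have sy : ∀ {a b : G}, a ∈ E → b ∈ E' → a * b * (a * b) = b * a * (b * a) := fun {a b} ha hb => by
      rw [← inv_of_sq (elZ _ (h.comm_mem ha hb)), mul_inv_rev, mul_inv_rev, inv_of_sq (h.el a ha),
        inv_of_sq (h.el' b hb)]
    have k : v * e * v⁻¹ * f * (v * e * v⁻¹ * f) = v * f * v⁻¹ * e * (v * f * v⁻¹ * e) := by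
      rw [← sy he f', ← cj_of_comm (mem_cen.1 hv _ (h.comm_mem he f')).symm, ← conj_mul, ← conj_mul,
        show v * (v * f * v⁻¹) * v⁻¹ = v * v * f * (v * v)⁻¹ by group, vv, one_mul, inv_one, mul_one]
    rw [bil h he hf (h1 ▸ conj_mem_cj (mul_mem he hf)), ← conj_mul, sy he (mul_mem e' f'),
      sy hf (mul_mem e' f'), bil h.symm e' f' he, bil h.symm e' f' hf, k, ← sy he e', ← sy hf f', ← c,
      ← sy he f', elZ.comm (h.comm_mem he f') e2]
    exact elZ _ (mul_mem e2 (h.comm_mem he f'))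
  rcases four_cases h.cZ elZ e2 g2 (xe_ne h h1 h2 he hn) (xe_ne h h1 h2 hf f1) ne hζ with
    c | c | c | c
  · exact ⟨1, one_mem _, by rw [c]; group⟩
  · exact ⟨_, e1, c ▸ conj_inv_v e3⟩
  · exact ⟨_, g1, c ▸ conj_inv_v g3⟩
  · refine ⟨_, mul_mem e1 g1, ?_⟩
    generalize e * (v * e * v⁻¹) = x at *
    generalize f * (v * f * v⁻¹) = y at *
    calc _ = x * (y * v * y⁻¹) * x⁻¹ := by group
      _ = x * (y * y) * v * x⁻¹ := by rw [conj_inv_v g3]; group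
      _ = y * y * (x * v * x⁻¹) := by rw [mem_cen.1 (h.Z_cen g2) x e1]; group
      _ = _ := by rw [conj_inv_v e3, c, elZ.comm e2 g2]; group

theorem sw2 (hS : v ∈ nor S) (vv : v * v = 1) : ∃ y ∈ S, y * v = v * y ∧ y * y ∈ E ⊓ E' ∧
    y * y ≠ 1 ∧ ∃ x ∈ E ⊔ E', x * v * x⁻¹ = y * y * v := by
  have elZ : El (E ⊓ E') := h.el.mono inf_le_left
  have vZ : v ∈ nor (E ⊓ E') := Blk.nor_inf (Or.inr ⟨h1, h2⟩)
  have vJ : v ∈ nor (E ⊔ E') := Blk.nor (Or.inr ⟨h1, h2⟩)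
  by_cases hv : v ∈ cen (E ⊓ E')
  · suffices ∃ y ∈ S, y * v = v * y ∧ y * y ∈ E ⊓ E' ∧ y * y ≠ 1 by
      obtain ⟨y, a, b, c, d⟩ := this
      exact ⟨y, a, b, c, d, all_Z h h1 h2 vv hv c⟩
    obtain ⟨s, hs, -, sJ⟩ := h.inv
    have s' : v * s⁻¹ * v⁻¹ ∈ S := conj_mem_of_mem_normalizer hS (inv_mem hs)
    obtain ⟨e, he, e', he', h3⟩ := h.mem_J.1 ((h.mul_mem_J hs s').2 (by
      rw [← cj_eq_self vJ, conj_mem_cj_iff, cj_eq_self vJ, inv_mem_iff]))
    have h4 : e' * (v * e * v⁻¹) ∈ E' := mul_mem he' (h1 ▸ conj_mem_cj he)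
    have h5 : e⁻¹ * s * v * (e⁻¹ * s)⁻¹ = e' * (v * e * v⁻¹) * v := by
      rw [show e⁻¹ * s * v * (e⁻¹ * s)⁻¹ = e⁻¹ * (s * (v * s⁻¹ * v⁻¹)) * v * e by group, h3]; group
    generalize e' * (v * e * v⁻¹) = j at h4 h5
    have h6 : j ∈ E ⊓ E' := fix_Z h h1 h2 (mem_sup_right h4) (h.el' j h4) (by
      have : j * v * (j * v) = 1 := by rw [← h5, conj_mul, vv]; group
      rw [inv_of_sq vv, ← inv_of_sq (h.el' j h4), eq_inv_iff_mul_eq_one, inv_of_sq (h.el' j h4)]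
      calc _ = v * (j * v * (j * v)) * v⁻¹ := by group
        _ = 1 := by rw [this]; group)
    obtain ⟨x, hx, h7⟩ := all_Z h h1 h2 vv hv h6
    have a1 : x⁻¹ * (e⁻¹ * s) ∈ S := mul_mem (inv_mem (h.J_le hx)) (mul_mem (inv_mem (h.ES he)) hs)
    have a2 : x⁻¹ * (e⁻¹ * s) ∉ E ⊔ E' := by
      rwa [mul_mem_cancel_left (inv_mem hx), mul_mem_cancel_left (inv_mem (mem_sup_left he))]
    have a3 : x⁻¹ * (e⁻¹ * s) * v = v * (x⁻¹ * (e⁻¹ * s)) := comm_of_cj (by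
      calc _ = x⁻¹ * (e⁻¹ * s * v * (e⁻¹ * s)⁻¹) * x := by group
        _ = v := by rw [h5, ← h7]; group)
    generalize x⁻¹ * (e⁻¹ * s) = a at a1 a2 a3
    have a4 : a * a ∈ E ⊔ E' := (h.mul_mem_J a1 a1).2 Iff.rfl
    have a5 : a * a * v = v * (a * a) := (Commute.mul_left a3 a3 :)
    by_cases b1 : a * a * (a * a) = 1
    · by_cases b2 : a * a = 1
      · obtain ⟨w, hw, h8⟩ : ∃ w ∈ E ⊓ E', w * a ≠ a * w := by
          by_contra hc
          push Not at hc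
          exact a2 (h.cenZ ⟨a1, mem_cen.2 hc⟩)
        refine ⟨a * w, mul_mem a1 (h.ES hw.1), (Commute.mul_left a3 (mem_cen.1 hv w hw) :), ?_,
          fun c => h8 ?_⟩
        · have := mul_mem (conj_mem_of_mem_normalizer (h.nor_Z a1) hw) hw
          rwa [inv_of_sq b2, mul_assoc (a * w)] at this
        · rw [← inv_of_sq c, mul_inv_rev, inv_of_sq b2, inv_of_sq (elZ w hw)]
      · exact ⟨a, a1, a3, fix_Z h h1 h2 a4 b1 (cj_of_comm a5.symm), b2⟩
    · obtain ⟨c, hc, c', hc', e1⟩ := h.mem_J.1 a4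
      exact ⟨a * a, mul_mem a1 a1, a5, e1 ▸ h.comm_mem hc hc', b1⟩
  · obtain ⟨w, hw, h3⟩ : ∃ w ∈ E ⊓ E', w * v ≠ v * w := by
      by_contra hc
      push Not at hc
      exact hv (mem_cen.2 hc)
    obtain ⟨e, he, hn⟩ := h.exists_not
    obtain ⟨e1, e2, e3⟩ := xe h h1 vv he
    have e4 := xe_ne h h1 h2 he hn
    generalize e * (v * e * v⁻¹) = x at e1 e2 e3 e4
    have e5 : v * (x * x) * v⁻¹ = x * x := by
      rw [← conj_mul, e3, ← mul_inv_rev, inv_of_sq (elZ _ e2)]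
    have w1 : w ≠ 1 := fun c => h3 (by simp [c])
    have w2 : x * x ≠ w := fun c => h3 (c ▸ (comm_of_cj e5).symm)
    have e6 : v * w * v⁻¹ = x * x * w := by
      rcases four_cases h.cZ elZ e2 hw e4 w1 w2 (conj_mem_of_mem_normalizer vZ hw) with c | c | c | c
      · exact absurd (conj_eq_one_iff.1 c) w1
      · exact absurd (mul_left_cancel (mul_right_cancel (e5.trans c.symm))) w2
      · exact absurd (comm_of_cj c).symm h3
      · exact c
    have e7 : x * w * (x * w) = x * x := by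
      rw [mul_assoc, ← mul_assoc w, ← mem_cen.1 (h.Z_cen hw) x e1, mul_assoc, elZ w hw, mul_one]
    refine ⟨x * w, mul_mem (h.J_le e1) (h.ES hw.1), (comm_of_cj ?_).symm, e7 ▸ e2, e7 ▸ e4, x, e1,
      e7 ▸ conj_inv_v e3⟩
    rw [← conj_mul, e3, e6]; group

end SW

theorem jobSW : JobSW.{u} := fun _ _ _ _ _ _ _ h h1 h2 =>
  ⟨fun _ hA el hv => sw1 h h1 h2 hA el hv, sw2 h h1 h2⟩

theorem jobOut : JobOut.{u} := by
  intro G _ _ L S E E' P v hS hO vL vS h1 h2 vv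
  have h := hO.sy
  have : Fact (Nat.Prime 3) := ⟨Nat.prime_three⟩
  obtain ⟨ρ, hρ, ⟨i, hi⟩, fr⟩ := hO.rho
  set B := L ⊓ nor E ⊓ nor E' with hB
  have SB : IsSyl 2 S B := hS.of_le (le_inf (le_inf hS.le h.SN) h.SN') (inf_le_left.trans inf_le_left)
  have vB : v ∈ nor B := cj_eq_self_iff.1 (by
    rw [hB, cj_inf, cj_inf, cj_normalizer, cj_normalizer, cj_eq_self vL, h1, h2, inf_right_comm])
  have nB : v ∉ B := fun c => h.ne ((cj_eq_self c.1.2).symm.trans h1)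
  have BJ : B ≤ nor (E ⊔ E') := le_normalizer_sup (inf_le_left.trans inf_le_right) inf_le_right
  have BZ : B ≤ nor (E ⊓ E') := le_normalizer_inf (inf_le_left.trans inf_le_right) inf_le_right
  have HB : B ⊔ zpowers v ≤ nor B := sup_le le_normalizer (zpowers_le.2 vB)
  have HZ : B ⊔ zpowers v ≤ nor (E ⊓ E') := sup_le BZ (zpowers_le.2 (Blk.nor_inf (Or.inr ⟨h1, h2⟩)))
  have vH : v ∈ B ⊔ zpowers v := mem_sup_right (mem_zpowers v)
  obtain ⟨R, hR, ρR⟩ := exists_isSyl_le (isPGroup_zpowers hi) (zpowers_le.2 hρ)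
  obtain ⟨n, hn, b, hb, e⟩ := hR.frattini_mem vB
  have nv : n * v⁻¹ ∈ B := by
    rw [show n = v * b⁻¹ by rw [e]; group]; exact conj_mem_of_mem_normalizer vB (inv_mem hb)
  have nH : n ∈ B ⊔ zpowers v := by simpa using mul_mem (mem_sup_left nv) vH
  have sq : ∀ x ∈ B ⊔ zpowers v, x * x ∈ B := fun x hx => by
    rcases coset_sq vB (SB.le vv) hx with c | c
    · exact mul_mem c c
    · rw [show x * x = x * v⁻¹ * (v * (x * v⁻¹) * v⁻¹) * (v * v) by group]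
      exact mul_mem (mul_mem c (conj_mem_of_mem_normalizer vB c)) (SB.le vv)
  obtain ⟨_, ⟨m, rfl⟩, k, hk⟩ := exists_odd_pow n
  have qB : n ^ (2 * m + 1) ∉ B := fun c => nB (by
    rw [pow_succ, pow_mul, pow_two, mul_mem_cancel_left (pow_mem (sq n nH) m)] at c
    exact inv_mem_iff.1 ((mul_mem_cancel_left c).1 nv))
  have qH := pow_mem nH (2 * m + 1)
  have qR := pow_mem hn (2 * m + 1)
  generalize n ^ (2 * m + 1) = q at hk qB qH qR
  have qq : q * q = 1 := by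
    obtain ⟨g, hg, h3⟩ := SB.exists_cj_le (isPGroup_zpowers (k := k) (x := q * q)
      (by rw [← pow_two, ← pow_mul, mul_comm, pow_mul, hk, one_pow])) (zpowers_le.2 (sq q qH))
    have h4 : q * q ∈ E ⊔ E' := by
      rw [← conj_mem_cj_iff (g := g), cj_eq_self (BJ hg)]
      exact h.cenZ ⟨h3 (conj_mem_cj (mem_zpowers _)), conj_mem_of_mem_normalizer
        (normalizer_le_normalizer_centralizer _ (BZ hg))
        (sq_cen_four h.cZ (h.el.mono inf_le_left) (HZ qH) hk)⟩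
    refine fr _ h4 (comm_of_cj (mul_inv_eq_one.1 ?_))
    have a1 : ρ * (q * q) * ρ⁻¹ * (q * q)⁻¹ ∈ E ⊔ E' :=
      mul_mem (conj_mem_of_mem_normalizer (BJ hρ) h4) (inv_mem h4)
    have a2 : ρ * (q * q) * ρ⁻¹ * (q * q)⁻¹ ∈ R := by
      rw [mul_assoc, mul_assoc, ← mul_assoc (q * q)]
      exact mul_mem (ρR (mem_zpowers ρ)) (conj_mem_of_mem_normalizer (mul_mem qR qR)
        (inv_mem (ρR (mem_zpowers ρ))))
    obtain ⟨j, hj⟩ := isPGroup_iff_forall.1 h.two _ (h.J_le a1)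
    obtain ⟨l, hl⟩ := isPGroup_iff_forall.1 hR.isPGroup _ a2
    exact one_of_odd ((Odd.pow (by decide)).of_dvd_nat (orderOf_dvd_of_pow_eq_one hl)) hj
  have hT : IsSyl 2 (S ⊔ zpowers v) (B ⊔ zpowers v) := by
    refine ⟨sup_le_sup_right SB.le _, isPGroup_of_forall_pow_mem h.two fun x hx => ⟨1, ?_⟩,
      fun Q hQ a1 a2 => le_antisymm (fun x hx => ?_) a1⟩
    · rw [pow_one, pow_two]
      rcases coset_sq vS vv hx with c | c
      · exact mul_mem c c
      · rw [show x * x = x * v⁻¹ * (v * (x * v⁻¹) * v⁻¹) * (v * v) by group]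
        exact mul_mem (mul_mem c (conj_mem_of_mem_normalizer vS c)) vv
    · have a3 : Q ⊓ B = S := SB.eq_of_le (hQ.to_inf_left) (le_inf (le_sup_left.trans a1) SB.le)
        inf_le_right
      rcases coset_sq vB (SB.le vv) (a2 hx) with c | c
      · exact mem_sup_left (a3.le ⟨hx, c⟩)
      · simpa using mul_mem (mem_sup_left (a3.le ⟨Q.mul_mem hx (Q.inv_mem (a1 (mem_sup_right
          (mem_zpowers v)))), c⟩)) (mem_sup_right (S := S) (mem_zpowers v))
  obtain ⟨g, hg, h3⟩ := hT.exists_cj_le (isPGroup_zpowers hk) (zpowers_le.2 qH)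
  rcases coset_sq vS vv (h3 (conj_mem_cj (mem_zpowers q))) with c | c
  · exact absurd (by simpa [mul_assoc] using conj_mem_of_mem_normalizer' (HB hg) (SB.le c)) qB
  · exact ⟨_, c, by rw [inv_mul_cancel_right, conj_mul, qq]; group⟩

end H44.WrO
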