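import Cfsg.Agent.H44.Sv2
import Cfsg.Agent.S0144

/-! A sieve for the orders of simple groups, part 3: soundness of the tests. -/

set_option autoImplicit false
set_option linter.unusedSectionVars false

namespace H44.Sv

open Cfsg H28 H87 H45 H39 Subgroup Finset
open scoped ComplexConjugate Classical

theorem sum_filter_map {α : Type*} (f : α → ℤ) (B : α → Bool) : ∀ l : List α,
    ((l.filter B).map f).sum = (l.map fun a => if B a then f a else 0).sum
  | [] => rfl
  | a :: l => by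
    by_cases h : B a = true <;> simp [h, sum_filter_map f B l]

theorem natAbs_sign {s : ℤ} (hs : s = 1 ∨ s = -1) (d : ℕ) : (s * d).natAbs = d := by
  rcases hs with rfl | rfl <;> simp

theorem div_sign {s : ℤ} (hs : s = 1 ∨ s = -1) (a n d : ℤ) :
    (s * a) ^ 2 * (n / (s * d)) = s * (a ^ 2 * (n / d)) := by
  rcases hs with rfl | rfl <;> simp

variable {G : Type*} [Group G] [Finite G] [IsSimpleGroup G] (hna : ¬ IsMulCommutative G)
include hna

theorem k16_of {p : ℕ} [hp : Fact p.Prime] (h2 : 2 < p) {P : Sylow p G}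
    (hP : Nat.card (P : Subgroup G) = p) (hc : Nat.card (Cen (P : Subgroup G)) ≠ p)
    {ψ : IrrCharacter G} (h1 : ψ ≠ one G) {δ : ℤ} (hδ : δ = 1 ∨ δ = -1)
    (hv : ∀ g, p ∣ orderOf g → (ψ : G → ℂ) g = δ) (hd : (p : ℤ) ∣ δ * dg ψ - 1) {D : ℤ}
    (hD : D.natAbs = dg ψ) : k16 p D = true := by
  cases nonempty_fintype G
  obtain ⟨V, hV⟩ := exists_cpl hP
  obtain ⟨v, hv1, hv2⟩ : ∃ v ∈ V, v ≠ 1 := by
    by_contra! h
    rw [hV.card_cen, (eq_bot_iff_forall V).2 h, Subgroup.card_bot, mul_one] at hc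
    exact hc rfl
  obtain ⟨x, hx, x1⟩ := exists_ne_one_mem_prime hP
  have key := fun h => k16_core (commutator_eq_top hna) ψ.2.isCharacter hp.out (coe_dg ψ).symm hv h
    (orderOf_eq_of_mem_prime hP hx x1) (hV.reg v hv1) (hV.le hv1 x hx)
  replace key := fun h => hv2 (mem_bot.1 (ψ.2.charKer_eq_bot_of_simple
    (fun e => h1 (Subtype.ext e)) ▸ ψ.2.mem_charKer.2 ((key h).trans (coe_dg ψ))))
  have h3 : ¬ (p : ℤ) ∣ 2 := fun e => by have := Int.le_of_dvd two_pos e; omega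
  simp only [k16, hD, Bool.and_eq_true, bne_iff_ne]
  obtain ⟨k, hk⟩ := hd
  rcases hδ with rfl | rfl
  · refine ⟨⟨fun e => key (by omega), fun e => key (by omega)⟩, fun e => h3 ⟨2 - k, ?_⟩⟩
    have : (dg ψ : ℤ) + 1 = 2 * p := by exact_mod_cast e
    linear_combination this - hk
  · exact ⟨⟨fun e => key (by omega), fun e => key (by omega)⟩, fun e => key (by omega)⟩

theorem exists_surv (hn : Nat.card G < 6400) {p : ℕ} [hp : Fact p.Prime] (P : Sylow p G)
    (hP : Nat.card (P : Subgroup G) = p) : ∃ e np L, (e, np, L) ∈ surv (Nat.card G) p ∧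
      (∃ θ : IrrCharacter G, dg θ = (1 + L.sum).natAbs) ∧
      (Nat.card G = np * e * p → ∀ ψ : IrrCharacter G, p ∣ dg ψ ∨ dg ψ = 1 ∨
        (∃ d ∈ L, dg ψ = d.natAbs) ∨ dg ψ = (1 + L.sum).natAbs) := by
  cases nonempty_fintype G
  have hG := commutator_eq_top hna
  have h0 : 0 < Nat.card G := Nat.card_pos
  obtain ⟨e, c, he1, he2, he, hc, -, hcard⟩ := prime_sylow_data hna P hP
  obtain ⟨t, X, Y, δ, ε, h'⟩ := exists_br H2.cycKey2 P hP
  have h : Br p e t X Y δ ε := he ▸ h'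
  have hte := h.te
  have ht : (p - 1) / e = t := by rw [← hte, Nat.add_sub_cancel, Nat.mul_div_cancel _ h.e_pos]
  have h2 : 2 < p := by nlinarith [h.t_pos]
  set np := Nat.card (Sylow p G) with hnp
  obtain ⟨x, hx, x1⟩ := exists_ne_one_mem_prime hP
  have ox := (orderOf_eq_of_mem_prime hP hx x1).symm.dvd
  have hidx : (centralizer ({x} : Set G)).index = np * e := by
    have h1 := (centralizer ({x} : Set G)).index_mul_card
    rw [centralizer_singleton_eq_prime hP hx x1] at h1 ⊢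
    rw [hcard, ← mul_assoc, ← hc] at h1
    exact Nat.eq_of_mul_eq_mul_right Nat.card_pos h1
  obtain ⟨θ, hθ⟩ := h.Y_nonempty
  have hlt : ∀ ψ : IrrCharacter G, ψ ≠ one G → 1 < dg ψ := fun ψ h1 =>
    lt_of_le_of_ne (dg_pos ψ) fun e => h1 (eq_one_of_dg hG e.symm)
  obtain ⟨cs, hperm, hcomb⟩ := exists_combo (fun χ : IrrCharacter G => δ χ * dg χ)
    (xs (Nat.card G) p (np * e)) (X.erase (one G)).toList fun χ hχ => by
      obtain ⟨h1, hχ⟩ := mem_erase.1 (mem_toList.1 hχ)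
      have h3 := br_dvd_sub_one h hχ
      have h4 : dg χ % p = 1 ∧ δ χ = 1 ∨ dg χ % p + 1 = p ∧ δ χ = -1 := by
        have h5 := Nat.mod_lt (dg χ) hp.out.pos
        have h6 := congrArg (Nat.cast : ℕ → ℤ) (Nat.mod_add_div (dg χ) p)
        obtain ⟨k, hk⟩ := h3
        rw [Nat.cast_add, Nat.cast_mul] at h6
        rcases h.sδ χ with e | e <;> rw [e] at hk
        · have := Int.eq_zero_of_abs_lt_dvd (m := p) (x := (dg χ % p : ℕ) - 1)
            ⟨k - (dg χ / p : ℕ), by linear_combination hk + h6⟩ (abs_lt.2 ⟨by omega, by omega⟩)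
          exact Or.inl ⟨by omega, e⟩
        · have := Int.eq_zero_of_abs_lt_dvd (m := p) (x := (dg χ % p : ℕ) + 1 - p)
            ⟨-k - (dg χ / p : ℕ) - 1, by linear_combination h6 - hk⟩ (abs_lt.2 ⟨by omega, by omega⟩)
          exact Or.inr ⟨by omega, e⟩
      simp only [xs, List.mem_map, List.mem_filter, Bool.and_eq_true, decide_eq_true_eq,
        beq_iff_eq, Bool.or_eq_true]
      refine ⟨dg χ, ⟨mem_divs h0 hn χ.2.charDegree_dvd_card, ⟨hlt χ h1,
        Nat.mod_eq_zero_of_dvd (hidx ▸ h.dg_X_dvd hχ ox)⟩, h4.imp And.left And.left⟩, ?_⟩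
      rcases h4 with ⟨h4, h5⟩ | ⟨h4, h5⟩
      · rw [if_pos h4, h5, one_mul]
      · rw [if_neg (by omega), h5, neg_one_mul]
  rw [length_toList, card_erase_of_mem h.one_mem, h.cardX] at hcomb
  have hmem : ∀ χ, χ ∈ cs ↔ χ ≠ one G ∧ χ ∈ X := fun χ => by
    rw [hperm.mem_iff, mem_toList, mem_erase]
  have hsum : ∀ g : IrrCharacter G → ℤ, (cs.map g).sum = ∑ χ ∈ X.erase (one G), g χ :=
    fun g => (hperm.map g).sum_eq.trans (sum_map_toList _ _)
  set L := cs.map fun χ : IrrCharacter G => δ χ * dg χ with hL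
  have hy : 1 + L.sum = ε * dg θ := by
    rw [h.deg_eq hθ, ← add_sum_erase _ _ h.one_mem, h.δ_one, dg_one, hsum]; simp
  have hy' : (1 + L.sum).natAbs = dg θ := by rw [hy, natAbs_sign h.sε]
  have hcpl : Nat.card G = np * e * p → Cpl P ⊥ := fun h1 => by
    have h3 : Cen (P : Subgroup G) = P := by
      refine (eq_of_le_of_card_ge (le_centralizer_prime hP) ?_).symm
      rw [hcard, ← mul_assoc, ← hc] at h1
      rw [hP, Nat.eq_of_mul_eq_mul_left (Nat.mul_pos Nat.card_pos h.e_pos) h1]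
    exact ⟨hP, bot_le, fun v hv => by rw [mem_bot.1 hv]; exact h.not_dvd_one,
      fun c hc => ⟨c, h3 ▸ hc, 1, one_mem _, (mul_one c).symm⟩⟩
  refine ⟨e, np, L, ?_, ⟨θ, hy'.symm⟩, fun h1 ψ => ?_⟩
  swap
  · by_cases hX : ψ ∈ X
    · by_cases h3 : ψ = one G
      · exact Or.inr (Or.inl (h3 ▸ dg_one))
      · exact Or.inr (Or.inr (Or.inl ⟨_, List.mem_map.2 ⟨ψ, (hmem ψ).2 ⟨h3, hX⟩, rfl⟩,
          (natAbs_sign (h.sδ ψ) _).symm⟩))
    by_cases hY : ψ ∈ Y
    · exact Or.inr (Or.inr (Or.inr ((h.dg_eq hY hθ).trans hy'.symm)))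
    obtain ⟨m, hm⟩ := exists_sum_eq ψ.2.isCharacter (P : Subgroup G)
    have h3 := (hcpl h1).master_ker ψ.2.isClassFunction bot_le
    rw [br_sS h, sI, if_neg hX, if_neg hY, hm, hP, ← coe_dg, Int.cast_zero, mul_zero, eq_comm,
      sub_eq_zero] at h3
    exact Or.inl ⟨m, by exact_mod_cast h3.symm⟩
  simp only [surv, List.mem_flatMap, List.mem_filter, List.mem_range, List.mem_map,
    Bool.and_eq_true, decide_eq_true_eq, beq_iff_eq, bne_iff_ne]
  refine ⟨e, ⟨br_e_lt h, he1, Nat.mod_eq_zero_of_dvd he2⟩, np, ⟨mem_divs h0 hn ⟨_, hcard⟩,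
    ⟨⟨Eq.trans (card_sylow_modEq_one p G) (Nat.mod_eq_of_lt hp.out.one_lt),
      card_sylow_ne_one hna p h.dvd⟩, Nat.mod_eq_zero_of_dvd ⟨c, by rw [hcard]; ring⟩⟩,
    sylOK_of (two_mul_card_dvd_factorial_sylow hna p h.dvd)⟩, L, ⟨hcomb, ?_⟩, rfl⟩
  simp only [okS, Bool.and_eq_true, decide_eq_true_eq, beq_iff_eq, ht, hy']
  refine ⟨⟨⟨⟨hlt θ (h.ne_one hθ), Nat.mod_eq_zero_of_dvd (hidx ▸ h.dg_Y_dvd hθ ox)⟩, ?_⟩, ?_⟩, ?_⟩
  · obtain ⟨k, hk⟩ := br_dvd_Y h hθ
    refine Int.emod_eq_zero_of_dvd ⟨ε * k, ?_⟩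
    rcases h.sε with e | e <;> rw [hy, e] <;> rw [e] at hk
    · linear_combination hk
    · linear_combination -hk
  · have h3 := sum_sq_le h (s := 1) (fun ψ => dg ψ) (fun ψ => by simp [coe_dg]) (b := dg θ)
      fun η hη => by rw [h.dg_eq hη hθ]
    rw [show centralizer ({1} : Set G) = ⊤ from eq_top_iff.2 fun g _ =>
      mem_centralizer_singleton_iff.2 (by simp), Subgroup.card_top] at h3
    rw [← Int.natAbs_sq (1 + L.sum), hy', hL, List.map_map, hsum]
    refine le_of_eq_of_le ?_ h3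
    congr 2
    exact sum_congr rfl fun χ _ => by rcases h.sδ χ with e | e <;> simp [e]
  split_ifs with h1
  · have hC := hcpl h1
    simp only [Bool.and_eq_true, Bool.or_eq_true, beq_iff_eq]
    refine ⟨bt_of fun q f hq hf => ?_, or_iff_not_imp_left.2 fun h3 => ?_⟩
    · obtain ⟨B, hB, hd⟩ := bt_dvd hna hC h' hθ hq (he ▸ hf)
      have h3 : ∀ ψ ∈ B, ψ ≠ one G → ∀ s : ℤ, s = 1 ∨ s = -1 → ispw q (s * dg ψ) = false :=
        fun ψ h3 h4 s hs => Bool.eq_false_iff.2 fun h5 => by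
          obtain ⟨i, hi⟩ := exists_of_ispw h5
          exact hB ψ h3 h4 i ((natAbs_sign hs _).symm.trans hi)
      refine ⟨_, mem_subs _ q (fun χ => χ ∈ B) cs fun χ hχ h4 =>
        h3 χ (by simpa using h4) ((hmem χ).1 hχ).1 _ (h.sδ χ), (Y.filter (· ∈ B)).card,
        h.cardY ▸ card_filter_le _ _, or_iff_not_imp_left.2 fun h4 => ?_, ?_⟩
      · obtain ⟨η, hη⟩ := card_ne_zero.1 h4
        rw [mem_filter] at hη
        rw [hy, ← h.dg_eq hη.1 hθ]
        exact h3 η hη.2 (h.ne_one hη.1) _ h.sε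
      · rw [sum_filter_map, hsum, hy]
        simpa only [sum_filter, decide_eq_true_eq] using hd
    · obtain ⟨s, hs, s1, hi⟩ := exists_inverting hC h2.ne' (he ▸ Nat.even_iff.2 (by omega))
      choose a ha using fun ψ : IrrCharacter G => H31.exists_int_of_mul_self ψ.2.isCharacter hs
      have o2 : ¬ p ∣ orderOf s := fun e => by
        have := Nat.le_of_dvd two_pos (e.trans (orderOf_dvd_of_pow_eq_one (by rwa [pow_two])))
        omega
      have hb : ∀ η ∈ Y, a η = a θ := fun η hη => by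
        exact_mod_cast (ha η).symm.trans ((h.uni hη hθ o2).trans (ha θ))
      have a1 : a (one G) = 1 :=
        Int.cast_injective (α := ℂ) ((ha (one G)).symm.trans Int.cast_one.symm)
      have h4 : ∀ ψ : IrrCharacter G, ψ ≠ one G → ∀ s : ℤ, s = 1 ∨ s = -1 →
          4 ∣ s * a ψ - s * dg ψ ∧ (s * a ψ).natAbs < dg ψ := fun ψ h4 r hr => by
        obtain ⟨k, hk⟩ := H43.char_inv_mod_four hG ψ.2.isCharacter hs
        rw [ha, ← coe_dg] at hk
        have h5 : a ψ = dg ψ - 4 * k := by exact_mod_cast hk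
        have h6 := val_lt hna s1 h4 (ha ψ)
        rcases hr with rfl | rfl <;> constructor <;> omega
      have h5 : 1 + ∑ χ ∈ X.erase (one G), δ χ * a χ = ε * a θ := by
        have h5 := h.reg θ hθ s o2
        simp only [ha] at h5
        have h6 : ε * a θ = ∑ χ ∈ X, δ χ * a χ := by exact_mod_cast h5
        rw [h6, ← add_sum_erase _ _ h.one_mem, h.δ_one, a1, mul_one]
      simp only [k15, List.any_eq_true, Bool.and_eq_true, decide_eq_true_eq, beq_iff_eq]
      refine ⟨_, mem_trip _ (fun χ => δ χ * a χ) _ cs fun χ hχ => mem_vals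
        (h4 χ ((hmem χ).1 hχ).1 _ (h.sδ χ)).1 (by
          rw [natAbs_sign (h.sδ χ)]; exact (h4 χ ((hmem χ).1 hχ).1 _ (h.sδ χ)).2), ?_⟩
      simp only [hsum, h5, hy]
      refine ⟨⟨Int.emod_eq_zero_of_dvd (h4 θ (h.ne_one hθ) _ h.sε).1, ?_⟩,
        Nat.card (centralizer ({s} : Set G)), mem_divs h0 hn (card_subgroup_dvd_card _), ?_, ?_⟩
      · rw [natAbs_sign h.sε]; exact (h4 θ (h.ne_one hθ) _ h.sε).2
      · rw [k15_eq hC h2.ne' h' hs hi a ha hθ hb, ← add_sum_erase _ _ h.one_mem, h.δ_one, a1,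
          dg_one, div_sign h.sε, sum_congr rfl fun χ _ => div_sign (h.sδ χ) _ _ _]
        simp
      · refine le_of_eq_of_le ?_ (sum_sq_le h a ha hb)
        congr 2
        · exact sum_congr rfl fun χ _ => by rcases h.sδ χ with e | e <;> simp [e]
        · rcases h.sε with e | e <;> simp [e]
  · have h3 : Nat.card (Cen (P : Subgroup G)) ≠ p := fun e => h1 (by
      rw [hcard, ← hc, e, mul_assoc])
    simp only [Bool.and_eq_true, Bool.or_eq_true, List.all_eq_true, bne_iff_ne]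
    refine ⟨fun d hd => ?_, or_iff_not_imp_left.2 fun h4 => ?_⟩
    · obtain ⟨χ, hχ, rfl⟩ := List.mem_map.1 hd
      rw [hmem] at hχ
      exact k16_of hna h2 hP h3 hχ.1 (h.sδ χ) (h.valX χ hχ.2) (br_dvd_sub_one h hχ.2)
        (natAbs_sign (h.sδ χ) _)
    · have h5 : t = 1 := by
        rw [← not_not.1 h4] at hte
        exact Nat.eq_of_mul_eq_mul_right h.e_pos (by omega)
      obtain ⟨η, hη⟩ := card_eq_one.1 (h.cardY.trans h5)
      obtain rfl : θ = η := by simpa [hη] using hθ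
      refine k16_of hna h2 hP h3 (h.ne_one hθ) (δ := -ε) (by rcases h.sε with e | e <;> simp [e])
        (fun g hg => by simpa [hη] using h.valY g hg) ?_ hy'
      obtain ⟨k, hk⟩ := br_dvd_Y h hθ
      have h6 : (e : ℤ) + 1 = p := by exact_mod_cast not_not.1 h4
      rcases h.sε with e | e <;> rw [e] at hk ⊢
      · exact ⟨-k - 1, by linear_combination -hk - h6⟩
      · exact ⟨k - 1, by linear_combination hk - h6⟩

theorem elimP_eq (hn : Nat.card G < 6400) {p : ℕ} (hp : p.Prime) :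
    elimP (Nat.card G) p = false := by
  have := Fact.mk hp
  have hc := not_isCyclic_of_nonabelian hna
  refine Bool.eq_false_iff.2 fun h => ?_
  simp only [elimP, Bool.and_eq_true, Bool.or_eq_true, beq_iff_eq, decide_eq_true_eq, bne_iff_ne,
    List.any_eq_true, List.all_eq_true, Bool.not_eq_eq_eq_not, Bool.not_true] at h
  have hd := Nat.dvd_of_mod_eq_zero h.1
  rcases h.2 with (⟨⟨h1, h2⟩, h3⟩ | ⟨a, -, b, -, h1⟩) | h1
  · rcases Cfsg.Agent.S0999.result hc p hp hd h1 with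
      ⟨F, _, _, h4, h5, ⟨f⟩⟩ | ⟨m, F, _, _, h4, h5, h6, ⟨f⟩⟩
    · exact h2 (by rw [Nat.card_congr f.toEquiv,
        H88.two_mul_card_psl_two (h4 ▸ hp.odd_of_ne_two (by omega)), h4])
    · refine h3 ?_
      rw [Nat.card_congr f.toEquiv, H88.card_psl_two_of_even, h4, h5, Nat.add_sub_cancel]
      rw [h4]
      exact Nat.even_pow.2 ⟨even_two, by rintro rfl; omega⟩
  · exact not_solvable_of_simple hc (Cfsg.Agent.S0144.result 2 p a b Nat.prime_two hp h1)
  · obtain ⟨P⟩ : Nonempty (Sylow p G) := inferInstance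
    rcases h1 _ (mem_divs Nat.card_pos hn (P.card_dvd_index.trans (index_dvd_card _))) with
      (h2 | h2) | h2
    · exact card_sylow_ne_one hna p hd h2
    · exact h2 (Eq.trans (card_sylow_modEq_one p G) (Nat.mod_eq_of_lt hp.one_lt))
    · rw [sylOK_of (two_mul_card_dvd_factorial_sylow hna p hd)] at h2
      exact absurd h2 (by simp)

theorem elim_eq (hn : Nat.card G < 6400) : elim (Nat.card G) = false := by
  refine Bool.eq_false_iff.2 fun h => ?_
  simp only [elim, Bool.and_eq_true, Bool.or_eq_true, beq_iff_eq, bne_iff_ne,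
    List.any_eq_true, List.isEmpty_iff] at h
  rcases h with ⟨p, hp, h⟩ | ⟨p, hp, ⟨h1, h2⟩, h3⟩
  · rw [elimP_eq hna hn (prime_of_mem p hp)] at h
    exact absurd h (by simp)
  · have := Fact.mk (prime_of_mem p (sp_sub p hp))
    obtain ⟨P, hP⟩ := exists_sylow_card (G := G) (Nat.dvd_of_mod_eq_zero h1)
      fun e => h2 (Nat.mod_eq_zero_of_dvd (by rwa [← sq]))
    obtain ⟨e, np, L, h4, -⟩ := exists_surv hna hn P hP
    simp [h3] at h4

theorem ne_3360 : Nat.card G ≠ 3360 := fun hG => by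
  have := Fact.mk Nat.prime_five
  have := Fact.mk (show Nat.Prime 7 by norm_num)
  obtain ⟨P, hP⟩ := exists_sylow_card (G := G) (p := 5) (by rw [hG]; norm_num) (by rw [hG]; norm_num)
  obtain ⟨Q, hQ⟩ := exists_sylow_card (G := G) (p := 7) (by rw [hG]; norm_num) (by rw [hG]; norm_num)
  obtain ⟨e, np, L, h1, -, h2⟩ := exists_surv hna (by omega) P hP
  obtain ⟨e', np', L', h3, ⟨θ, h4⟩, -⟩ := exists_surv hna (by omega) Q hQ
  simp only [hG, surv_five, surv_seven, List.mem_singleton, Prod.mk.injEq] at h1 h3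
  obtain ⟨rfl, rfl, rfl⟩ := h1
  obtain ⟨rfl, rfl, rfl⟩ := h3
  have := h2 hG θ
  rw [h4] at this
  simp at this

end H44.Sv
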