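import Cfsg.Agent.H44.SC3

/-! The model `3³ : S₄` of the normaliser in `A₉` of three disjoint `3`-cycles, and its special
classes. -/

set_option autoImplicit false
set_option maxRecDepth 100000

namespace H44

def K24 : Type := Fin 24

namespace K24
instance : DecidableEq K24 := inferInstanceAs (DecidableEq (Fin 24))
instance : Fintype K24 := inferInstanceAs (Fintype (Fin 24))
def mk (i : ℕ) : K24 := Fin.ofNat 24 i
def val (k : K24) : ℕ := Fin.val k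
def mulT : ℕ := 0x443214c74254b635cf84653a56d71882031c855a92873d8d8c272ad2f610c01398a44a16a6b1ee9ca30b5e9508062290e652d097b9ac94e11bdab452d0973d8d08062214c7ad2f6846534a16a635cf10c0131c85a56d78c2724254b6b1ee00443290e6b5e9594e115a9287b9ac18820398a4bdab49ca3031c8510c018c272a56d74a16a635cf290e60044394e11b5e954254b6b1ee214c70806284653ad2f652d0973d8d398a4188209ca30bdab45a9287b9ac84653a56d7214c700443635cf4254b9ca30b5e95398a410c016b1ee4a16a94e11bdab4290e6080627b9ac52d098c272ad2f631c851882073d8d5a928635cf4254ba56d78465300443214c77b9ac52d09bdab494e1108062290e673d8d5a928ad2f68c2721882031c856b1ee4a16ab5e959ca3010c01398a4b5e9594e116b1ee4254b290e600443ad2f68465373d8d52d09214c708062a56d78c272635cf4a16a31c8510c01bdab49ca307b9ac5a928398a418820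
instance : Mul K24 := ⟨fun a b => mk (lk mulT 5 (24 * a.val + b.val))⟩
instance : One K24 := ⟨mk 0⟩
instance : Inv K24 := ⟨fun a => mk (lk 0xbd2b6735ec8ce505a5483988518820 5 a.val)⟩
instance : Group K24 := Group.ofLeftAxioms (by decide +kernel) (by decide +kernel) (by decide +kernel)
instance : SMul K24 J3 := ⟨fun k j => (sel (lk 0xa9586156a8616c06c0 3 k.val) j,
  sel (lk 0x86156a6c06c0a95861 3 k.val) j, sel (lk 0x6c06c0861a9586156a 3 k.val) j)⟩
instance : DistribMulAction K24 J3 where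
  one_smul := by decide +kernel
  mul_smul := by decide +kernel
  smul_zero _ := Prod.ext (sel_zero _) (Prod.ext (sel_zero _) (sel_zero _))
  smul_add _ _ _ := Prod.ext (sel_add _ _ _) (Prod.ext (sel_add _ _ _) (sel_add _ _ _))
theorem card_eq : Nat.card K24 = 24 := Nat.card_fin 24
def pt (k : K24) (p : Fin 9) : Fin 9 := Fin.ofNat 9 (lk
  0x120453786210543786210453876120543876543120786453210786453120876543210876210786453120876453120786543210876543786120453876210453876120543786210543453786120543876120543786210453876210876453120786543120786453210876543210 4 (9 * k.val + p.val))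
def psi : SD J3 K24 →* Equiv.Perm (Fin 9) :=
  SD.perm9 pt (by decide +kernel) (by decide +kernel) (by decide +kernel)
theorem psi_apply (m : SD J3 K24) (p : Fin 9) : psi m p = tr9 m.j (pt m.k p) := rfl
theorem psi_inj : Function.Injective psi := (injective_iff_map_eq_one _).2 fun m h =>
  (by decide +kernel : ∀ m : SD J3 K24, (∀ p, tr9 m.j (pt m.k p) = p) → m = 1) m fun p => by
    rw [← psi_apply, h]; rfl

def D6 : MD J3 K24 where
  n := 6
  a k x := Fin.ofNat 6 (lk 0x12345103245102354013254320145231045230154321054104523015423014532105432450123541023540132451032234501325401324510235410542301453201452310543210 4 (6 * k.val + x.val))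
  pr x := dot (lk 0x4130e49 5 x.val)
  d k x := (lk 0x933993399339939339393993939366393900933966399300669339663993003993009339936666396600930066390000666693666639000039000093666666666600000066000000 4 (6 * k.val + x.val) : ℕ)
  a_one := by decide +kernel
  a_mul := by decide +kernel
  pr_add _ := dot_add _
  pr_smul := by decide +kernel
  d_mul := by decide +kernel

def D12 : MD J3 K24 where
  n := 12
  a k x := Fin.ofNat 12 (lk 0x21346578a9b31206475a8b9203175649b8a13025746b9a81032a8b9465723018a9b647501239b8a57463210b9a875646475203189ab5746021398ba46571302ab8975643120ba98456789ab0213765498ba20315476ba9813026745ab8931208a9b01234567b9a810325476a8b9321067459b8a2301765498ba54760123ab894567103289ab67452301ba9876543210 4 (12 * k.val + x.val))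
  pr x := dot (lk 0x41ca4a4d6ac55ec 5 x.val)
  d k x := (lk 0x666666666666666666666666666666666666666666666666000066666666000066666666000066666666000066666666666666660000666666660000666666660000666666660000000000006666000000006666000000006666000000006666666600000000666600000000666600000000666600000000000000000000000000000000000000000000000000000000 4 (12 * k.val + x.val) : ℕ)
  a_one := by decide +kernel
  a_mul := by decide +kernel
  pr_add _ := dot_add _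
  pr_smul := by decide +kernel
  d_mul := by decide +kernel

def D8 : MD J3 K24 where
  n := 8
  a k x := Fin.ofNat 8 (lk 0x31264573021467521305764120375464675031264573021576412037546213065740231564720134756310274651320023156472013657413204756310274650123456710325476321067452301765454760123456710326745230176543210 4 (8 * k.val + x.val))
  pr x := dot (lk 0xd59d0cde2d 5 x.val)
  d k x := (lk 0x888844448888444488884444888844444444888844448888444488884444888888884444888844448888444488884444444488884444888844448888444488880000000000000000000000000000000000000000000000000000000000000000 4 (8 * k.val + x.val) : ℕ)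
  a_one := by decide +kernel
  a_mul := by decide +kernel
  pr_add _ := dot_add _
  pr_smul := by decide +kernel
  d_mul := by decide +kernel

def gen (i : ℕ) : SD J3 K24 :=
  match i with
  | 0 => ⟨(1, 0, 0), mk 0⟩ | 1 => ⟨(0, 0, 0), mk 12⟩ | 2 => ⟨(1, 1, 0), mk 3⟩ | _ => ⟨(0, 0, 1), mk 8⟩

def wK : List (List ℕ) := [[], [1, 2, 0, 1, 0, 1], [1, 1, 2, 0, 1, 0], [2, 0, 3, 0, 3], [1, 0, 0, 1, 3], [1, 2, 1, 0, 3], [3, 1, 2, 0], [1, 0, 0, 1, 2, 0, 3, 0], [3, 1, 1, 0, 1], [0, 0, 1, 3, 1], [1, 3, 1, 2, 0], [0, 0, 1, 2, 0, 3, 0, 1], [1], [0, 0, 3, 1, 1, 0, 3], [2, 0, 1, 0], [1, 2, 0, 3, 0, 3], [1, 1], [2, 0, 1, 0, 1], [1, 2, 0, 1, 0], [0, 0, 1, 1, 2, 0], [0, 0, 1, 3], [2, 1, 0, 3], [3, 1, 1, 0], [0, 0, 1, 2, 0, 3, 0]]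

def word (m : SD J3 K24) : List ℕ :=
  (List.replicate m.j.1.val [0]).flatten ++ (List.replicate m.j.2.1.val [3, 0, 3]).flatten ++
    (List.replicate m.j.2.2.val [1, 1, 0, 1]).flatten ++ wK.getD m.k.val []

theorem evw_word : ∀ m, evw gen (word m) = m := by decide +kernel

def ds : List (MD J3 K24 × ZMod 12) :=
  [(D6, 1), (D6, 3), (D8, 1), (D8, 2), (D6, 0), (D8, 0), (D6, 2), (D12, 0), (D12, 1)]

def ms : List (Mono (SD J3 K24) × Mono (SD J3 K24)) := ds.map fun p => p.1.pair p.2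

def cls (m : SD J3 K24) : Fin 14 := Fin.ofNat 14 (lk
  0x3bb3bb3bbb3bb3bb3bbb3bb3bb3aaa999222aaa999222aaa999222b3bb3bb3b3bb3bb3bbbb3bb3bb3999aaa222999aaa222999aaa222dc4c4d4dc4dcdc4c4dc4d4dcdc4d4ccd44cdcd44cdd4c4cdd4ccd4dc44dcc4dc4ddc44dc4dcc4ddc44cdcd4d4ccd4d4c4cdd4c4cdcd4cd44cdd4cd4ccd44cd4cdd4ccd4cd4d4c4cd4cdcd4d4cd4c4cdcd4c4ddc44dcdc44dcc4d4dcc4ddc44dcdc4c4ddc4c4d4dcc4d4dcdc4333bbbbbbbbb333bbbbbbbbb3339a29a29a29a29a29a29a29a29a2a92a92a92a92a92a92a92a92a92bbb333bbb333bbbbbbbbbbbb3333bbb3bbb33bbb3bbb33bbb3bbb3b3b3bbbb3b3b3bbbb3b3b3bbbb3999999999aaaaaaaaa222222222aaaaaaaaa999999999222222222881881881881881881881881881888888111888888111888888111888888888888888888111111111776776665776776665665665550 4 (27 * m.k.val + idx m.j))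

def sz (i : Fin 14) : ℕ := [1, 27, 54, 54, 72, 6, 12, 8, 54, 54, 54, 108, 72, 72].getD i.val 0

def tabL : List (List Z12) := [
  [(1, 0, 0, 0), (1, 0, 0, 0), (1, 0, 0, 0), (1, 0, 0, 0), (1, 0, 0, 0), (1, 0, 0, 0), (1, 0, 0, 0), (1, 0, 0, 0), (1, 0, 0, 0), (1, 0, 0, 0), (1, 0, 0, 0), (1, 0, 0, 0), (1, 0, 0, 0), (1, 0, 0, 0)],
  [(0, 0, 0, 0), (0, 0, 0, 0), (0, 0, 0, 0), (0, 0, 0, 0), (0, 0, 0, 0), (-3, 0, 0, 0), (-6, 0, 0, 0), (-9, 0, 0, 0), (3, 0, 0, 0), (0, -2, 0, 1), (0, 2, 0, -1), (0, 0, 0, 0), (0, 0, 0, 0), (0, 0, 0, 0)],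
  [(0, 0, 0, 0), (0, 0, 0, 0), (0, 0, 0, 0), (0, 0, 0, 0), (0, 0, 0, 0), (-3, 0, 0, 0), (-6, 0, 0, 0), (-9, 0, 0, 0), (3, 0, 0, 0), (0, 2, 0, -1), (0, -2, 0, 1), (0, 0, 0, 0), (0, 0, 0, 0), (0, 0, 0, 0)],
  [(0, 0, 0, 0), (0, 0, 0, 0), (0, 0, 0, 0), (0, 0, 0, 0), (0, 0, 0, 0), (-12, 0, 0, 0), (-6, 0, 0, 0), (-9, 0, 0, 0), (0, 0, 0, 0), (0, 0, 0, 0), (0, 0, 0, 0), (0, 0, 0, 0), (0, 0, 0, 0), (3, 0, 0, 0)],
  [(0, 0, 0, 0), (0, 0, 0, 0), (0, 0, 0, 0), (0, 0, 0, 0), (0, 0, 0, 0), (-12, 0, 0, 0), (-6, 0, 0, 0), (-9, 0, 0, 0), (0, 0, 0, 0), (0, 0, 0, 0), (0, 0, 0, 0), (0, 0, 0, 0), (3, 0, 0, 0), (0, 0, 0, 0)],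
  [(0, 0, 0, 0), (0, 0, 0, 0), (0, 0, 0, 0), (0, 0, 0, 0), (0, 0, 0, 0), (-3, 0, 0, 0), (-6, 0, 0, 0), (-9, 0, 0, 0), (-3, 0, 0, 0), (-3, 0, 0, 0), (-3, 0, 0, 0), (0, 0, 0, 0), (0, 0, 0, 0), (0, 0, 0, 0)],
  [(0, 0, 0, 0), (0, 0, 0, 0), (0, 0, 0, 0), (0, 0, 0, 0), (0, 0, 0, 0), (-12, 0, 0, 0), (-6, 0, 0, 0), (-9, 0, 0, 0), (0, 0, 0, 0), (0, 0, 0, 0), (0, 0, 0, 0), (0, 0, 0, 0), (-3, 0, 0, 0), (-3, 0, 0, 0)],
  [(0, 0, 0, 0), (0, 0, 0, 0), (0, 0, 0, 0), (0, 0, 0, 0), (0, 0, 0, 0), (-3, 0, 0, 0), (-6, 0, 0, 0), (-9, 0, 0, 0), (-3, 0, 0, 0), (3, 0, 0, 0), (3, 0, 0, 0), (0, 0, 0, 0), (0, 0, 0, 0), (0, 0, 0, 0)],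
  [(0, 0, 0, 0), (0, 0, 0, 0), (0, 0, 0, 0), (0, 0, 0, 0), (0, 0, 0, 0), (-12, 0, 0, 0), (-15, 0, 0, 0), (-9, 0, 0, 0), (0, 0, 0, 0), (0, 0, 0, 0), (0, 0, 0, 0), (-3, 0, 0, 0), (0, 0, 0, 0), (0, 0, 0, 0)],
  [(0, 0, 0, 0), (0, 0, 0, 0), (0, 0, 0, 0), (0, 0, 0, 0), (0, 0, 0, 0), (-12, 0, 0, 0), (-15, 0, 0, 0), (-9, 0, 0, 0), (0, 0, 0, 0), (0, 0, 0, 0), (0, 0, 0, 0), (3, 0, 0, 0), (0, 0, 0, 0), (0, 0, 0, 0)]]

def tab (a : ℕ) (i : Fin 14) : Z12 := (tabL.getD a []).getD i.val 0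

def gram (a b : ℕ) : ℤ := (([[1, 0, 0, 0, 0, -1, -1, 0, -1, 0], [0, 3, 2, 2, 2, 1, 2, 1, 3, 3], [0, 2, 3, 2, 2, 1, 2, 1, 3, 3], [0, 2, 2, 4, 3, 2, 2, 2, 4, 4], [0, 2, 2, 3, 4, 2, 2, 2, 4, 4], [-1, 1, 1, 2, 2, 4, 2, 1, 3, 3], [-1, 2, 2, 2, 2, 2, 5, 2, 4, 4], [0, 1, 1, 2, 2, 1, 2, 4, 3, 3], [-1, 3, 3, 4, 4, 3, 4, 3, 8, 5], [0, 3, 3, 4, 4, 3, 4, 3, 5, 8]] : List (List ℤ)).getD a []).getD b 0

def rows : List (List ℤ × ℕ) := [([], 1), ([0], 3), ([0, 2], 3), ([0, 2, 2], 4), ([0, 2, 2, 3], 4), ([-1, 1, 1, 2, 2], 4), ([-1, 2, 2, 2, 2, 2], 5), ([0, 1, 1, 2, 2, 1, 2], 4), ([-1, 3, 3, 4, 4, 3, 4, 3], 8), ([0, 3, 3, 4, 4, 3, 4, 3, 5], 8)]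

theorem card_cls : ∀ i, (Finset.univ.filter fun m => cls m = i).card = sz i := by decide +kernel

theorem mth_eq : ∀ k, ∀ a < 10, ∀ j, mth ds a k j = tab a (cls ⟨j, k⟩) := by decide +kernel

theorem mval_eq (a : ℕ) (ha : a < 10) (m : SD J3 K24) : mval ms a m = tab a (cls m) :=
  (mval_pair ds a m).trans (mth_eq m.k a ha m.j)

theorem tab_gram : ∀ a < 10, ∀ b ≤ a,
    ∑ i, sz i • zmul (tab a i) (zcj (tab b i)) = zi ((∑ i, sz i : ℕ) * gram a b) := by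
  decide +kernel

theorem rows_gram : Emb.Rows gram 0 rows := by decide +kernel

theorem tab_supp : ∀ a < 10, ∀ i : Fin 14, a = 0 ∨ 5 ≤ i.val ∨ tab a i = 0 := by decide +kernel

theorem cls_pow : ∀ m, 5 ≤ (cls m).val → ∃ i < 5, (m ^ i).k = 1 ∧ m ^ i ≠ 1 := by decide +kernel

end K24

end H44
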