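import Cfsg.Agent.H51.A12Spec

/-! Tower A12 (row S3101): the jobs LIFT and DOWN, passing between `C(t)` and `C(t) / O(C(t))`. -/

set_option autoImplicit false

namespace H44.A12

open Cfsg Subgroup H14 H98 H1.Gold H31.S2 H20.X16.BV Function Equiv H51.X12
open H20.X16 (BV pw)
open H20.AF (P12 t0)
open H20.AR (Cen)
open scoped commutatorElement

universe u

section General

variable {H : Type*} [Group H]

theorem eq_one_of_odd {K P : Subgroup H} (hK : Odd (Nat.card K)) (hP : IsPGroup 2 P) {x : H}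
    (h1 : x ∈ K) (h2 : x ∈ P) : x = 1 := by
  obtain ⟨k, hk⟩ := isPGroup_iff_forall.1 hP x h2
  have a : orderOf x ∣ 2 ^ k := orderOf_dvd_of_pow_eq_one hk
  have b : orderOf x ∣ Nat.card K := K.orderOf_dvd_natCard h1
  exact orderOf_eq_one_iff.1 (Nat.eq_one_of_dvd_coprimes
    (Nat.Coprime.pow_left k (Nat.coprime_two_left.2 hK)) a b)

theorem isSyl_sup_odd {K Q : Subgroup H} [K.Normal] (hK : Odd (Nat.card K)) (hQ : IsPGroup 2 Q) :
    IsSyl 2 Q (Q ⊔ K) := by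
  refine ⟨le_sup_left, hQ, fun R hR h1 h2 => le_antisymm (fun r hr => ?_) h1⟩
  have := h2 hr
  rw [← SetLike.mem_coe, mul_normal] at this
  obtain ⟨q, hq, k, hk, rfl⟩ := this
  have : k = 1 := eq_one_of_odd hK hR hk ((mul_mem_cancel_left (h1 hq)).1 hr)
  simpa [this] using hq

theorem lift_cj [Finite H] {X : Type*} [Group X] (π : H →* X) (hk : Odd (Nat.card π.ker))
    {P Q : Subgroup H} (hP : IsPGroup 2 P) (hQ : IsPGroup 2 Q) (g : H)
    (h : cj (π g) (P.map π) ≤ Q.map π) : ∃ g', π g' = π g ∧ cj g' P ≤ Q := by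
  have : Fact (Nat.Prime 2) := ⟨Nat.prime_two⟩
  rw [← map_cj, Subgroup.map_le_map_iff] at h
  obtain ⟨k, hk', l⟩ := (isSyl_sup_odd hk hQ).exists_cj_le (isPGroup_cj g hP) h
  rw [← SetLike.mem_coe, mul_normal] at hk'
  obtain ⟨q, hq, o, ho, rfl⟩ := hk'
  refine ⟨o * g, by rw [map_mul, show π o = 1 from ho, one_mul], ?_⟩
  rw [← cj_cj, cj_le_iff, cj_eq_self_of_mem (inv_mem hq), cj_cj] at l
  exact l

theorem odd_comap [Finite H] {X : Type*} [Group X] (π : H →* X) (hk : Odd (Nat.card π.ker))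
    {Y : Subgroup X} (hY : Odd (Nat.card Y)) : Odd (Nat.card (Y.comap π)) := by
  have : Fact (Nat.Prime 2) := ⟨Nat.prime_two⟩
  rw [← Nat.not_even_iff_odd, even_iff_two_dvd]
  intro hd
  obtain ⟨⟨y, hy⟩, o⟩ := exists_prime_orderOf_dvd_card' (G := Y.comap π) 2 hd
  rw [← orderOf_coe] at o
  have p := isPGroup_zpowers_of_order o
  have e : π y = 1 := eq_one_of_odd hY (p.map π) hy (mem_map_of_mem π (mem_zpowers y))
  have := eq_one_of_odd hk p e (mem_zpowers y)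
  simp [this] at o

end General

variable {G : Type u} [Group G] {φ : M →* G} {X : Type u} [Group X]
  {π : cen1 (φ tM) →* X} {χ : M →* X}

/-- The chart with values in `C(t)`. -/
def res (φ : M →* G) : M →* cen1 (φ tM) := φ.codRestrict _ fun m => range_le_cen_t φ ⟨m, rfl⟩

theorem pi_res (q : Quo φ π χ) (m : M) : π (res φ m) = χ m := q.val m _

theorem map_res (q : Quo φ π χ) (U : Subgroup M) : (U.map (res φ)).map π = U.map χ := by
  rw [map_map]
  congr 1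
  exact MonoidHom.ext (pi_res q)

theorem pg_res (c : Sy φ) (U : Subgroup M) : IsPGroup 2 (U.map (res φ)) :=
  isPGroup_of_map_injective (subtype_injective _) (by rw [map_map]; exact c.pg U)

variable [Finite G]

theorem odd_ker (q : Quo φ π χ) : Odd (Nat.card π.ker) := by
  have : π.ker = (oc (φ tM)).subgroupOf _ := Subgroup.ext fun g => q.ker g
  rw [this, Nat.card_congr (subgroupOfEquivOfLe (oc_le _)).toEquiv]
  exact odd_opp _

theorem chi_inj (c : Sy φ) (q : Quo φ π χ) : Injective χ := (injective_iff_map_eq_one χ).2 fun m hm =>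
  c.inj (by
    rw [map_one]
    exact eq_one_of_odd (odd_opp _) c.syl.isPGroup ((q.ker (res φ m)).1 ((pi_res q m).trans hm)) ⟨m, rfl⟩)

omit [Finite G] in
theorem cj_down (q : Quo φ π χ) {g : cen1 (φ tM)} {a b : M} (h : Cj φ g a b) : Cj χ (π g) a b := by
  rw [Cj, ← pi_res q, ← pi_res q, ← map_inv, ← map_mul, ← map_mul]
  congr 1
  exact Subtype.ext h

/-- Every element of `X` has a lift with the same action on the chart. -/
theorem lift (c : Sy φ) (q : Quo φ π χ) (y : X) :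
    ∃ g : cen1 (φ tM), π g = y ∧ ∀ a b, Cj χ y a b → Cj φ g a b := by
  obtain ⟨g0, rfl⟩ := q.surj y
  let U : Subgroup M := (cj (π g0)⁻¹ ((⊤ : Subgroup M).map χ)).comap χ
  obtain ⟨g, e, l⟩ := lift_cj π (odd_ker q) (pg_res c U) (pg_res c ⊤) g0 (by
    rw [map_res q, map_res q, cj_le_iff]
    exact map_comap_le _ _)
  refine ⟨g, e, fun a b h => ?_⟩
  have ha : a ∈ U := by
    show χ a ∈ cj _ _
    rw [mem_cj, inv_inv, show _ = χ b from h]
    exact ⟨b, trivial, rfl⟩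
  obtain ⟨b', -, hb⟩ := l (conj_mem_cj (mem_map_of_mem _ ha))
  have h1 : Cj φ g a b' := (congrArg Subtype.val hb).symm
  have h2 := cj_down q h1
  rw [e] at h2
  rwa [chi_inj c q ((Eq.symm h).trans h2)]

theorem lift_nor (c : Sy φ) (q : Quo φ π χ) {U : Subgroup M} {y : X} (hy : y ∈ nor (U.map χ)) :
    ∃ g : cen1 (φ tM), π g = y ∧ (g : G) ∈ nor (U.map φ) := by
  obtain ⟨g, e, h⟩ := lift c q y
  refine ⟨g, e, mem_normalizer_of_cj_le (le_of_cj fun x hx => ?_)⟩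
  obtain ⟨z, hz, r⟩ := cj_of_le (cj_eq_self hy).le hx
  exact ⟨z, hz, h _ _ r⟩

omit [Finite G] in
theorem cj_iff_cen {g : G} {a : M} : Cj φ g a a ↔ g ∈ cen1 (φ a) := by
  rw [Cj, mem_cen1, mul_inv_eq_iff_eq_mul]

theorem down_opp [Finite X] (c : Sy φ) (q : Quo φ π χ) (x : M) {y : cen1 (φ tM)}
    (hy : (y : G) ∈ opp 2 (cen1 (φ tM) ⊓ cen1 (φ x))) : π y ∈ oc (χ x) := by
  let Y := opp 2 (cen1 (φ tM) ⊓ cen1 (φ x))
  have le : Y ≤ cen1 (φ tM) ⊓ cen1 (φ x) := opp_le _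
  refine le_opp_of_odd (Y := (Y.subgroupOf (cen1 (φ tM))).map π) ?_ ?_ ?_ (mem_map_of_mem π hy)
  · rintro _ ⟨z, hz, rfl⟩
    exact cj_iff_cen.1 (cj_down q (cj_iff_cen.2 (le hz).2))
  · intro w hw
    obtain ⟨g, rfl, h⟩ := lift c q w
    have hg : (g : G) ∈ nor Y := self_le_normalizer_opp _ ⟨g.2, cj_iff_cen.1 (h _ _ (cj_iff_cen.2 hw))⟩
    refine mem_normalizer_of_cj_le ?_
    rw [← map_cj]
    refine map_mono ?_
    rintro _ ⟨z, hz, rfl⟩
    exact (cj_eq_self hg).le (conj_mem_cj hz)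
  · refine Odd.of_dvd_nat ?_ (card_map_dvd _ π)
    rw [Nat.card_congr (subgroupOfEquivOfLe (le.trans inf_le_left)).toEquiv]
    exact odd_opp _

theorem jobLIFT : JobLIFT.{u} := by
  intro G _ _ φ X _ _ π χ c q k
  refine ⟨fun y hy => ?_, fun j i l j0 i0 ji lj li y hy => ?_, fun H h1 h2 h3 g hg => ?_⟩
  · have := down_opp c q (tau 1) (y := ⟨y, (opp_le _ hy).1⟩) hy
    rw [k.k1, mem_bot] at this
    exact (q.ker _).1 this
  · have := k.k4 j i l j0 i0 ji lj li (down_opp c q (tau j * tau i) (y := ⟨y, (opp_le _ hy).1⟩) hy)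
    refine (q.ker ⁅(⟨y, (opp_le _ hy).1⟩ : cen1 (φ tM)), res φ (tau l)⁆).1 ?_
    rw [map_commutatorElement, pi_res q, commutatorElement_eq_one_iff_mul_comm]
    exact mem_cen1.1 this
  · have := k.k5 ((H.subgroupOf (cen1 (φ tM))).map π) (fun y hy => by
      obtain ⟨g, rfl, h⟩ := lift_nor c q hy
      exact mem_map_of_mem π (h2 ⟨g.2, h⟩)) fun j i j0 i0 ji y hy => by
      obtain ⟨g, rfl, h⟩ := lift c q y
      exact mem_map_of_mem π (h3 j i j0 i0 ji ⟨⟨g.2, cj_iff_cen.1 (h _ _ (cj_iff_cen.2 hy.1))⟩,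
        cj_iff_cen.1 (h _ _ (cj_iff_cen.2 hy.2))⟩)
    obtain ⟨h, hh, e⟩ := this.ge (mem_top (π ⟨g, hg⟩))
    have : h⁻¹ * ⟨g, hg⟩ ∈ π.ker := by rw [MonoidHom.mem_ker, map_mul, map_inv, e, inv_mul_cancel]
    exact (mul_mem_cancel_left (inv_mem (show (h : G) ∈ H from hh))).1 (h1 ((q.ker _).1 this))

theorem nor_E {Γ : Type*} [Group Γ] [Finite Γ] (φ : M →* Γ) (m : M) : φ m ∈ nor (E.map φ) :=
  mem_normalizer_of_cj_le (by
    rintro _ ⟨_, ⟨x, hx, rfl⟩, rfl⟩
    obtain ⟨a, rfl⟩ := range_iE.ge hx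
    exact ⟨_, range_iE.le ⟨acE m a, rfl⟩, by rw [← conj_iE]; simp⟩)

theorem xs [Finite X] (ea : EA) (c : Fr φ) (q : Quo φ π χ) : XS χ := by
  have : Fact (Nat.Prime 2) := ⟨Nat.prime_two⟩
  have s : Sy χ := ⟨chi_inj c.toSy q, by
    have h1 := ((c.syl.of_le (range_le_cen_t φ) le_top).subgroupOf_top).map π
    have e : φ.range.subgroupOf (cen1 (φ tM)) = (⊤ : Subgroup M).map (res φ) := by
      ext g
      exact ⟨fun ⟨m, e⟩ => ⟨m, trivial, Subtype.ext e⟩, fun ⟨m, _, e⟩ => ⟨m, congrArg Subtype.val e⟩⟩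
    rwa [e, map_res q, ← MonoidHom.range_eq_map, ← MonoidHom.range_eq_map,
      MonoidHom.range_eq_top.2 q.surj] at h1⟩
  refine ⟨s, ea.wcA s, fun g => ?_, eq_bot_iff.2 fun y hy => ?_, fun i x h => ?_⟩
  · obtain ⟨g, rfl⟩ := q.surj g
    exact mem_cen1.1 (cj_iff_cen.1 (cj_down q (cj_iff_cen.2 g.2)))
  · obtain ⟨g, rfl⟩ := q.surj y
    have o : Odd (Nat.card (oddCore X)) := by
      have := odd_opp (⊤ : Subgroup X)
      rwa [opp_top] at this
    refine mem_bot.2 ((q.ker g).2 (le_opp_of_odd (Y := ((oddCore X).comap π).map (cen1 (φ tM)).subtype)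
      (map_subtype_le _) ?_ ?_ (mem_map_of_mem _ hy)))
    · intro w hw
      refine mem_normalizer_of_cj_le ?_
      rintro _ ⟨_, ⟨z, hz, rfl⟩, rfl⟩
      exact ⟨_, (inferInstance : ((oddCore X).comap π).Normal).conj_mem z hz ⟨w, hw⟩, rfl⟩
    · rw [card_map_of_injective (subtype_injective _)]
      exact odd_comap π (odd_ker q) o
  · obtain ⟨y, hy⟩ := Fu.ex h
    obtain ⟨g, -, l⟩ := lift c.toSy q y
    exact (c.cls x).1 (((c.cls _).2 ⟨i, rfl⟩).trans (l _ _ hy).fu)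

theorem jobDOWN : JobDOWN.{u} := by
  intro ea wm G _ _ φ N p X _ _ π χ ps c y q
  refine ⟨xs ea c q, ?_⟩
  obtain rfl := y.eq
  have NH : nor (E.map φ) ≤ cen1 (φ tM) := fun n hn => by
    obtain ⟨e, -, r⟩ := cj_of_le (cj_eq_self hn).le (show tM ∈ E by decide +kernel)
    have h1 : p ⟨n, hn⟩ * psi tM * (p ⟨n, hn⟩)⁻¹ = psi e := by
      rw [← y.val tM (nor_E φ _), ← y.val e (nor_E φ _), ← map_inv, ← map_mul, ← map_mul]
      congr 1
      exact Subtype.ext r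
    have h2 : p ⟨n, hn⟩ ∈ Cen t0 := y.range.le ⟨_, rfl⟩
    rw [ps.t, mem_centralizer_singleton_iff.1 h2.2, mul_inv_cancel_right, ← ps.t] at h1
    exact cj_iff_cen.1 (ps.inj h1 ▸ r)
  let π' : nor (E.map φ) →* nor (E.map χ) := (π.comp (inclusion NH)).codRestrict _ fun n =>
    mem_normalizer_of_cj_le (le_of_cj fun x hx => by
      obtain ⟨z, hz, r⟩ := cj_of_le (cj_eq_self n.2).le hx
      exact ⟨z, hz, cj_down q (g := inclusion NH n) r⟩)
  have sj : Surjective π' := fun w => by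
    obtain ⟨g, e, h⟩ := lift_nor c.toSy q w.2
    exact ⟨⟨g, h⟩, Subtype.ext e⟩
  have kr : π'.ker ≤ p.ker := fun n hn => by
    have h0 : (n : G) ∈ oc (φ tM) := (q.ker (inclusion NH n)).1 (congrArg Subtype.val hn)
    have := wm.odd (((oc (φ tM)).subgroupOf (nor (E.map φ))).map p) (by
      refine Odd.of_dvd_nat ?_ (card_map_dvd _ p)
      rw [← inf_subgroupOf_right, Nat.card_congr (subgroupOfEquivOfLe inf_le_right).toEquiv]
      exact odd_of_le inf_le_left (odd_opp _)) (by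
      rintro _ ⟨a, -, rfl⟩
      refine mem_normalizer_of_cj_le ?_
      rw [← y.val a (nor_E φ _), ← map_cj]
      refine map_mono ?_
      rintro _ ⟨z, hz, rfl⟩
      exact (cj_eq_self (cen1_le_nor_oc _ (range_le_cen_t φ ⟨a, rfl⟩))).le (conj_mem_cj hz))
    exact mem_bot.1 (this.le (mem_map_of_mem p h0))
  let p' := π'.liftOfSurjective sj ⟨p, kr⟩
  have pp : ∀ n, p' (π' n) = p n := fun n => π'.liftOfRightInverse_comp_apply _ _ ⟨p, kr⟩ n
  refine ⟨_, p', rfl, ?_, ?_, fun m h => ?_⟩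
  · rw [← y.range]
    ext w
    exact ⟨fun ⟨n, e⟩ => by obtain ⟨n, rfl⟩ := sj n; exact ⟨n, (pp n).symm.trans e⟩,
      fun ⟨n, e⟩ => ⟨π' n, (pp n).trans e⟩⟩
  · refine odd_of_le (Y := p.ker.map π') (fun n hn => ?_) (y.ker.of_dvd_nat (card_map_dvd _ π'))
    obtain ⟨n, rfl⟩ := sj n
    exact mem_map_of_mem _ ((pp n).symm.trans hn)
  · rw [← y.val m (nor_E φ _), ← pp]
    congr 1
    exact Subtype.ext (q.val m _).symm

end H44.A12
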