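import Cfsg.Agent.H44.A12a

/-! Tower A12 (row S3101): the job WC, weak closure of `E`. -/

set_option autoImplicit false

namespace H44.A12

open Cfsg Subgroup H14 H98 H1.Gold H31.S2 H20.X16.BV Function Equiv H51.X12
open H20.X16 (BV pw)
open scoped commutatorElement

universe u

/-- the element of `A` acting on `E` as a transvection with centre `y` -/
def tv (y : BV 5) : M := iA (el (cond (Nat.beq y.1 1) 1 (cond (Nat.beq y.1 2) 4 16)))

theorem tv_spec : ∀ (m : M) (y : BV 5), (∀ x, acE m x = x ∨ acE m x = x * y) →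
    (∀ x, acE m x = x) ∨ ∀ x, acE m x = acE (tv y) x := by decide +kernel

theorem card_EA : Nat.card (E ⊓ A : Subgroup M) = 8 :=
  (card_M fun x => x ∈ E ∧ x ∈ A).trans (by decide +kernel)

theorem card_BA : Nat.card (Bc ⊓ A : Subgroup M) = 16 ∧ Nat.card (Bk ⊓ A : Subgroup M) = 16 ∧
    Nat.card (Bs ⊓ A : Subgroup M) = 16 :=
  ⟨(card_M fun x => x ∈ Bc ∧ x ∈ A).trans (by decide +kernel),
    (card_M fun x => x ∈ Bk ∧ x ∈ A).trans (by decide +kernel),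
    (card_M fun x => x ∈ Bs ∧ x ∈ A).trans (by decide +kernel)⟩

theorem nor_B : (∀ x ∈ Bc, ∀ a : BV 6, iA a * x * (iA a)⁻¹ ∈ Bc) ∧
    (∀ x ∈ Bk, ∀ a : BV 6, iA a * x * (iA a)⁻¹ ∈ Bk) ∧
    (∀ x ∈ Bs, ∀ a : BV 6, iA a * x * (iA a)⁻¹ ∈ Bs) := by
  refine ⟨?_, ?_, ?_⟩ <;> decide +kernel

theorem trv : ∀ x : BV 5, (iA (el 3) * iF x * (iA (el 3))⁻¹ = iF x ∨
      iA (el 3) * iF x * (iA (el 3))⁻¹ = iF x * iF (el 1)) ∧
    (iA (el 5) * iF x * (iA (el 5))⁻¹ = iF x ∨ iA (el 5) * iF x * (iA (el 5))⁻¹ = iF x * iF (el 1)) := by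
  decide +kernel

theorem trv' : iA (el 3) * iF (el 16) * (iA (el 3))⁻¹ ≠ iF (el 16) ∧
    iA (el 5) * iF (el 8) * (iA (el 5))⁻¹ ≠ iF (el 8) ∧
    iA (el 3) * iF (el 8) * (iA (el 3))⁻¹ ≠ iA (el 5) * iF (el 8) * (iA (el 5))⁻¹ := by
  decide +kernel

variable {G : Type u} [Group G] [Finite G] {φ : M →* G}

theorem range_le_norE (φ : M →* G) : φ.range ≤ nor (E.map φ) := by
  rintro _ ⟨m, rfl⟩
  exact nor_E φ m

theorem map_nor {U V : Subgroup M} (h : ∀ x ∈ V, ∀ a ∈ U, a * x * a⁻¹ ∈ V) :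
    U.map φ ≤ nor (V.map φ) := by
  rintro _ ⟨a, ha, rfl⟩
  exact mem_normalizer_of_cj_le (le_of_cj fun x hx => ⟨_, h x hx a ha, cj_self φ a x⟩)

theorem notA (c : Sy φ) {g : G} : ¬ cj g (E.map φ) ≤ A.map φ := fun h => by
  have : Fact (Nat.Prime 2) := ⟨Nat.prime_two⟩
  have s := c.syl.inf_of_le_normalizer (N := cen (E.map φ)) le_top
    (le_normalizer_centralizer (range_le_norE φ))
  have l : cj g⁻¹ (A.map φ) ≤ cen (E.map φ) := by
    rw [cj_le_iff, inv_inv, cj_centralizer]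
    exact elem_le_cen (elem_A φ) h
  have c1 := s.card_le (isPGroup_cj _ (c.pg A)) l
  have c2 : φ.range ⊓ cen (E.map φ) ≤ E.map φ := by
    rintro _ ⟨⟨m, rfl⟩, hm⟩
    refine mem_map_of_mem φ (cen_E m fun i _ => c.inj ?_)
    rw [map_mul, map_mul]
    exact (hm _ (mem_map_of_mem φ (range_iE.le ⟨_, rfl⟩))).symm
  have c3 := card_le_of_le c2
  rw [card_cj, c.card_map, card_A] at c1
  rw [c.card_map, card_E] at c3
  omega

theorem notB (ea : EA) (c : Sy φ) {B : Subgroup M} (h1 : Nat.card (B ⊓ A : Subgroup M) = 16)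
    (h2 : ∀ x ∈ B, ∀ a : BV 6, iA a * x * (iA a)⁻¹ ∈ B) {g : G} : cj g (E.map φ) ≠ B.map φ := fun h => by
  have : Fact (Nat.Prime 2) := ⟨Nat.prime_two⟩
  obtain ⟨k, hk, e⟩ := (ea.wcA c).exists_cj_eq (K := nor (B.map φ)) (map_nor fun x hx a ha => by
    obtain ⟨a, rfl⟩ := range_iA.ge ha
    exact h2 x hx a) le_top (mem_top g) (by
    rw [← h, nor, ← cj_normalizer]
    exact cj_mono g ((map_le_range φ A).trans (range_le_norE φ)))
  have e2 : cj g ((E ⊓ A).map φ) = cj k ((B ⊓ A).map φ) := by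
    rw [map_inf _ _ _ c.inj, map_inf _ _ _ c.inj, cj_inf, cj_inf, h, e, cj_eq_self hk]
  have := congrArg (fun U : Subgroup G => Nat.card U) e2
  simp only [card_cj, c.card_map, card_EA, h1] at this
  omega

theorem notF (c : Sy φ) {g : G} : cj g (E.map φ) ≠ E'.map φ := fun h => by
  have : Fact (Nat.Prime 2) := ⟨Nat.prime_two⟩
  obtain ⟨n, hn, l⟩ := (c.syl.of_le (range_le_norE φ) le_top).exists_cj_le
    (isPGroup_cj g⁻¹ (c.pg (normalizer (E' : Set M)))) (by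
      rw [cj_le_iff, inv_inv, cj_normalizer, h]
      exact le_normalizer_map φ)
  rw [cj_cj, MonoidHom.range_eq_map] at l
  have hk : cj (n * g⁻¹) (E'.map φ) = E.map φ := by rw [← cj_cj, ← h, cj_inv_cj, cj_eq_self hn]
  generalize n * g⁻¹ = k at l hk
  have f1 : ∀ x, ∃ y, Cj φ k (iF x) (iE y) := fun x => by
    obtain ⟨_, hy, r⟩ := cj_of_le hk.le (range_iF.le ⟨x, rfl⟩)
    obtain ⟨y, rfl⟩ := range_iE.ge hy
    exact ⟨y, r⟩
  have f2 : ∀ y, ∃ x, Cj φ k (iF x) (iE y) := fun y => by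
    obtain ⟨_, hx, r⟩ := cj_of_le (g := k⁻¹) (U := E) (V := E') (by rw [← hk, cj_inv_cj])
      (range_iE.le ⟨y, rfl⟩)
    obtain ⟨x, rfl⟩ := range_iF.ge hx
    exact ⟨x, by simpa using r.symm⟩
  obtain ⟨y, hy⟩ := f1 (el 1)
  have key : ∀ b : M, (∀ x, b * iF x * b⁻¹ = iF x ∨ b * iF x * b⁻¹ = iF x * iF (el 1)) →
      ∀ x0, b * iF x0 * b⁻¹ ≠ iF x0 → ∀ x z, Cj φ k (iF x) (iE z) →
        Cj φ k (b * iF x * b⁻¹) (iE (acE (tv y) z)) := fun b hb x0 h0 => by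
    obtain ⟨m, -, hm⟩ := cj_of_le l (x := b) (mem_normalizer_of_cj_le (by
      rintro _ ⟨x, hx, rfl⟩
      obtain ⟨x, rfl⟩ := range_iF.ge hx
      rcases hb x with e | e
      · exact range_iF.le ⟨x, e.symm⟩
      · exact range_iF.le ⟨x * el 1, by rw [map_mul]; exact e.symm⟩))
    have a : ∀ x z, Cj φ k (iF x) (iE z) → Cj φ k (b * iF x * b⁻¹) (iE (acE m z)) := fun x z r =>
      conj_iE m z ▸ (hm.mul r).mul hm.inv
    rcases tv_spec m y (fun z => by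
      obtain ⟨x, r⟩ := f2 z
      rcases hb x with e | e
      · exact Or.inl (iE_inj (c.uniq (e ▸ a x z r) r))
      · exact Or.inr (iE_inj (c.uniq (e ▸ a x z r) (by rw [map_mul]; exact r.mul hy)))) with e | e
    · obtain ⟨z, r⟩ := f1 x0
      exact absurd (c.uniq' (e z ▸ a x0 z r) r) h0
    · exact fun x z r => e z ▸ a x z r
  obtain ⟨z, r⟩ := f1 (el 8)
  exact trv'.2.2 (c.uniq' (key _ (fun x => (trv x).1) _ trv'.1 _ _ r)
    (key _ (fun x => (trv x).2) _ trv'.2.1 _ _ r))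

theorem jobWC : JobWC.{u} := by
  intro ea G _ _ φ c
  have : Fact (Nat.Prime 2) := ⟨Nat.prime_two⟩
  refine ⟨ea.wcA c, wc_of_isSyl c.syl (map_le_range φ E) fun g _ hg => ?_⟩
  rcases ea.big c hg (by
    rintro _ ⟨y, hy, rfl⟩
    show g * y * g⁻¹ * (g * y * g⁻¹) = 1
    rw [conj_mul, elem_mul_self (elem_map φ (U := E) (by decide +kernel)) hy]
    simp) (by rw [card_cj, c.card_map, card_E]) with h | ⟨m, h | h | h | h | h⟩
  · exact absurd h (notA c)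
  · rw [← cj_inv_cj (φ m) (cj g _), h]
    exact cj_eq_self (inv_mem (nor_E φ m))
  all_goals rw [cj_cj] at h
  · exact absurd h (notB ea c card_BA.1 nor_B.1)
  · exact absurd h (notB ea c card_BA.2.1 nor_B.2.1)
  · exact absurd h (notB ea c card_BA.2.2 nor_B.2.2)
  · exact absurd h (notF c)

end H44.A12
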