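/- A8S tower (S3152), slot TR: all translations of `t Er` are induced by `C(Er)`. -/
import Cfsg.Agent.H63.A8Def
import Cfsg.Agent.H67.SABasic

set_option autoImplicit false

namespace H44.A8
open H64.SG (Cz Cs Ns)
open H67.SA H63.A8 Subgroup

universe u

theorem center_bot {n : ℕ} {F : Type} [Field F] (hp : Par8 n F) {g : SLn n F}
    (hg : g ∈ center (SLn n F)) : g = 1 := by
  obtain ⟨r, h1, h2⟩ := Matrix.SpecialLinearGroup.mem_center_iff.1 hg
  rcases hp.fld r with rfl | rfl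
  · simp at h1
  · exact Subtype.ext (by rw [← h2]; simp)

theorem inj {n : ℕ} {F : Type} [Field F] (hp : Par8 n F) {G : Type u} [Group G]
    {e : SLn n F →* G} {t : G} (h : B1 e t) : Function.Injective e :=
  (injective_iff_map_eq_one e).2 fun _ hg => center_bot hp (h.ker hg)

/-- The elements of `A ⟨t⟩` for a central involution `t`. -/
theorem mem_sup_inv {G : Type u} [Group G] {A : Subgroup G} {t : G} (h2 : t * t = 1)
    (hc : ∀ a ∈ A, Commute t a) {d : G} (hd : d ∈ A ⊔ zpowers t) : d ∈ A ∨ t * d ∈ A := by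
  have ti : t⁻¹ = t := inv_eq_of_mul_eq_one_right h2
  have tt : ∀ a, t * (t * a) = a := fun a => by rw [← mul_assoc, h2, one_mul]
  have hc' : ∀ a, t * a ∈ A → Commute t a := fun a ha => by
    simpa [tt] using (Commute.refl t).mul_right (hc _ ha)
  let S : Subgroup G :=
    { carrier := {d | d ∈ A ∨ t * d ∈ A}
      one_mem' := .inl A.one_mem
      mul_mem' := by
        rintro a b (ha | ha) (hb | hb)
        · exact .inl (A.mul_mem ha hb)
        · right
          rw [← mul_assoc, (hc a ha).eq, mul_assoc]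
          exact A.mul_mem ha hb
        · right
          rw [← mul_assoc]
          exact A.mul_mem ha hb
        · left
          have := A.mul_mem ha hb
          rwa [(hc' a ha).eq, mul_assoc, tt] at this
      inv_mem' := by
        rintro a (ha | ha)
        · exact .inl (A.inv_mem ha)
        · right
          have := A.inv_mem ha
          rwa [(hc' a ha).eq, mul_inv_rev, ti] at this }
  exact (sup_le (fun a ha => .inl ha) (zpowers_le.2 (.inr (h2 ▸ A.one_mem))) : _ ≤ S) hd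

theorem jobTR (C : J8FC) (Y : J8FY) : J8TR.{u} := by
  intro n F _ _ _ hp G _ _ e t h ⟨y, hy, hm⟩
  have c : FC8 n F := C n F hp
  have hi := inj hp h.toB1
  have h2 := h.inv.1
  have tt : ∀ a, t * (t * a) = a := fun a => by rw [← mul_assoc, h2, one_mul]
  have ct : ∀ g, Commute t (e g) := fun g => (mem_centralizer_iff.1 h.cen _ ⟨g, rfl⟩).symm
  have h0 : (0 : Fin (n + 1)) ≠ la n := fun e => by
    have := hp.three
    have := congrArg Fin.val e
    simp at this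
    omega
  have hz : x 0 (la n) (1 : F) ≠ 1 := fun e => one_ne_zero ((x_eq_one h0).1 e)
  have hN : ∀ p ∈ Pr n F, ∀ v, v ∈ Er n F ↔ p * v * p⁻¹ ∈ Er n F := fun p hp' =>
    mem_normalizer_iff.1 (Pr_le_Ns hp')
  have conj : ∀ p v, e p * (t * e v) * (e p)⁻¹ = t * e (p * v * p⁻¹) := fun p v => by
    rw [← mul_assoc, ← (ct p).eq, map_mul, map_mul, map_inv]; group
  -- conjugates of `t` in `Er ⟨t⟩`
  have key : ∀ d ∈ (Er n F).map e ⊔ zpowers t, IsConj t d → ∃ v ∈ Er n F, d = t * e v := by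
    intro d hd hc
    rcases mem_sup_inv h2 (by rintro _ ⟨g, -, rfl⟩; exact ct g) hd with ⟨v, hv, rfl⟩ | ⟨v, hv, ev⟩
    · by_cases e1 : v = 1
      · rw [e1, map_one, isConj_one_left] at hc
        exact absurd hc h.inv.2
      · obtain ⟨p, -, ep⟩ := c.trr _ (x_mem_Row 0 (la n) 1) v hv hz e1
        exact absurd hc (h.nr v ⟨p, 1, one_ne_zero, ep.symm⟩)
    · exact ⟨v, hv, by rw [ev, tt]⟩
  have hD := mem_normalizer_iff.1 hy
  have tD : t ∈ (Er n F).map e ⊔ zpowers t := mem_sup_right (mem_zpowers t)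
  obtain ⟨v₀, hv₀, e₀⟩ := key _ ((hD t).1 tD) (isConj_iff.2 ⟨y, rfl⟩)
  have n₀ : v₀ ≠ 1 := fun e1 => hm (by rw [e₀, e1, map_one, mul_one])
  have all : ∀ v ∈ Er n F, IsConj t (t * e v) := fun v hv => by
    by_cases e1 : v = 1
    · rw [e1, map_one, mul_one]
    · obtain ⟨p, -, ep⟩ := c.trr _ hv₀ v hv n₀ e1
      refine isConj_iff.2 ⟨e p * y, ?_⟩
      rw [← ep, ← conj, ← e₀]; group
  have yN : y ∈ Ns ((Er n F).map e) := mem_normalizer_fintype (by
    rintro _ ⟨v, hv, rfl⟩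
    obtain ⟨v', hv', e'⟩ := key _ ((hD _).1 (mul_mem tD (mem_sup_left ⟨v, hv, rfl⟩)))
      ((all v hv).trans (isConj_iff.2 ⟨y, rfl⟩))
    refine ⟨v₀⁻¹ * v', mul_mem (inv_mem hv₀) hv', ?_⟩
    calc e (v₀⁻¹ * v') = (t * e v₀)⁻¹ * (t * e v') := by rw [map_mul, map_inv]; group
      _ = _ := by rw [← e₀, ← e']; group)
  let φ := (Er n F).equivMapOfInjective e hi
  obtain ⟨p, hp1, hp2⟩ := (Y n F hp).gl3
    (φ.trans ((normalizerMonoidHom _ ⟨y, yN⟩).trans φ.symm))
  have act : ∀ v ∈ Er n F, y * e v * y⁻¹ = e (p * v * p⁻¹) := fun v hv => by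
    have h1 := hp2 ⟨v, hv⟩
    have h3 : ∀ a, e (φ.symm a : SLn n F) = a := fun a => by
      conv_rhs => rw [← φ.apply_symm_apply a]
      rfl
    rw [← h1, MulEquiv.trans_apply, MulEquiv.trans_apply, h3]
    rfl
  have wC : ∀ v ∈ Er n F, Commute (e p⁻¹ * y) (e v) := fun v hv => by
    refine mul_inv_eq_iff_eq_mul.1 ?_
    calc e p⁻¹ * y * e v * (e p⁻¹ * y)⁻¹ = e p⁻¹ * (y * e v * y⁻¹) * (e p⁻¹)⁻¹ := by group
      _ = e v := by rw [act v hv, ← map_inv, ← map_mul, ← map_mul]; congr 1; group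
  have wt : e p⁻¹ * y * t * (e p⁻¹ * y)⁻¹ = t * e (p⁻¹ * v₀ * p⁻¹⁻¹) := by
    rw [← conj, ← e₀]; group
  intro v hv
  by_cases e1 : v = 1
  · exact ⟨1, one_mem _, by simp [e1]⟩
  obtain ⟨q, hq, eq⟩ := c.trr _ ((hN _ (inv_mem hp1) _).1 hv₀) v hv
    (fun e2 => n₀ (conj_eq_one_iff.1 e2)) e1
  refine ⟨e q * (e p⁻¹ * y) * (e q)⁻¹, mem_centralizer_iff.2 ?_, ?_⟩
  · rintro _ ⟨a, ha, rfl⟩
    have h1 := (wC _ ((hN _ (inv_mem hq) a).1 ha)).eq
    rw [map_mul, map_mul, inv_inv, map_inv e q] at h1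
    calc e a * (e q * (e p⁻¹ * y) * (e q)⁻¹)
        = e q * ((e q)⁻¹ * e a * e q * (e p⁻¹ * y)) * (e q)⁻¹ := by group
      _ = _ := by rw [← h1]; group
  · calc e q * (e p⁻¹ * y) * (e q)⁻¹ * t * (e q * (e p⁻¹ * y) * (e q)⁻¹)⁻¹
        = e q * (e p⁻¹ * y * ((e q)⁻¹ * t * e q) * (e p⁻¹ * y)⁻¹) * (e q)⁻¹ := by group
      _ = _ := by rw [mul_assoc (e q)⁻¹, (ct q).eq, inv_mul_cancel_left, wt, conj, eq]

end H44.A8
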