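import Cfsg.Agent.H44.CgW

/-! CG-SC (blueprints/CG.md): `N(Z)` normalizes `P`. -/

set_option autoImplicit false
set_option linter.unusedSectionVars false
set_option maxRecDepth 100000
set_option synthInstance.maxSize 4096

namespace H44.CG

open Subgroup Cfsg H98 H1.Gold H88.AS Equiv H88.CG
open H6 (F4)
open H88.TE (El mc1)
open H21.TE (Sh Cm GW goldW)

universe u

local instance : Fact (Nat.Prime 2) := ⟨Nat.prime_two⟩

variable {G : Type u} [Group G] [Finite G] {s : SG G} {θ : s.M →* Perm (Fin 8)} {g k w : G}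
  {x y y' x₀ : V6} {e e' e₀ : F4} {T F : Subgroup G} {σ : Perm (Fin 8)}

theorem bf_fix₄ (a : AF₁) (hx : th σ₄ x = x) (hy : th σ₄ y = y) :
    bf x y = bf k₁ x * bf k₂ y + bf k₂ x * bf k₁ y := by
  have := qf_add x y
  rw [qf_fix₄ a hx, qf_fix₄ a hy, qf_fix₄ a (by rw [a.add, hx, hy]), bf_add, bf_add] at this
  linear_combination -this

theorem k₁_fix (a : AF₁) (c : F4) : th σ₄ (c • k₁) = c • k₁ := by rw [a.smul, a.t₄]; rfl

theorem k₂_fix (a : AF₁) (c : F4) : th σ₄ (c • k₂) = c • k₂ := by rw [a.smul, a.t₄]; rfl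

theorem fp₄ : FP σ₄ := by unfold FP; decide

theorem b12 : bf k₁ k₂ = 1 := by decide

/-- the commutator map on the fixed space -/
def lam (x y : V6) : F4 := bf x y + bf k₁ y ^ 2

theorem lam_add (x y y' : V6) : lam x (y + y') = lam x y + lam x y' := by
  simp only [lam, bf_add, sq_add]; ring

variable (h : Cg s)
include h

theorem vec_inf (T : Subgroup G) : h.vec (T ⊓ s.P) = h.vec T :=
  AddSubgroup.ext fun _ => ⟨fun ⟨e, k⟩ => ⟨e, k.1⟩, fun ⟨e, k⟩ => ⟨e, k, p_mem _ _⟩⟩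

theorem tr_z (hk : k ∈ cen s.Z) {c : F4} (h1 : k * g * k⁻¹ = s.p x₀ e₀)
    (h2 : k * s.p y e * k⁻¹ = s.p y' e') (h3 : g * s.p y e * g⁻¹ = s.p y (e + c)) : bf x₀ y' = c := by
  have := h.p_conj x₀ y' e₀ e'
  rw [← h1, ← h.p_zr, ← h2, conj_inv, conj_mul, conj_mul, h3, ← h.p_zr, ← conj_mul,
    cjZ hk (h.gr.zZ _), mul_right_inj] at this
  exact (h.gr.z_inj this).symm

theorem tr_q (hk : k ∈ cen s.Z) {c : F4} (h1 : k * g * k⁻¹ = s.p x₀ e₀) (h2 : g * g = s.z c) :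
    qf x₀ = c := h.gr.z_inj (by rw [← h.p_sq x₀ e₀, ← h1, conj_mul, h2, cjZ hk (h.gr.zZ _)])

omit h in
theorem Z_cen1 (hg : g ∈ cen s.Z) : s.Z ≤ cen1 g := fun w hw => mc1.2 (hg w hw)

theorem cj_cen (hc : Commute g w) (h1 : k * g * k⁻¹ = s.p y e) : y ∈ h.vec (cen1 (k * w * k⁻¹)) :=
  ⟨e, h1 ▸ mc1.2 (hc.map (MulAut.conj k))⟩

variable (c : CA s θ)
include c

theorem notFP (a : AF) (hw : w ∈ s.P) (hg : g ∈ cen s.Z) (hM : g * w * g⁻¹ ∈ s.M)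
    (n : ¬ FP (θ ⟨_, hM⟩)) : g * w * g⁻¹ ∈ s.P := by
  obtain ⟨y, hy, k⟩ := a.dfix _ (c.alt _) (θ_sq h c a.toAF₁ ⟨_, hM⟩
    (sq_cj h hg le_rfl (conj_mem_cj hw))) n
  exact (sh h c a).mem hg hw (p_mem y 0) (dr c h hy 0) (fun _ hc k => crz h c hc hy k)
    ((c.fixes h ⟨_, hM⟩).2 k)

namespace St
variable {h} {a : AF₁} {t : s.M} (b : St (θ := θ) h a t k x₀ e₀) (h4 : θ t = σ₄)
include b

theorem rad_le : h.pre (a.radS (θ t)) ≤ h.pre (a.fix1 (θ t)) := fun _ ⟨y, hy, k1⟩ =>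
  ⟨y, a.rad_fix (θ_sq h c a t b.sq) hy, k1⟩

omit c b in
theorem rad_cm (hg : g ∈ h.pre (a.radS σ)) (hw : w ∈ h.pre (a.fix1 σ)) : Commute g w := by
  obtain ⟨y1, k1, e1, rfl⟩ := hg
  obtain ⟨y2, k2, e2, rfl⟩ := hw
  exact h.p_comm.2 (a.rad_perp k1 k2)

theorem rad_card (hP : cj k (h.pre (a.radS (θ t))) ≤ s.P) :
    Nat.card (h.vec (cj k (h.pre (a.radS (θ t))))) = 16 := by
  have h2 := h.card_vec' hP (Z_cj b.hk (h.Z_le_pre _))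
  rw [card_cj, h.card_pre, show Nat.card (a.radS (θ t)) = 16 from
    (a.fix2 _ (c.alt t) (θ_sq h c a t b.sq) b.ne).2] at h2
  omega

omit c b in
theorem vec_mono (hT : F ≤ T) : h.vec F ≤ h.vec T := fun _ ⟨e, k⟩ => ⟨e, hT k⟩

include h4

theorem nf : ∃ x, th σ₄ x = x ∧ qf x₀ = bf k₁ x ^ 2 + bf k₁ x * bf k₂ x ∧
    ∀ y e, th σ₄ y = y → t * s.p y e * (t : G)⁻¹ = s.p y (e + lam x y) := by
  obtain ⟨x, e, h1, h2⟩ := c.nf4 t b.sq h4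
  refine ⟨x, h1, tr_q h b.hk b.tp ?_, fun y e' hy => ?_⟩
  · have := h.s0_p a h1 e
    rw [inv_eq_of_mul_eq_one_right h.s0_sq] at this
    rw [h2, ← mul_assoc, this, ← h.p_zl, mul_assoc, h.p_sq, h.gr.zz, qf_fix₄ a h1]
  · rw [h2, mul_inv_rev, lam, ← add_assoc, ← h.s0_p a hy, ← h.p_conj x y e]
    group

theorem two (hσ : σ ∈ img θ (cj k (h.pre (a.fix1 (θ t))))) (n : σ ≠ 1)
    (hc : 128 ≤ Nat.card (h.vec (cj k (h.pre (a.fix1 (θ t)))))) : False := by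
  obtain ⟨x, fx, qx, lx⟩ := b.nf c h4
  have hk := b.hk
  have h1 := (vec_fix h c a hk (h.pre_le _)).trans (fix_le a hσ)
  have h2 := card_fix1 a (c.img_le hσ) (el_cj h c a hk (h.pre_le _) σ hσ) n
  have h3 := b.fix c σ hσ
  have rl := b.rad_le c
  have rc := b.rad_card c
  have nm := b.nm c
  rw [h4] at h1 hc rl rc nm
  obtain ⟨ϑ, hϑ, e1, _, ⟨α, fα, e2, rfl⟩, k1⟩ : ∃ ϑ, (ϑ = F4.w ∨ ϑ = F4.v) ∧
      ϑ • x₀ ∈ h.vec (cj k (h.pre (a.fix1 σ₄))) := by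
    rcases two_idx h1 (by omega) h3 (show F4.w • x₀ ∈ a.fix1 σ from
      (a.smul ..).trans (congrArg _ h3)) with k1 | k1 | k1
    exacts [(nm k1).elim, ⟨_, .inl rfl, k1⟩,
      ⟨_, .inr rfl, by rwa [show F4.v = 1 + F4.w from rfl, add_smul, one_smul]⟩]
  have ϑ0 : ϑ ≠ 0 := by rcases hϑ with rfl | rfl <;> decide
  have tl : ∀ {y y' e e'}, th σ₄ y = y → k * s.p y e * k⁻¹ = s.p y' e' → bf x₀ y' = lam x y :=
    fun hy k2 => tr_z h hk b.tp k2 (lx _ _ hy)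
  have mu : ∀ {y y' e e'}, th σ₄ y = y → k * s.p y e * k⁻¹ = s.p y' e' → bf α y = ϑ * lam x y :=
    fun hy k2 => by rw [← tr_z h hk k1 k2 (h.p_conj ..), smul_bf, tl hy k2]
  have ex : ∀ {y}, y ∈ h.vec (h.pre (a.fix1 σ₄) ⊓ cj k⁻¹ s.P) → ∀ e, ∃ y' e',
      k * s.p y e * k⁻¹ = s.p y' e' := fun hy e => by
    have := ((h.mem_vec' (le_inf (h.Z_le_pre _) (Z_cj (inv_mem hk) h.Z_le_P)) e).1 hy).2
    obtain ⟨y', e', k2⟩ := h.mem_P.1 (mem_cj.1 this)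
    exact ⟨y', e', by simpa using k2.symm⟩
  have h5 : h.vec (h.pre (a.fix1 σ₄) ⊓ cj k⁻¹ s.P) ≤ a.fix1 σ₄ := fun _ ⟨_, k2⟩ => h.p_mem_pre.1 k2.1
  have h6 := h.card_vec' (inf_le_left.trans (h.pre_le (a.fix1 σ₄)))
    (le_inf (h.Z_le_pre _) (Z_cj (inv_mem hk) h.Z_le_P))
  rw [← card_cj k, cj_inf, cj_cj_inv, h.card_vec' inf_le_right
    (le_inf (Z_cj hk (h.Z_le_pre _)) h.Z_le_P), vec_inf] at h6
  have idx := fun {y y'} (hy : th σ₄ y = y) (hy' : th σ₄ y' = y') => two_idx h5 (by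
    rw [card_fix1 a (h4 ▸ c.alt t) (by decide) (by decide)]; omega) hy hy'
  have mu' : ∀ {y}, y ∈ h.vec (h.pre (a.fix1 σ₄) ⊓ cj k⁻¹ s.P) → bf α y = ϑ * lam x y := fun hy =>
    let ⟨_, _, k2⟩ := ex hy 0; mu (h5 hy) k2
  have a1 : bf k₁ α = ϑ * bf k₁ x := by
    have m : ∀ d : F4, d ≠ 0 → d • k₁ ∈ h.vec (h.pre (a.fix1 σ₄) ⊓ cj k⁻¹ s.P) →
        bf k₁ α = ϑ * bf k₁ x := fun d hd k2 => by
      have := mu' k2
      simp only [lam, bf_smul, bf_self] at this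
      rw [bf_comm α, bf_comm x] at this
      exact mul_left_cancel₀ hd (by linear_combination this)
    rcases idx (k₁_fix a 1) (k₁_fix a F4.w) with k2 | k2 | k2
    exacts [m _ one_ne_zero k2, m _ (by decide) k2, m (1 + F4.w) (by decide) (by rwa [add_smul])]
  have x1 : bf k₁ x = 0 := by
    have k2 := mu fα k1
    have k3 := tr_q h hk k1 (h.p_sq α e2)
    rw [qf_smul, qx, qf_fix₄ a fα, a1] at k3
    rw [bf_self, lam, bf_fix₄ a fx fα, a1] at k2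
    generalize bf k₁ x = x₁, bf k₂ x = x₂, bf k₂ α = a₂ at k2 k3
    revert x₁ x₂ a₂
    rcases hϑ with rfl | rfl <;> decide
  rw [x1, mul_zero] at a1
  obtain ⟨d, hd⟩ : ∃ d : F4, bf α (d • k₂) ≠ ϑ * lam x (d • k₂) := by
    simp only [lam, bf_smul, b12]
    generalize bf α k₂ = p, bf x k₂ = q
    revert p q
    rcases hϑ with rfl | rfl <;> decide
  have m0 : ∀ {y}, th σ₄ y = y → bf k₁ y = 0 → y ∈ h.vec (h.pre (a.fix1 σ₄) ⊓ cj k⁻¹ s.P) :=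
    fun {y} hy h0 => by
      rcases idx hy (k₂_fix a d) with k2 | k2 | k2
      · exact k2
      · exact (hd (mu' k2)).elim
      · refine (hd ?_).elim
        have := mu' k2
        rwa [bf_add, lam_add, lam, bf_fix₄ a fα hy, bf_fix₄ a fx hy, h0, x1, a1, zero_mul,
          mul_zero, mul_zero, add_zero, zero_add, zero_pow two_ne_zero, add_zero, zero_add] at this
  have fb : th σ₄ (ϑ⁻¹ • α) = ϑ⁻¹ • α := (a.smul ..).trans (congrArg _ fα)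
  obtain ⟨β, e3, k2⟩ := ex (m0 fb (by rw [bf_smul, a1, mul_zero])) 0
  have h7 : x₀ + β ∈ perpS (h.vec (cj k (h.pre (a.fix1 σ₄)))) := by
    rintro y' ⟨e4, _, ⟨y, hy, e5, rfl⟩, k3⟩
    rw [bf_comm, add_bf, tl hy k3, tr_z h hk k2 k3 (h.p_conj ..), smul_bf, mu hy k3,
      inv_mul_cancel_left₀ ϑ0, F4.add_self]
  have h8 : h.vec (cj k (h.pre (a.radS σ₄))) ≤ perpS (h.vec (cj k (h.pre (a.fix1 σ₄)))) :=
    fun y' ⟨e4, q, hq, k3⟩ => perp_cj h (fun _ => rad_cm hq) k3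
  have h9 := two_mul_le h8 h7 fun k3 => nm (by
    simpa [add_assoc, v_self] using add_mem (vec_mono (cj_mono k rl) k3)
      (show β ∈ h.vec (cj k (h.pre (a.fix1 σ₄))) from ⟨e3, k2 ▸ conj_mem_cj (h.p_mem_pre.2 fb)⟩))
  rw [rc (by
    rintro _ ⟨_, ⟨y, hy, e4, rfl⟩, rfl⟩
    obtain ⟨y', e5, k3⟩ := ex (m0 ((rad₄ a).1 hy).1 ((rad₄ a).1 hy).2.1) e4
    exact h.mem_P.2 ⟨_, _, k3.symm⟩)] at h9
  have h10 : Nat.card (perpS (h.vec (cj k (h.pre (a.fix1 σ₄))))) ≤ 16 := a.p64 _ (by omega)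
  omega

theorem eight (a₂ : AF₂) (pu : ∀ σ ∈ img θ (cj k (h.pre (a.fix1 (θ t)))), σ ≠ 1 → FP σ)
    (h8 : Nat.card (img θ (cj k (h.pre (a.fix1 (θ t))))) = 8) : False := by
  obtain ⟨x, fx, -, lx⟩ := b.nf c h4
  have hk := b.hk
  have el := el_cj h c a hk (h.pre_le (a.fix1 (θ t)))
  have h1 := vec_fix h c a hk (h.pre_le (a.fix1 (θ t)))
  have h2 : Nat.card (a.fixS _) ≤ 64 := a₂.fix4 _ c.img_le el (by omega)
  have h3 := b.card c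
  obtain ⟨-, q0, rf, sm, σ, hσ, π, hπ, ρ, hρ, nσ, nπ, nρ, thr⟩ := a₂.pure8 _ c.img_le el pu h8
  have hM := b.le
  have two := isPGroup_iff_forall.1 (isPGroup_cj k (h.P_two.to_le (h.pre_le (a.fix1 (θ t)))))
  have sq := fun {g} => sq_cj (g := g) h hk (h.pre_le (a.fix1 (θ t)))
  have fx₀ := b.fix c
  have nm := b.nm c
  have rl := cj_mono k (b.rad_le c)
  have rc := b.rad_card c
  have cf : ∀ g ∈ cj k (h.pre (a.fix1 (θ t))), h.vec (cj k (h.pre (a.radS (θ t)))) ≤ h.vec (cen1 g) := by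
    rintro _ ⟨f, hf, rfl⟩ y ⟨e, q, hq, k1⟩
    exact cj_cen h (rad_cm hq hf) k1
  have cf' : ∀ g ∈ cj k (h.pre (a.radS (θ t))), x₀ ∈ h.vec (cen1 g) ∧
      h.vec (cj k (h.pre (a.fix1 (θ t)))) ≤ h.vec (cen1 g) := by
    rintro _ ⟨q, hq, rfl⟩
    exact ⟨cj_cen h (b.cen_rad c (h4 ▸ fp₄) hq) b.tp,
      fun y ⟨e, f, hf, k1⟩ => cj_cen h (rad_cm hq hf).symm k1⟩
  have nl : ¬ ∀ g ∈ cj k (h.pre (a.fix1 (θ t))), x₀ ∈ h.vec (cen1 g) := fun k1 => by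
    have k2 : ∀ d : F4, lam x (d • k₂) = 0 := fun d => by
      have hd := conj_mem_cj (g := k) (h.p_mem_pre (e := 0).2
        (show d • k₂ ∈ a.fix1 (θ t) from h4 ▸ k₂_fix a d))
      have k3 := mc1.1 ((h.mem_vec' (Z_cen1 (hM hd).1) e₀).1 (k1 _ hd))
      rw [← b.tp, Commute, SemiconjBy, conj_mul, conj_mul, mul_left_inj, mul_right_inj,
        ← mul_inv_eq_iff_eq_mul, lx _ _ (k₂_fix a d)] at k3
      simpa using (h.p_ext k3).2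
    simp only [lam, bf_smul, b12] at k2
    generalize bf x k₂ = q at k2
    revert q
    decide
  generalize cj k (h.pre (a.fix1 (θ t))) = T at *
  generalize cj k (h.pre (a.radS (θ t))) = R at *
  have mv : ∀ (g : s.M) {y}, y ∈ h.vec (cen1 (g : G)) ↔ Commute (g : G) (s.p y 0) := fun g y =>
    (h.mem_vec' (Z_cen1 g.2.1) 0).trans (mc1.trans ⟨.symm, .symm⟩)
  have cr : ∀ g : s.M, ↑g ∈ T → a.radS (θ g) ≤ h.vec (cen1 (g : G)) := by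
    rintro g hg _ ⟨y, rfl⟩
    exact (mv g).2 (h.inv_rad g.2.1 (sq hg) (c.act g) (q0 _ (rf _ ⟨g, hg, rfl⟩ ⟨y, rfl⟩)) 0)
  have c1 : ∀ g : s.M, ↑g ∈ T → θ g = 1 → a.fixS (img θ T) ≤ h.vec (cen1 (g : G)) :=
    fun g hg e1 y hy => by
      obtain ⟨y', e', k1⟩ := h.mem_P.1 (c.k2 g e1 (two _ hg))
      have k2 : y' ∈ a.fixS (img θ T) := h1 ⟨e', k1 ▸ hg⟩
      have k3 := qf_add y' y
      rw [q0 _ k2, q0 _ hy, q0 _ (add_mem k2 hy), add_zero, zero_add] at k3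
      exact (mv g).2 (k1 ▸ h.p_comm.2 k3.symm)
  have key : ∀ g₀ : s.M, ↑g₀ ∈ T → θ g₀ ≠ 1 → ¬ a.fixS (img θ T) ≤ h.vec (cen1 (g₀ : G)) :=
    fun g₀ m₀ n₀ k₀ => nl fun g hg => by
      lift g to s.M using hM hg
      have cc : ∀ y ∈ a.fixS (img θ T), y ∈ h.vec (cen1 ((g * g₀ : s.M) : G)) →
          y ∈ h.vec (cen1 (g : G)) := fun y hy k1 => (mv g).2 (by
        simpa using ((mv _).1 k1).mul_left ((mv g₀).1 (k₀ hy)).inv_left)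
      by_cases n1 : θ g = 1
      · exact c1 g hg n1 fx₀
      by_cases n2 : θ (g * g₀) = 1
      · exact cc _ fx₀ (c1 _ (mul_mem hg m₀) n2 fx₀)
      obtain ⟨y, hy, y', hy', k1⟩ := sm _ ⟨g, hg, rfl⟩ _ ⟨g * g₀, mul_mem hg m₀, rfl⟩ n1 n2
        (fun e => n₀ (by simpa using e)) x₀ fx₀
      exact k1 ▸ add_mem (cr g hg hy)
        (cc _ (rf _ ⟨g * g₀, mul_mem hg m₀, rfl⟩ hy') (cr _ (mul_mem hg m₀) hy'))
  have h5 := rc fun g hg => c.k2 ⟨g, hM (rl hg)⟩ (by_contra fun n => key _ (rl hg) n fun y hy => by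
    rcases two_idx h1 (by rw [h8] at h3; omega) fx₀ hy with k1 | k1 | k1
    · exact (nm k1).elim
    · exact (cf' g hg).2 k1
    · simpa [← add_assoc, v_self] using add_mem (cf' g hg).1 ((cf' g hg).2 k1)) (two _ (rl hg))
  have h6 : ∀ ε ∈ img θ T, ε ≠ 1 → 8 ≤ Nat.card ↥(h.vec R ⊓ a.radS ε) := by
    rintro _ ⟨g, hg, rfl⟩ n
    obtain ⟨y, hy, k1⟩ := SetLike.not_le_iff_exists.1 (key g hg n)
    have k2 := two_mul_le (inf_le_left : a.fixS (img θ T) ⊓ h.vec (cen1 (g : G)) ≤ _) hy fun k => k1 k.2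
    have k3 := card_mul_le (le_inf ((vec_mono rl).trans h1) (cf (g : G) hg))
      (le_inf (show a.radS (θ g) ≤ a.fixS (img θ T) from rf _ ⟨g, hg, rfl⟩) (cr g hg))
    rw [h5, show Nat.card (a.radS (θ g)) = 16 from
      (a.fix2 _ (c.alt g) (el _ ⟨g, hg, rfl⟩) n).2] at k3
    nlinarith
  have k1 := card_mul_le (inf_le_left : h.vec R ⊓ a.radS σ ≤ _) (inf_le_left : h.vec R ⊓ a.radS π ≤ _)
  have k2 := card_mul_le (inf_le_left.trans inf_le_left : h.vec R ⊓ a.radS σ ⊓ (h.vec R ⊓ a.radS π) ≤ _)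
    (inf_le_left : h.vec R ⊓ a.radS ρ ≤ _)
  rw [show h.vec R ⊓ a.radS σ ⊓ (h.vec R ⊓ a.radS π) ⊓ (h.vec R ⊓ a.radS ρ) = ⊥ from
    eq_bot_iff.2 fun y hy => thr y hy.1.1.2 hy.1.2.2 hy.2.2, AddSubgroup.card_bot, h5] at k2
  rw [h5] at k1
  have k3 := Nat.mul_le_mul (h6 σ hσ nσ) (h6 π hπ nπ)
  have k4 := h6 ρ hρ nρ
  nlinarith

end St

theorem no4 (a : AF) {t : s.M} (b : St (θ := θ) h a.toAF₁ t k x₀ e₀) (h4 : θ t = σ₄) : False := by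
  have pu : ∀ σ ∈ img θ (cj k (h.pre (a.fix1 (θ t)))), σ ≠ 1 → FP σ := by
    rintro _ ⟨⟨_, hM⟩, ⟨q, hq, rfl⟩, rfl⟩ n
    exact by_contra fun k1 => n (c.θ_P a.toAF₁ h _ (notFP h c a (h.pre_le _ hq) b.hk hM k1))
  have el := el_cj h c a.toAF₁ b.hk (h.pre_le (a.fix1 (θ t)))
  by_cases n : ∀ σ ∈ img θ (cj k (h.pre (a.fix1 (θ t)))), σ = 1
  · exact b.p4 c (h4 ▸ fp₄) (le_P h c b.le (isPGroup_cj _ (h.P_two.to_le (h.pre_le _))) n)
  push Not at n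
  obtain ⟨σ, hσ, n⟩ := n
  have h1 := b.card c
  have h2 := two_mul_le (vec_fix h c a.toAF₁ b.hk (h.pre_le (a.fix1 (θ t)))) (b.fix c) (b.nm c)
  have h3 := a.pure _ c.img_le el pu
  have h5 := a.fix4 _ c.img_le el
  have h6 : ¬ _ := b.two c h4 hσ n
  have h7 : ¬ _ := b.eight c h4 a.toAF₂ pu
  change Nat.card (H88.CG.Fix _) ≥ _ at h2
  generalize Nat.card (img θ _) = m at *
  interval_cases m <;> omega

theorem sc (a : AF) (hw : w ∈ s.P) (hg : g ∈ cen s.Z) (hN : g * w * g⁻¹ ∈ nor s.P) :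
    g * w * g⁻¹ ∈ s.P := by
  have hM : g * w * g⁻¹ ∈ s.M := ⟨cjc hg (h.P_cenZ hw), hN⟩
  have sq := sq_cj h hg le_rfl (conj_mem_cj hw)
  rcases a.inv _ (c.alt _) (θ_sq h c a.toAF₁ ⟨_, hM⟩ sq) with n | ⟨n, -⟩ | ⟨-, π, hπ, h4⟩
  · exact c.k2 ⟨_, hM⟩ n ⟨2, h.four sq⟩
  · exact notFP h c a hw hg hM n
  obtain ⟨y, -, rfl⟩ := c.sur π hπ
  rw [← map_inv, ← map_mul, ← map_mul] at h4
  have hg' : (y : G) * g ∈ cen s.Z := mul_mem y.2.1 hg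
  obtain ⟨t, ht⟩ : ∃ t, t = y * ⟨_, hM⟩ * y⁻¹ := ⟨_, rfl⟩
  have ht' : (t : G) = y * g * w * (y * g : G)⁻¹ := by rw [ht]; simp [mul_assoc]
  rw [← ht] at h4
  generalize (y : G) * g = g' at hg' ht'
  have h' := (sh h c a).cj hg'
  have hs : (t : G) ∈ cj g' s.P := ht' ▸ conj_mem_cj hw
  obtain ⟨S, hS, h1⟩ := exists_isSyl_le (H := Cm (le_refl (cen s.Z)) (t : G)) h'.two
    fun q hq => ⟨h'.le hq, h'.cm q hq _ hs⟩
  obtain ⟨j, hj, h2⟩ := hS.exists_cj_le (h.P_two.to_le (h.pre_le (a.fix1 (θ t))))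
    fun q hq => ⟨h.P_cenZ (h.pre_le _ hq), cm_fix h c a.toAF₁ t hq⟩
  have hk := mul_mem (inv_mem hg') hj.1
  obtain ⟨x₀, e₀, tp⟩ := h.mem_P.1 (show g'⁻¹ * j * t * (g'⁻¹ * j)⁻¹ ∈ s.P by
    simpa [mul_assoc] using mem_cj.1 (mul_mem (h'.vw hj.2) hs))
  refine (no4 h c a ⟨sq_cj h hg' le_rfl hs, h4 ▸ by decide, hk, tp.symm,
    le_inf (cj_le_of_le_of_mem (fun _ k => h.P_cenZ (h.pre_le _ k)) hk) ?_⟩ h4).elim
  rw [← cj_cj, cj_le_iff, inv_inv, cj_normalizer]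
  exact h2.trans (h'.le_nor hS.isPGroup h1 fun _ k => (hS.le k).1)

omit c in
theorem noGW {B B' : Subgroup G} (k : GW (cen s.Z) s.Z s.P B B') : False := by
  obtain ⟨_, hx, -, -, nx, -⟩ := k.two
  obtain ⟨x, e, rfl⟩ := h.mem_P.1 (k.le hx)
  have b0 : ∀ {x y e e'}, s.p x e ∈ B → s.p y e' ∈ B' → bf x y = 0 := fun h1 h2 =>
    h.p_comm.1 (k.cb h2 _ h1)
  have dec : ∀ y, ∃ y1 e1 y2 e2, s.p y1 e1 ∈ B ∧ s.p y2 e2 ∈ B' ∧ y = y1 + y2 := fun y => by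
    obtain ⟨c, hc, c', hc', k1⟩ := k.dec _ (p_mem y 0)
    obtain ⟨y1, e1, rfl⟩ := h.mem_P.1 (k.le hc)
    obtain ⟨y2, e2, rfl⟩ := h.mem_P.1 (k.le' hc')
    exact ⟨y1, e1, y2, e2, hc, hc', (h.p_ext ((h.p_mul ..).symm.trans k1)).1.symm⟩
  have tr : ∀ y e', s.p y e' ∈ B → s.p y e' ∉ B' → qf y = qf x := fun y e' h1 h2 => by
    obtain ⟨c, hc, k1⟩ := k.tr _ h1 _ hx h2 nx
    obtain ⟨y1, e1, rfl⟩ := h.mem_P.1 (k.le hc.1)
    obtain rfl : y1 = 0 := bf_nondeg fun y => by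
      obtain ⟨y2, e2, y3, e3, h3, h4, rfl⟩ := dec y
      rw [bf_add, b0 hc.1 h4, bf_comm, b0 h3 hc.2, add_zero]
    rw [h.p_mul 0, zero_add, h.p_sq, h.p_sq] at k1
    exact h.gr.z_inj k1
  obtain ⟨u, n1, n2⟩ := (by decide : ∀ t : F4, ∃ u, u ≠ 0 ∧ u ≠ t) (qf x)
  obtain ⟨y, rfl⟩ := bf_onto (x := x) (by rintro rfl; exact nx (k.vb' (h.p_mem_Z.2 rfl))) u
  obtain ⟨y1, e1, y2, e2, h1, h2, rfl⟩ := dec y
  rw [bf_add, b0 hx h2, add_zero] at n1 n2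
  have h3 := mul_mem hx h1
  rw [h.p_mul] at h3
  have h4 := tr _ _ h3 fun k1 => n1 (by simpa [bf_add, bf_self] using b0 hx k1)
  rw [qf_add, tr _ _ h1 fun k1 => n1 (b0 hx k1), F4.add_self, zero_add] at h4
  exact n2 h4

theorem cen_le (a : AF) : cen s.Z ≤ nor s.P := by
  obtain ⟨S, hS, h1⟩ := exists_isSyl_le (H := cen s.Z) h.P_two fun _ => h.P_cenZ
  refine (goldW hS h1 h.Z_le_P le_rfl (fun _ => h.P_sq) (fun w hw g hg k => sc h c a hw hg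
    ((sh h c a).le_nor hS.isPGroup h1 hS.le k)) fun X h2 h3 h4 o ho q hq => ?_).resolve_right
    fun ⟨_, _, k⟩ => noGW h k
  exact (h.P_cenO hq o (c.odd X (fun x hx => mc1.2 (h2 hx _ (h.gr.zZ 1)).symm) h3
    (fun _ k => h4 (h.P_cenZ k)) ho)).symm

omit h c in
theorem jobSC : JobSC.{u} := fun G _ _ s θ a h c _ g hg => by
  have e : cj g (cen s.Z) = cen s.Z := (cj_centralizer g _).trans (by rw [cj_eq_self hg])
  have h1 := cen_le h c a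
  have h2 : cj g s.P ≤ cen s.Z := (cj_mono g fun _ => h.P_cenZ).trans e.le
  have h3 := isPGroup_cj g h.P_two
  have := alternatingGroup.isSimpleGroup (α := Fin 8) (by simp)
  have nm : ((img θ (cj g s.P)).subgroupOf A8).Normal := ⟨by
    rintro ⟨_, -⟩ ⟨q, hq, rfl⟩ ⟨π, hπ⟩
    obtain ⟨y, -, rfl⟩ := c.sur π hπ
    exact ⟨y * q * y⁻¹, conj_mem_of_mem_normalizer (x := (q : G))
      ((cj_normalizer g _).le (cj_mono g h1 (e.ge y.2.1))) hq, by simp⟩⟩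
  refine mem_normalizer_of_cj_le (le_P h c (le_inf h2 (h2.trans h1)) h3 fun σ hσ => ?_)
  rcases nm.eq_bot_or_eq_top with k | k
  · exact congrArg Subtype.val (mem_bot.1 (k.le (show ⟨σ, c.img_le hσ⟩ ∈ _ from hσ)))
  · have h4 := (card_le_of_le (subgroupOf_eq_top.1 k)).trans (a.two _ c.img_le (c.img_two h3))
    have h5 := two_mul_nat_card_alternatingGroup (α := Fin 8)
    rw [Nat.card_perm, Nat.card_fin] at h5
    change 2 * Nat.card A8 = 40320 at h5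
    omega

end H44.CG
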