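import Cfsg.Agent.H88.CGKit

/-! CG-W (blueprints/CG.md): weak closure of `P`. -/

set_option autoImplicit false
set_option linter.unusedSectionVars false
set_option maxRecDepth 100000
set_option synthInstance.maxSize 4096

namespace H44.CG

open Subgroup Cfsg H98 H1.Gold H88.AS Equiv H88.CG
open H6 (F4)
open H88.TE (El mc1)

universe u

section add
variable {V : Type*} [AddCommGroup V] [Finite V] {A B K : AddSubgroup V}

theorem rel_card (A B : AddSubgroup V) : A.relIndex B * Nat.card ↥(A ⊓ B) = Nat.card B := by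
  rw [← Nat.card_congr (AddSubgroup.addSubgroupOfEquivOfLe (inf_le_right : A ⊓ B ≤ B)).toEquiv,
    AddSubgroup.inf_addSubgroupOf_right]
  exact AddSubgroup.index_mul_card _

theorem card_mul_le (hA : A ≤ K) (hB : B ≤ K) :
    Nat.card A * Nat.card B ≤ Nat.card K * Nat.card ↥(A ⊓ B) := by
  have h1 := rel_card A K
  rw [inf_of_le_left hA] at h1
  have h2 := AddSubgroup.relIndex_le_of_le_right (H := A) hB AddSubgroup.index_ne_zero_of_finite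
  rw [← h1, ← rel_card A B]
  calc _ ≤ Nat.card A * (A.relIndex K * Nat.card ↥(A ⊓ B)) := by gcongr
    _ = _ := by ring

theorem two_idx (h : B ≤ A) (hc : Nat.card A ≤ 2 * Nat.card B) {a b : V} (ha : a ∈ A) (hb : b ∈ A) :
    a ∈ B ∨ b ∈ B ∨ a + b ∈ B := by
  have h1 := rel_card B A
  rw [inf_of_le_left h] at h1
  have h2 : B.relIndex A ≤ 2 := Nat.le_of_mul_le_mul_right (h1 ▸ hc) Nat.card_pos
  have h3 : B.relIndex A ≠ 0 := AddSubgroup.index_ne_zero_of_finite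
  by_cases h4 : B.relIndex A = 1
  · exact .inl (AddSubgroup.relIndex_eq_one.1 h4 ha)
  have := AddSubgroup.add_mem_iff_of_index_two (H := B.addSubgroupOf A) (a := ⟨a, ha⟩) (b := ⟨b, hb⟩)
    (show B.relIndex A = 2 by omega)
  simp only [AddSubgroup.mem_addSubgroupOf, AddSubgroup.coe_add] at this
  tauto

theorem two_mul_le (h : B ≤ A) {a : V} (ha : a ∈ A) (n : a ∉ B) : 2 * Nat.card B ≤ Nat.card A := by
  have h1 := rel_card B A
  rw [inf_of_le_left h] at h1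
  have h3 : B.relIndex A ≠ 0 := AddSubgroup.index_ne_zero_of_finite
  have h4 : B.relIndex A ≠ 1 := fun e => n (AddSubgroup.relIndex_eq_one.1 e ha)
  rw [← h1]
  exact Nat.mul_le_mul_right _ (by omega)

end add

variable {G : Type u} [Group G] [Finite G] {s : SG G} {θ : s.M →* Perm (Fin 8)} {g k : G}
  {x y : V6} {e : F4} {T F : Subgroup G} {σ : Perm (Fin 8)}

theorem fix_le (a : AF₁) {E : Subgroup (Perm (Fin 8))} (h : σ ∈ E) : a.fixS E ≤ a.fix1 σ :=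
  fun _ hx => hx σ h

theorem card_fix1 (a : AF₁) (h1 : σ ∈ A8) (h2 : σ * σ = 1) (h3 : σ ≠ 1) :
    Nat.card (a.fix1 σ) = 256 := (a.fix2 σ h1 h2 h3).1

theorem cjc (hk : k ∈ cen s.Z) (hg : g ∈ cen s.Z) : k * g * k⁻¹ ∈ cen s.Z :=
  mul_mem (mul_mem hk hg) (inv_mem hk)

theorem Z_cj (hk : k ∈ cen s.Z) (hZ : s.Z ≤ F) : s.Z ≤ cj k F := fun _ hw =>
  cjZ hk hw ▸ conj_mem_cj (hZ hw)

theorem cm_cj (hk : k ∈ cen s.Z) {g' : G} (h : g * g' * g⁻¹ * g'⁻¹ ∈ s.Z) :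
    k * g * k⁻¹ * (k * g' * k⁻¹) * (k * g * k⁻¹)⁻¹ * (k * g' * k⁻¹)⁻¹ ∈ s.Z := by
  rw [← cjZ hk h] at h
  simpa [mul_assoc] using h

theorem cm_symm {g' : G} (h : g * g' * g⁻¹ * g'⁻¹ ∈ s.Z) : g' * g * g'⁻¹ * g⁻¹ ∈ s.Z := by
  simpa [mul_assoc] using inv_mem h

variable (h : Cg s)
include h

theorem sq_cj (hk : k ∈ cen s.Z) (hF : F ≤ s.P) (hg : g ∈ cj k F) : g * g ∈ s.Z := by
  obtain ⟨q, hq, rfl⟩ := hg
  have := h.P_sq (hF hq)
  rwa [← cjZ hk this, ← conj_mul] at this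

theorem cm_cj' (hk : k ∈ cen s.Z) (hF : F ≤ s.P) {g' : G} (hg : g ∈ cj k F) (hg' : g' ∈ cj k F) :
    g * g' * g⁻¹ * g'⁻¹ ∈ s.Z := by
  obtain ⟨q, hq, rfl⟩ := hg
  obtain ⟨q', hq', rfl⟩ := hg'
  exact cm_cj hk (h.P_cm (hF hq) (hF hq'))

theorem perp_cj (hg : ∀ r ∈ F, Commute g r) (e1 : k * g * k⁻¹ = s.p y e) :
    y ∈ perpS (h.vec (cj k F)) := fun x ⟨e', q, hq, hx⟩ => by
  refine h.p_comm.1 (show Commute (s.p x e') (s.p y e) from ?_)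
  rw [← hx, ← e1]
  exact (hg q hq).symm.map (MulAut.conj k)

variable (c : CA s θ) (a : AF₁)
include c

theorem crz (hg : g ∈ cen s.Z) (dv : DV x) (hc : g * s.p x e * g⁻¹ * (s.p x e)⁻¹ ∈ s.Z) :
    g ∈ nor s.P := by
  obtain ⟨e', hc⟩ := h.mem_Z.1 hc
  exact c.cr g hg x e (e + e') dv (by rw [← h.p_zl, hc, inv_mul_cancel_right])

omit h in
theorem dr (h : Cg s) (dv : DV x) (e : F4) : s.Dr (s.p x e) :=
  let ⟨y, hy, k⟩ := c.kc x e dv; ⟨y, (h.Y_le hy).1.1, k⟩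

include a

theorem cnt (hT : T ≤ s.M) (h2 : IsPGroup 2 T) (hZ : s.Z ≤ T) :
    Nat.card T = 4 * (Nat.card (h.vec T) * Nat.card (img θ T)) := by
  rw [c.card_img a h hT h2, h.card_vec' inf_le_right (le_inf hZ h.Z_le_P), mul_assoc,
    show h.vec (T ⊓ s.P) = h.vec T from
      AddSubgroup.ext fun x => ⟨fun ⟨e, k⟩ => ⟨e, k.1⟩, fun ⟨e, k⟩ => ⟨e, k, p_mem _ _⟩⟩]

theorem mem_fix (hx : ∀ g ∈ T, g * s.p x e * g⁻¹ * (s.p x e)⁻¹ ∈ s.Z) : x ∈ a.fixS (img θ T) := by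
  rintro _ ⟨g, hg, rfl⟩
  exact (c.fixes h g).1 (hx _ hg)

theorem vec_fix (hk : k ∈ cen s.Z) (hF : F ≤ s.P) : h.vec (cj k F) ≤ a.fixS (img θ (cj k F)) :=
  fun _ ⟨_, hx⟩ => mem_fix h c a fun _ hg => cm_cj' h hk hF hg hx

theorem el_cj (hk : k ∈ cen s.Z) (hF : F ≤ s.P) : El (img θ (cj k F)) :=
  c.img_el a h fun _ hg => h.Z_le_P (sq_cj h hk hF hg)

omit a in
theorem le_P (hT : T ≤ s.M) (h2 : IsPGroup 2 T) (h1 : ∀ σ ∈ img θ T, σ = 1) : T ≤ s.P := fun g hg =>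
  c.k2 ⟨g, hT hg⟩ (h1 _ ⟨_, hg, rfl⟩) (isPGroup_iff_forall.1 h2 g hg)

theorem θ_sq (t : s.M) (h2 : (t : G) * t ∈ s.Z) : θ t * θ t = 1 := by
  rw [← map_mul]
  exact c.θ_P a h _ (h.Z_le_P h2)

omit a in
/-- two conjugates of `P` that share an element of the class `DV` are equal -/
theorem star (a : AF) (hk : k ∈ cen s.Z) (dv : DV x) (hx : s.p x e ∈ cj k s.P) : k ∈ nor s.P := by
  have h2 := isPGroup_cj k h.P_two
  have hT : cj k s.P ≤ s.M := fun g hg =>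
    have := cj_le_of_le_of_mem (fun _ => h.P_cenZ) hk hg
    ⟨this, crz h c this dv (cm_cj' h hk le_rfl hg hx)⟩
  refine mem_normalizer_of_cj_le (le_P h c hT h2 fun σ hσ => by_contra fun n => ?_)
  have el := el_cj h c a.toAF₁ hk le_rfl
  have h1 := cnt h c a.toAF₁ hT h2 (Z_cj hk h.Z_le_P)
  have h3 := vec_fix h c a.toAF₁ hk le_rfl
  have h4 := AddSubgroup.card_le_of_le (h3.trans (fix_le a.toAF₁ hσ))
  have h5 := a.rk _ c.img_le el
  rw [card_cj, h.card_P] at h1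
  rw [card_fix1 a.toAF₁ (c.img_le hσ) (el σ hσ) n] at h4
  have h6 := (AddSubgroup.card_le_of_le h3).trans (a.fix4 _ c.img_le el (by nlinarith))
  nlinarith

/-- an element of `M` that is conjugate into `P`, with its fixed space -/
structure St (t : s.M) (k : G) (x : V6) (e : F4) : Prop where
  sq : (t : G) * t ∈ s.Z
  ne : θ t ≠ 1
  hk : k ∈ cen s.Z
  tp : k * t * k⁻¹ = s.p x e
  le : cj k (h.pre (a.fix1 (θ t))) ≤ s.M

theorem cm_fix (t : s.M) (hg : g ∈ h.pre (a.fix1 (θ t))) : g * t * g⁻¹ * (t : G)⁻¹ ∈ s.Z := by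
  obtain ⟨y, hy, e', rfl⟩ := hg
  exact cm_symm ((c.fixes h t).2 hy)

namespace St
variable {h a} {t : s.M} (b : St (θ := θ) h a t k x e)
include b

theorem card : Nat.card (h.vec (cj k (h.pre (a.fix1 (θ t))))) *
    Nat.card (img θ (cj k (h.pre (a.fix1 (θ t))))) = 256 := by
  have := cnt h c a b.le (isPGroup_cj k (h.P_two.to_le (h.pre_le _))) (Z_cj b.hk (h.Z_le_pre _))
  rw [card_cj, h.card_pre, card_fix1 a (c.alt t) (θ_sq h c a t b.sq) b.ne] at this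
  omega

theorem fix : x ∈ a.fixS (img θ (cj k (h.pre (a.fix1 (θ t))))) :=
  mem_fix h c a (e := e) fun _ ⟨_, hq, k1⟩ => k1 ▸ b.tp ▸ cm_cj b.hk (cm_fix h c a t hq)

theorem nm : x ∉ h.vec (cj k (h.pre (a.fix1 (θ t)))) := fun k1 => b.ne (c.θ_P a h t (h.pre_le _
  (conj_mem_cj_iff.1 (b.tp ▸ (h.mem_vec' (Z_cj b.hk (h.Z_le_pre _)) e).1 k1))))

theorem cen_rad (fp : FP (θ t)) (hg : g ∈ h.pre (a.radS (θ t))) : Commute (t : G) g := by
  obtain ⟨_, ⟨y, rfl⟩, e', rfl⟩ := hg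
  exact h.inv_rad t.2.1 b.sq (c.act t) (a.rad _ (c.alt t) (θ_sq h c a t b.sq) fp _ ⟨y, rfl⟩) e'

theorem p4 (fp : FP (θ t)) (hP : cj k (h.pre (a.fix1 (θ t))) ≤ s.P) : False := by
  have q := θ_sq h c a t b.sq
  have le : h.pre (a.radS (θ t)) ≤ h.pre (a.fix1 (θ t)) := fun _ ⟨y, hy, k1⟩ => ⟨y, a.rad_fix q hy, k1⟩
  have h1 := h.card_vec' hP (Z_cj b.hk (h.Z_le_pre _))
  have h2 := h.card_vec' ((cj_mono k le).trans hP) (Z_cj b.hk (h.Z_le_pre _))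
  rw [card_cj, h.card_pre] at h1 h2
  rw [card_fix1 a (c.alt t) q b.ne] at h1
  rw [show Nat.card (a.radS (θ t)) = 16 from (a.fix2 _ (c.alt t) q b.ne).2] at h2
  have h3 : h.vec (cj k (h.pre (a.fix1 (θ t)))) ≤ perpS (h.vec (cj k (h.pre (a.radS (θ t))))) := by
    rintro y ⟨e', _, ⟨y1, k1, e1, rfl⟩, k2⟩
    refine perp_cj h ?_ k2
    rintro _ ⟨y2, k3, e2, rfl⟩
    exact (h.p_comm.2 (a.rad_perp k3 k1)).symm
  have h4 := two_mul_le h3 (perp_cj h (fun _ => b.cen_rad c fp) b.tp) (b.nm c)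
  have h5 : Nat.card (perpS (h.vec (cj k (h.pre (a.radS (θ t)))))) ≤ 256 := a.p4 _ (by omega)
  omega

end St

omit a

theorem wk (a : AF) {d : G} (hd : d ∈ s.M) (hD : s.Dr d) : d ∈ s.P := by
  obtain ⟨g, hg, rfl⟩ := hD
  have hk := inv_mem hg
  have sq : g * s.r 1 * g⁻¹ * (g * s.r 1 * g⁻¹) ∈ s.Z := by rw [conj_mul, h.r_sq]; simp
  have dv : DV er := a.dv_r one_ne_zero
  have tp : g⁻¹ * (g * s.r 1 * g⁻¹) * g⁻¹⁻¹ = s.p er 0 := by rw [er, h.p_r]; group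
  by_contra n
  have n1 : g ∉ nor s.P := fun k => n (conj_mem_of_mem_normalizer k (h.p_r 1 ▸ p_mem _ _))
  have b : St (θ := θ) h a.toAF₁ ⟨_, hd⟩ g⁻¹ er 0 :=
    ⟨sq, fun e => n (c.k2 ⟨_, hd⟩ e ⟨2, h.four sq⟩), hk, tp, fun _ ⟨q, hq, k1⟩ => by
      have k2 := cjc hk (h.P_cenZ (h.pre_le _ hq))
      exact k1 ▸ ⟨k2, crz h c k2 dv (tp ▸ cm_cj hk (cm_fix h c a.toAF₁ ⟨_, hd⟩ hq))⟩⟩
  have el := el_cj h c a.toAF₁ hk (h.pre_le (a.fix1 (θ ⟨_, hd⟩)))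
  have h1 := b.card c
  have h2 := vec_fix h c a.toAF₁ hk (h.pre_le (a.fix1 (θ ⟨_, hd⟩)))
  have h3 := two_mul_le h2 (b.fix c) (b.nm c)
  have h4 := a.st1 _ c.img_le el.two er (b.fix c) dv
  have nd : ∀ y, DV y → y ∉ h.vec (cj g⁻¹ (h.pre (a.fix1 (θ ⟨_, hd⟩)))) := fun y hy ⟨e', k1⟩ =>
    n1 (inv_mem_iff.1 (star h c a hk hy (cj_mono _ (h.pre_le _) k1)))
  by_cases n2 : ∀ σ ∈ img θ (cj g⁻¹ (h.pre (a.fix1 (θ ⟨_, hd⟩)))), σ = 1
  · have hP := le_P h c b.le (isPGroup_cj _ (h.P_two.to_le (h.pre_le _))) n2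
    obtain ⟨y, hy, k1⟩ := a.dfix _ (c.alt _) (θ_sq h c a.toAF₁ _ b.sq) fun fp => b.p4 c fp hP
    exact n1 (star h c a hg hy (le_cj_iff.2 hP (h.p_mem_pre (e := 0).2 k1)))
  push Not at n2
  obtain ⟨σ, hσ, n2⟩ := n2
  have h5 := b.fix c σ hσ
  have h6 := card_fix1 a.toAF₁ (c.img_le hσ) (el σ hσ) n2
  have h7 := a.fix4 _ c.img_le el
  rcases two_idx (h2.trans (fix_le a.toAF₁ hσ)) (by
    change Nat.card (H88.CG.Fix _) ≥ _ at h3
    generalize Nat.card (img θ _) = m at *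
    interval_cases m <;> omega) h5 (show F4.w • er ∈ a.fix1 σ from (a.smul ..).trans (congrArg _ h5))
    with k1 | k1 | k1
  exacts [nd _ dv k1, nd _ (a.dvs _ _ dv (by decide)) k1,
    nd _ (by simpa [er] using a.dv_r (c := 1 + F4.w) (by decide)) k1]

theorem sh (a : AF) : H21.TE.Sh (cen s.Z) s.Z s.P s.Dr where
  two := h.P_two
  le := fun _ => h.P_cenZ
  vw := h.Z_le_P
  cv := le_rfl
  cm := fun _ ha _ hb => h.P_cm ha hb
  dc := by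
    rintro g hg _ ⟨k, hk, rfl⟩
    exact ⟨g * k, mul_mem hg hk, by group⟩
  gen := fun q hq => by
    obtain ⟨x, e, rfl⟩ := h.mem_P.1 hq
    obtain ⟨y, h1, h2⟩ := a.sum x
    have k : ∀ {y}, DV y → ∀ e, s.p y e ∈ closure {d | d ∈ s.P ∧ s.Dr d} ⊔ s.Z := fun {y} k e =>
      mem_sup_left (subset_closure ⟨p_mem y e, dr c h k e⟩)
    have := mul_mem (k h2 0) (k h1 0)
    rw [h.p_mul, add_assoc x, v_self, add_zero x] at this
    exact (h.mem_vec' le_sup_right e).1 ⟨_, this⟩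
  wk := fun _ hd k => wk h c a hd k

omit h c in
theorem jobW : JobW.{u} := fun _ _ _ _ _ a h c => sh h c a

end H44.CG
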