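import Cfsg.Agent.H44.CkWS

/-! blueprints/C3C6.md, CK-PL: elations of planes and the transvection theorem. -/

set_option autoImplicit false

namespace H44.CK

open Module Submodule H53.CK

universe u v

variable {F : Type u} [Field F] {V : Type v} [AddCommGroup V] [Module F V]
  {G : Subgroup (V ≃ₗ[F] V)}

theorem fix_of_pow {p k : ℕ} [Fact p.Prime] [CharP F p] {g : V ≃ₗ[F] V} (h : g ^ p ^ k = 1) {a : V}
    (ha : g a ∈ F ∙ a) : g a = a := by
  obtain ⟨c, hc⟩ := mem_span_singleton.1 ha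
  have h1 : ∀ n : ℕ, (g ^ n) a = c ^ n • a := fun n => by
    induction n with
    | zero => simp
    | succ n ih => rw [pow_succ', LinearEquiv.mul_apply, ih, map_smul, ← hc, smul_smul, pow_succ]
  have h2 := h1 (p ^ k)
  rw [h, eq_comm, ← sub_eq_zero] at h2
  have h3 : (c - 1) ^ p ^ k • a = 0 := by rw [sub_pow_char_pow, one_pow, sub_smul, one_smul]; exact h2
  rcases smul_eq_zero.1 h3 with e | e
  · rw [← hc, sub_eq_zero.1 (eq_zero_of_pow_eq_zero e), one_smul]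
  · rw [e, map_zero]

theorem tv_of {φ : Dual F V} {z u : V} {g : V ≃ₗ[F] V} (hg : g ∈ G) (hz : φ z = 1)
    (h1 : ∀ v, φ v = 0 → g v = v) (h2 : g z = z + u) : H62.HasTv G φ u :=
  ⟨g, hg, fun v => by
    have := h1 (v - φ v • z) (by simp [hz])
    rw [map_sub, map_smul, h2, sub_eq_iff_eq_add] at this
    rw [this]; module⟩

theorem fix_span {g : V ≃ₗ[F] V} {a b v : V} (ha : g a = a) (hb : g b = b) (hv : v ∈ span F {a, b}) :
    g v = v := by
  obtain ⟨s, t, rfl⟩ := mem_span_pair.1 hv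
  simp [ha, hb]

theorem finrank_pair {a b : V} (h : Ind F a b) : finrank F (span F {a, b}) = 2 := by
  have := finrank_span_eq_card (H62.linearIndependent_pair_of_notMem h.1 h.2)
  rwa [Matrix.range_cons_cons_empty, Fintype.card_fin] at this

variable [Finite F] [FiniteDimensional F V]

theorem cop {a b z : V} (hb : b ∉ F ∙ a)
    (h : ∀ t : F, ∃ g ∈ G, g a ∈ F ∙ a ∧ g b ∈ F ∙ b ∧ g z - z - t • b ∈ F ∙ a) (t : F) :
    ∃ g ∈ G, g a = a ∧ g b = b ∧ g z - z - t • b ∈ F ∙ a := by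
  have := finGL F V
  have := Fintype.ofFinite F
  obtain ⟨p, hp⟩ := CharP.exists F
  obtain ⟨n, hpp, hq⟩ := FiniteField.card F p
  have := Fact.mk hpp
  have hm : ∀ {g : V ≃ₗ[F] V} {a w : V}, g ∈ stab G a → w ∈ F ∙ a → g w ∈ F ∙ a :=
    fun hg hw => hg.2 ▸ mem_map_of_mem hw
  have hm2 : ∀ {g : V ≃ₗ[F] V} {w : V}, g ∈ stab G a ⊓ stab G b → w ∈ (F ∙ a) ⊔ (F ∙ b) →
      g w ∈ (F ∙ a) ⊔ (F ∙ b) := fun hg hw => by
    obtain ⟨x, hx, y, hy, rfl⟩ := mem_sup.1 hw
    rw [map_add]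
    exact add_mem_sup (hm hg.1 hx) (hm hg.2 hy)
  have inv : ∀ (g : V ≃ₗ[F] V) (v : V), g⁻¹ (g v) = v := fun g v => g.symm_apply_apply v
  have inv' : ∀ (g : V ≃ₗ[F] V) (v : V), g (g⁻¹ v) = v := fun g v => g.apply_symm_apply v
  let S : Subgroup (V ≃ₗ[F] V) :=
    { carrier := {g | g ∈ stab G a ⊓ stab G b ∧ g z - z ∈ (F ∙ a) ⊔ (F ∙ b)}
      one_mem' := ⟨one_mem _, by simp⟩
      mul_mem' := fun {g k} hg hk => ⟨mul_mem hg.1 hk.1, by simpa using add_mem (hm2 hg.1 hk.2) hg.2⟩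
      inv_mem' := fun {g} hg => ⟨inv_mem hg.1, by
        have := neg_mem (hm2 (inv_mem hg.1) hg.2)
        rwa [map_sub, inv, neg_sub] at this⟩ }
  let K : Subgroup S :=
    { carrier := {g | g.1 z - z ∈ F ∙ a}
      one_mem' := by simp
      mul_mem' := fun {g k} hg hk => by simpa using add_mem (hm g.2.1.1 hk) hg
      inv_mem' := fun {g} hg => by
        have := neg_mem (hm g⁻¹.2.1.1 hg)
        rwa [map_sub, Subgroup.coe_inv, inv, neg_sub] at this }
  have h' : ∀ t : F, ∃ g : S, g.1 z - z - t • b ∈ F ∙ a := fun t => by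
    obtain ⟨g, hg, h1, h2, h3⟩ := h t
    exact ⟨⟨g, ⟨mem_stab.2 ⟨hg, h1⟩, mem_stab.2 ⟨hg, h2⟩⟩, by
      simpa using add_mem_sup h3 (smul_mem _ t (mem_span_singleton_self b))⟩, h3⟩
  have hK : K.index = (Set.range fun g : S => (F ∙ a).mkQ (g.1 z)).ncard :=
    index_eq_ncard K _ fun g k => by
      rw [eq_comm, mkQ_apply, mkQ_apply, Submodule.Quotient.eq]
      refine ⟨fun h4 => ?_, fun h4 => ?_⟩
      · have := hm g⁻¹.2.1.1 h4
        rwa [map_sub, Subgroup.coe_inv, inv] at this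
      · have := hm g.2.1.1 h4
        rwa [map_sub, Subgroup.coe_mul, Subgroup.coe_inv, LinearEquiv.mul_apply, inv'] at this
  have hr : (Set.range fun g : S => (F ∙ a).mkQ (g.1 z)) =
      Set.range fun t : F => (F ∙ a).mkQ (z + t • b) := by
    ext w
    constructor
    · rintro ⟨g, rfl⟩
      obtain ⟨x, hx, y, hy, e⟩ := mem_sup.1 g.2.2
      obtain ⟨t, rfl⟩ := mem_span_singleton.1 hy
      refine ⟨t, ((Submodule.Quotient.eq _).2 ?_).symm⟩
      rwa [← sub_sub, ← e, add_sub_cancel_right]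
    · rintro ⟨t, rfl⟩
      obtain ⟨g, hg⟩ := h' t
      exact ⟨g, (Submodule.Quotient.eq _).2 (by rwa [← sub_sub])⟩
  rw [hr, Set.ncard_range_of_injective fun s t e => by
    have := (Submodule.Quotient.eq _).1 e
    rw [add_sub_add_left_eq_sub, ← sub_smul] at this
    by_contra h0
    exact hb ((smul_mem_iff _ (sub_ne_zero.2 h0)).1 this), Nat.card_eq_fintype_card, hq] at hK
  obtain ⟨P⟩ := (inferInstance : Nonempty (Sylow p S))
  obtain ⟨g, hg⟩ := h' t
  obtain ⟨k, hk, l, hl, rfl⟩ := exists_of_coprime (P : Subgroup S) K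
    (hK ▸ (hpp.coprime_iff_not_dvd.2 P.not_dvd_index).symm.pow_right _) g
  obtain ⟨j, hj⟩ := P.isPGroup' ⟨k, hk⟩
  have hj' : k.1 ^ p ^ j = 1 := congrArg (fun x : (P : Subgroup S) => x.1.1) hj
  have ka := fix_of_pow hj' (mem_stab.1 k.2.1.1).2
  refine ⟨k, k.2.1.1.1, ka, fix_of_pow hj' (mem_stab.1 k.2.1.2).2, ?_⟩
  have := sub_mem hg (hm k.2.1.1 hl)
  rw [map_sub, Subgroup.coe_mul, LinearEquiv.mul_apply] at this
  convert this using 1
  abel

theorem move (hs : Sc G) (h : T2 G) {a b z : V} (hab : Ind F a b) (hz : z ∉ span F {a, b}) (t : F) :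
    ∃ g ∈ G, g a ∈ F ∙ a ∧ g b ∈ F ∙ b ∧ g z - z - t • b ∈ F ∙ a := by
  have h0 : ∀ v, (F ∙ a).mkQ v = 0 ↔ v ∈ F ∙ a := fun v => Submodule.Quotient.mk_eq_zero _
  have ha := (h0 a).2 (mem_span_singleton_self a)
  obtain ⟨e, ⟨g, hg, h1⟩, h2⟩ := l41 (X := quo (stab G b) (F ∙ a)) ((hs.stab b).quo _)
    (u := (F ∙ a).mkQ b) (fun e => hab.2 ((h0 b).1 e))
    (by
      rintro e ⟨g, hg, h1⟩
      obtain ⟨c, hc⟩ := mem_span_singleton.1 (mem_stab.1 hg).2
      rw [h1, ← hc, map_smul]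
      exact smul_mem _ c (mem_span_singleton_self _))
    (fun φ φ' e1 e2 => by
      obtain ⟨g, hg, c, g1, g2, g3⟩ := h.key hs (φ := φ ∘ₗ (F ∙ a).mkQ) (φ' := φ' ∘ₗ (F ∙ a).mkQ)
        hab.1 hab.1 (by rw [LinearMap.comp_apply, ha, map_zero]) e1
        (by rw [LinearMap.comp_apply, ha, map_zero]) e2
      obtain ⟨e, he, h6⟩ := exists_quo (W := F ∙ a) (X := stab G b)
        (mem_stab.2 ⟨hg, by rw [g2]; exact mem_span_singleton_self b⟩) fun w hw => by
          obtain ⟨s, rfl⟩ := mem_span_singleton.1 hw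
          rw [map_smul, g1]
          exact smul_mem _ _ (smul_mem _ _ (mem_span_singleton_self a))
      refine ⟨e, he, 1, fun v => ?_⟩
      obtain ⟨v, rfl⟩ := (F ∙ a).mkQ_surjective v
      rw [h6, one_mul]
      exact g3 v)
    (y := (F ∙ a).mkQ z) (fun e => hz (by
      obtain ⟨c, hc⟩ := mem_span_singleton.1 e
      rw [← map_smul, ← sub_eq_zero, ← map_sub, h0] at hc
      obtain ⟨d, hd⟩ := mem_span_singleton.1 hc
      exact mem_span_pair.2 ⟨-d, c, by rw [neg_smul, hd]; abel⟩)) t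
  refine ⟨g, hg.1, (h0 _).1 (by rw [← h1, ha, map_zero]), (mem_stab.1 hg).2, (h0 _).1 ?_⟩
  rw [map_sub, map_sub, ← h1, h2, map_smul]
  abel

/-- an additive subgroup that supplements every point of a line contains the line -/
theorem supp_line (T : AddSubgroup V) {x y : V} (hxy : Ind F x y) {l : V}
    (h : ∀ a ∈ span F {x, y}, a ≠ 0 → ∃ c : F, l - c • a ∈ T) : l ∈ T := by
  classical
  have := finV F V
  have := Fintype.ofFinite F
  have := Fintype.ofFinite (V ⧸ T)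
  by_contra hl
  obtain ⟨ψ, hψ⟩ := (AddChar.exists_apply_ne_zero (a := (l : V ⧸ T))).2
    fun e => hl ((QuotientAddGroup.eq_zero_iff l).1 e)
  obtain ⟨s, t, ne, e⟩ := Fintype.exists_ne_map_eq_of_card_lt (fun s : F × F =>
    ψ.compAddMonoidHom ((QuotientAddGroup.mk' T).comp
      (LinearMap.toSpanSingleton F V (s.1 • x + s.2 • y)).toAddMonoidHom)) (by
    rw [AddChar.card_eq, Fintype.card_prod]
    have := Fintype.one_lt_card (α := F)
    nlinarith)
  obtain ⟨c, hc⟩ := h ((s.1 - t.1) • x + (s.2 - t.2) • y) (mem_span_pair.2 ⟨_, _, rfl⟩) fun e0 => by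
    have := LinearIndependent.pair_iff.1 (H62.linearIndependent_pair_of_notMem hxy.1 hxy.2) _ _ e0
    exact ne (Prod.ext (sub_eq_zero.1 this.1) (sub_eq_zero.1 this.2))
  have e1 : ψ ((c • (s.1 • x + s.2 • y) : V) : V ⧸ T) = ψ ((c • (t.1 • x + t.2 • y) : V) : V ⧸ T) :=
    DFunLike.congr_fun e c
  have e2 : ((c • (s.1 • x + s.2 • y) : V) : V ⧸ T) = (l : V ⧸ T) + (c • (t.1 • x + t.2 • y) : V) := by
    rw [← QuotientAddGroup.mk_add, QuotientAddGroup.eq]
    convert hc using 1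
    module
  rw [e2, AddChar.map_add_eq_mul] at e1
  exact hψ (mul_right_cancel₀ (ψ.val_isUnit _).ne_zero (e1.trans (one_mul _).symm))

theorem pl (hs : Sc G) (h : T2 G) : PL G := fun x y z hz a b => by
  let T : AddSubgroup V :=
    { carrier := {l | l ∈ span F {x, y} ∧ ∃ g ∈ G, g x = x ∧ g y = y ∧ g z = z + l}
      zero_mem' := ⟨zero_mem _, 1, G.one_mem, rfl, rfl, by simp⟩
      add_mem' := by
        rintro l l' ⟨hl, g, hg, g1, g2, g3⟩ ⟨hl', k, hk, k1, k2, k3⟩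
        exact ⟨add_mem hl hl', g * k, G.mul_mem hg hk, by simp [g1, k1], by simp [g2, k2], by
          rw [LinearEquiv.mul_apply, k3, map_add, g3, fix_span g1 g2 hl', add_assoc]⟩
      neg_mem' := by
        rintro l ⟨hl, g, hg, g1, g2, g3⟩
        refine ⟨neg_mem hl, g⁻¹, G.inv_mem hg, g.symm_apply_eq.2 g1.symm, g.symm_apply_eq.2 g2.symm,
          g.symm_apply_eq.2 ?_⟩
        rw [map_add, g3, fix_span g1 g2 (neg_mem hl), add_neg_cancel_right] }
  have hl : a • x + b • y ∈ span F {x, y} := mem_span_pair.2 ⟨_, _, rfl⟩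
  obtain ⟨-, g, hg, g1, g2, g3⟩ := supp_line T hz.1 (l := a • x + b • y) fun u hu u0 => by
    obtain ⟨w, hw, hw'⟩ := H62.exists_mem_notMem (W := span F {x, y}) (Z := F ∙ u) (by
      rw [finrank_pair hz.1, finrank_span_singleton u0]; norm_num)
    have e : span F {u, w} = span F {x, y} := eq_of_le_of_finrank_eq
      (span_le.2 (Set.insert_subset hu (Set.singleton_subset_iff.2 hw)))
      (by rw [finrank_pair hz.1, finrank_pair ⟨u0, hw'⟩])
    obtain ⟨s, t, e1⟩ := mem_span_pair.1 (e ▸ hl)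
    obtain ⟨g, hg, g1, g2, g3⟩ := cop hw' (move hs h ⟨u0, hw'⟩ (e ▸ hz.2)) t
    obtain ⟨c, hc⟩ := mem_span_singleton.1 g3
    refine ⟨s - c, sub_mem hl (smul_mem _ _ hu), g, hg, fix_span g1 g2 (e ▸ subset_span (by simp)),
      fix_span g1 g2 (e ▸ subset_span (by simp)), ?_⟩
    rw [← e1, sub_smul, hc]
    abel
  exact ⟨g, hg, g1, g2, by rw [g3, add_assoc]⟩

theorem tv_small (hs : Sc G) (h : T2 G) {φ : Dual F V} {u : V} (φ0 : φ ≠ 0) (u0 : u ≠ 0)
    (hu : φ u = 0) (hk : ∀ y, φ y = 0 → y ∈ F ∙ u) : H62.HasTv G φ u := by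
  obtain ⟨z, hz⟩ := exists_one φ0
  have ind : ∀ w, φ w = 1 → Ind F u w := fun w hw => ⟨u0, fun e => by
    obtain ⟨c, rfl⟩ := mem_span_singleton.1 e
    simp [hu] at hw⟩
  obtain ⟨g, hg, -, g2, g3⟩ := cop (G := G) (a := 0) (b := u) (z := z) (by simpa) (fun t => by
    obtain ⟨g, hg, c, -, g1, g2⟩ := h.pair hs (ind z hz) (ind (z + t • u) (by simp [hz, hu]))
    exact ⟨g, hg, by simp, g1 ▸ smul_mem _ c (mem_span_singleton_self u), by simp [g2]⟩) 1
  refine tv_of hg hz (fun v hv => ?_) ?_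
  · obtain ⟨c, rfl⟩ := mem_span_singleton.1 (hk v hv)
    rw [map_smul, g2]
  · simpa [sub_sub, sub_eq_zero] using g3

theorem jobPL : JobPL.{u, v} := by
  intro _ F _ _ V _ _ _ G hs h
  have red : (∀ (φ : Dual F V) u y, φ ≠ 0 → φ u = 0 → φ y = 0 → Ind F u y → H62.HasTv G φ u) →
      AllTv G := fun H φ u hu => by
    by_cases φ0 : φ = 0
    · exact φ0 ▸ H62.HasTv.zero_left G u
    by_cases u0 : u = 0
    · exact u0 ▸ H62.HasTv.zero_right G φ
    by_cases hk : ∀ y, φ y = 0 → y ∈ F ∙ u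
    · exact tv_small hs h φ0 u0 hu hk
    push Not at hk
    obtain ⟨y, h1, h2⟩ := hk
    exact H φ u y φ0 hu h1 ⟨u0, h2⟩
  refine ⟨pl hs h, fun hn => red fun φ u y φ0 hu hy hi => ?_,
    fun ⟨φ1, u1, a1, a2, a3, a4⟩ => red fun φ u y φ0 hu hy hi => ?_⟩
  · obtain ⟨z, hz⟩ := exists_one φ0
    have e : span F {u, y} = LinearMap.ker φ := eq_of_le_of_finrank_le
      (span_le.2 (Set.insert_subset hu (Set.singleton_subset_iff.2 hy))) (by
        have := Module.Dual.finrank_ker_add_one_of_ne_zero φ0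
        rw [finrank_pair hi]; omega)
    obtain ⟨g, hg, g1, g2, g3⟩ := pl hs h u y z ⟨hi, fun h => by simp [e, hz] at h⟩ 1 0
    exact tv_of hg hz (fun v hv => fix_span g1 g2 (e ▸ hv)) (by simpa using g3)
  · let T : AddSubgroup V :=
      { carrier := {w | φ w = 0 ∧ H62.HasTv G φ w}
        zero_mem' := ⟨map_zero _, H62.HasTv.zero_right G φ⟩
        add_mem' := fun ha hb => ⟨by rw [map_add, ha.1, hb.1, add_zero], ha.2.add_right hb.2 hb.1⟩
        neg_mem' := fun ha => ⟨by rw [map_neg, ha.1, neg_zero], ha.2.neg_right ha.1⟩ }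
    refine (addSub (LinearMap.ker φ) T (r := {c : F | H62.HasTv G φ1 (c • u1)}.ncard)
      ((Set.one_lt_ncard (Set.toFinite _)).2 ⟨0, by simpa using H62.HasTv.zero_right G φ1, 1,
        by simpa using a4, zero_ne_one⟩) hu hy hi (fun a ha a0 => ?_) hu).2
    obtain ⟨g, hg, c, g1, g2⟩ := h.flag hs a0 a2 φ0 a1 ha a3
    have c0 : c ≠ 0 := fun e => a0 (g.injective (by rw [g1, e, zero_smul, map_zero]))
    rw [← Set.ncard_image_of_injective _ (mul_left_injective₀ c0)]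
    congr 1
    ext d
    refine ⟨?_, fun hd => ⟨d * c⁻¹, ⟨by simp [show φ a = 0 from ha], ?_⟩, by simp [c0]⟩⟩
    · rintro ⟨d, hd, rfl⟩
      simpa [g1, mul_smul] using hd.2.conj' hg g2
    · have := H62.HasTv.conj' (G.inv_mem hg) hd (ψ := φ) fun x => by simp [← g2]
      convert this using 1
      refine (g.symm_apply_eq.2 ?_).symm
      rw [map_smul, g1, smul_smul, inv_mul_cancel_right₀ c0]

end H44.CK
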