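import Cfsg.Agent.H53.CKBase

/-! blueprints/C3C6.md, CK-WS: the subspaces `W x` of an antiflag transitive group. -/

set_option autoImplicit false

namespace H44.CK

open Module Submodule H53.CK

universe u v

variable {F : Type u} [Field F] {V : Type v} [AddCommGroup V] [Module F V]
  {X : Subgroup (V ≃ₗ[F] V)}

/-- `WS` without `add` -/
structure WS0 (X : Subgroup (V ≃ₗ[F] V)) where
  W : V → Submodule F V
  zero : W 0 = ⊥
  self : ∀ x, x ∈ W x
  smul : ∀ (c : F) x, c ≠ 0 → W (c • x) = W x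
  symm : ∀ x y, y ≠ 0 → y ∈ W x → x ∈ W y
  map : ∀ g ∈ X, ∀ x y, y ∈ W x → g y ∈ W (g x)
  nt : ∀ x, x ≠ 0 → ∃ y ∈ W x, y ∉ F ∙ x
  key : ∀ (x y x' y' : V) (φ φ' : Dual F V), x ≠ 0 → x' ≠ 0 → y ∈ W x → y' ∈ W x' → φ x = 0 →
    φ y = 1 → φ' x' = 0 → φ' y' = 1 →
    ∃ g ∈ X, ∃ c : F, g x = c • x' ∧ g y = y' ∧ ∀ v, φ' (g v) = φ v

/-- the orbit of the pair of points `x0, y0` modulo the first one -/
def R (X : Subgroup (V ≃ₗ[F] V)) (x0 y0 x y : V) : Prop :=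
  ∃ g ∈ X, ∃ c : F, c ≠ 0 ∧ ∃ a : F, g x0 = x ∧ y = c • g y0 + a • x

variable {x0 y0 x y : V}

theorem R.map (h : R X x0 y0 x y) {g : V ≃ₗ[F] V} (hg : g ∈ X) : R X x0 y0 (g x) (g y) := by
  obtain ⟨k, hk, c, hc, a, rfl, rfl⟩ := h
  exact ⟨g * k, X.mul_mem hg hk, c, hc, a, rfl, by simp⟩

theorem R.lin (h : R X x0 y0 x y) {c : F} (hc : c ≠ 0) (a : F) : R X x0 y0 x (c • y + a • x) := by
  obtain ⟨k, hk, d, hd, b, rfl, rfl⟩ := h
  exact ⟨k, hk, c * d, mul_ne_zero hc hd, c * b + a, rfl, by module⟩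

theorem R.smul_right (h : R X x0 y0 x y) {c : F} (hc : c ≠ 0) : R X x0 y0 x (c • y) := by
  simpa using h.lin hc 0

theorem R.smul_left (hs : Sc X) (h : R X x0 y0 x y) {c : F} (hc : c ≠ 0) :
    R X x0 y0 (c • x) y := by
  obtain ⟨g, hg, hv⟩ := hs c hc
  have := (h.map hg).smul_right (inv_ne_zero hc)
  rwa [hv, hv, inv_smul_smul₀ hc] at this

theorem R.ind (h0 : Ind F x0 y0) (h : R X x0 y0 x y) : Ind F x y := by
  obtain ⟨k, -, d, hd, b, rfl, rfl⟩ := h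
  refine ⟨(h0.map k).1, fun h => (h0.map k).2 ?_⟩
  rwa [Submodule.add_mem_iff_left _ (smul_mem _ b (mem_span_singleton_self _)), smul_mem_iff _ hd] at h

theorem ne_zero_of_one {φ : Dual F V} (h : φ x = 1) : x ≠ 0 := fun h0 => by simp [h0] at h

theorem exists_one {φ : Dual F V} (h : φ ≠ 0) : ∃ x, φ x = 1 := by
  obtain ⟨x, hx⟩ := DFunLike.ne_iff.1 h
  exact ⟨(φ x)⁻¹ • x, by rw [map_smul, smul_eq_mul, inv_mul_cancel₀ hx]⟩

variable [Finite F] [FiniteDimensional F V]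

theorem base (hs : Sc X) (h : AF X) (hn : 2 ≤ finrank F V) : ∃ (x0 y0 : V) (φ0 : Dual F V),
    φ0 x0 = 1 ∧ φ0 y0 = 0 ∧ Ind F x0 y0 ∧ ∀ ψ : Dual F V, ψ x0 = 1 → ∃ k ∈ X, ∃ d b : F, d ≠ 0 ∧
      k x0 = x0 ∧ k y0 = d • y0 + b • x0 ∧ ∀ v, ψ (k v) = φ0 v := by
  have := finGL F V
  have := Fintype.ofFinite F
  obtain ⟨p, hp⟩ := CharP.exists F
  obtain ⟨n, hpp, hq⟩ := FiniteField.card F p
  have := Fact.mk hpp
  have : Nontrivial V := finrank_pos_iff.1 (show 0 < finrank F V by omega)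
  obtain ⟨x0, hx⟩ := exists_ne (0 : V)
  obtain ⟨y, hy⟩ := exists_ind hn hx
  have hm : ∀ a : stab X x0, ∀ w ∈ F ∙ x0, a.1 w ∈ F ∙ x0 := fun a w hw =>
    a.2.2 ▸ mem_map_of_mem hw
  let _ : MulAction (stab X x0) (V ⧸ F ∙ x0) :=
    { smul := fun a => (F ∙ x0).mapQ (F ∙ x0) (a.1 : V →ₗ[F] V) (hm a)
      one_smul := fun b => by
        obtain ⟨v, rfl⟩ := (F ∙ x0).mkQ_surjective b
        rfl
      mul_smul := fun a a' b => by
        obtain ⟨v, rfl⟩ := (F ∙ x0).mkQ_surjective b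
        rfl }
  have := finV F (V ⧸ F ∙ x0)
  have : Nontrivial (V ⧸ F ∙ x0) :=
    ⟨(F ∙ x0).mkQ y, 0, fun h0 => hy.2 ((Submodule.Quotient.mk_eq_zero _).1 h0)⟩
  obtain ⟨P⟩ := (inferInstance : Nonempty (Sylow p (stab X x0)))
  obtain ⟨b, hb, b0⟩ := P.isPGroup'.exists_fixed_point_of_prime_dvd_card_of_fixed_point
    (V ⧸ F ∙ x0) (a := 0) (by
      rw [Module.natCard_eq_pow_finrank (K := F), Nat.card_eq_fintype_card, hq, ← pow_mul]
      exact dvd_pow_self p (mul_ne_zero n.ne_zero finrank_pos.ne'))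
    fun a => map_zero ((F ∙ x0).mapQ (F ∙ x0) (a.1.1 : V →ₗ[F] V) (hm a.1))
  obtain ⟨y0, rfl⟩ := (F ∙ x0).mkQ_surjective b
  have h0 : Ind F x0 y0 := ⟨hx, fun h => b0 ((Submodule.Quotient.mk_eq_zero _).2 h).symm⟩
  obtain ⟨φ0, h1, h2⟩ := H62.exists_dual_pair h0.symm.2
  refine ⟨x0, y0, φ0, h1, h2, h0, fun ψ hψ => ?_⟩
  obtain ⟨g, hg, g1, g2⟩ := h x0 x0 φ0 ψ h1 hψ
  have hg' : g ∈ stab X x0 := mem_stab.2 ⟨hg, by rw [g1]; exact mem_span_singleton_self x0⟩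
  obtain ⟨a, c, hc, a1, a2, a3⟩ := h.coprime h1 (P : Subgroup (stab X x0)) (by
    rw [Nat.card_eq_fintype_card, hq]
    exact ((hpp.coprime_iff_not_dvd.2 P.not_dvd_index).symm.pow_right _)) (⟨g, hg'⟩⁻¹)
  rw [← mul_inv_rev, inv_mem_iff] at a3
  obtain ⟨t, ht⟩ := mem_span_singleton.1 ((Submodule.Quotient.eq _).1 (hb ⟨_, a3⟩))
  change t • x0 = g (a.1 y0) - y0 at ht
  obtain ⟨s, hs1, hv⟩ := hs c⁻¹ (inv_ne_zero hc)
  refine ⟨s * (g * a.1), X.mul_mem hs1 (X.mul_mem hg a.2.1), c⁻¹, c⁻¹ * t, inv_ne_zero hc,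
    by simp [hv, a1, g1, hc], ?_, fun v => by simp [hv, g2, a2, hc]⟩
  rw [LinearEquiv.mul_apply, LinearEquiv.mul_apply, hv, mul_smul, ht]
  module

theorem swap (hs : Sc X) (h : AF X) (hxy : Ind F x y) :
    ∃ g ∈ X, ∃ c : F, c ≠ 0 ∧ g x ∈ F ∙ y ∧ g y = c • x := by
  have h1 : Ind F (x + y) x := Ind.symm ⟨hxy.1, fun h => hxy.2
    ((Submodule.add_mem_iff_right _ (mem_span_singleton_self x)).1 h)⟩
  obtain ⟨g, hg, g1, g2⟩ := h.l41 hs h1 (-1)
  obtain ⟨c, hc⟩ := mem_span_singleton.1 g1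
  have c0 : c ≠ 0 := fun h0 => h1.1 (g.injective (by rw [← hc, h0, zero_smul, map_zero]))
  have g3 : g x = -y := by rw [g2]; module
  have g4 : g y = c • x + (c + 1) • y := by
    rw [show y = x + y - x by abel, map_sub, ← hc, g3]; module
  obtain ⟨k, hk, k1, k2⟩ := h.l41 hs (u := y) (y := g y) ⟨hxy.symm.1, fun h => hxy.symm.2 (by
    rwa [g4, Submodule.add_mem_iff_left _ (smul_mem _ _ (mem_span_singleton_self _)), smul_mem_iff _ c0]
      at h)⟩ (-(c + 1))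
  refine ⟨k * g, X.mul_mem hk hg, c, c0, ?_, ?_⟩
  · rw [LinearEquiv.mul_apply, g3, map_neg]; exact neg_mem k1
  · rw [LinearEquiv.mul_apply, k2, g4]; module

theorem ws0 (hs : Sc X) (h : AF X) (hn : 2 ≤ finrank F V) : Nonempty (WS0 X) := by
  obtain ⟨x0, y0, φ0, h1, h2, h0, hb⟩ := base hs h hn
  have hN : ∀ x y (φ : Dual F V), R X x0 y0 x y → φ x = 1 → φ y = 0 →
      ∃ k ∈ X, ∃ c : F, c ≠ 0 ∧ k x0 = x ∧ y = c • k y0 ∧ ∀ v, φ (k v) = φ0 v := by
    rintro _ _ φ ⟨g, hg, c, hc, a, rfl, rfl⟩ e1 e2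
    obtain ⟨k, hk, d, b, hd, k1, k2, k3⟩ := hb (φ ∘ₗ (g : V →ₗ[F] V)) e1
    have k4 : d * φ (g y0) + b = 0 := by simpa [k2, e1, h2] using k3 y0
    have k5 : c * φ (g y0) + a = 0 := by simpa [e1] using e2
    refine ⟨g * k, X.mul_mem hg hk, c / d, div_ne_zero hc hd, by simp [k1], ?_, k3⟩
    rw [LinearEquiv.mul_apply, k2, map_add, map_smul, map_smul, smul_add, smul_smul, smul_smul,
      div_mul_cancel₀ _ hd]
    congr 2
    field_simp
    linear_combination d * k5 - c * k4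
  have r0 : R X x0 y0 x0 y0 := ⟨1, X.one_mem, 1, one_ne_zero, 0, rfl, by simp⟩
  have hex : ∀ x, x ≠ 0 → ∃ y, R X x0 y0 x y := fun x hx => by
    obtain ⟨φ, e⟩ := H62.exists_dual_of_ne_zero (F := F) hx
    obtain ⟨g, hg, rfl, -⟩ := h x0 x φ0 φ h1 e
    exact ⟨_, r0.map hg⟩
  have hsym : ∀ x y, R X x0 y0 x y → R X x0 y0 y x := fun x y r => by
    obtain ⟨g, hg, c, hc, g1, g2⟩ := swap hs h h0
    obtain ⟨d, hd⟩ := mem_span_singleton.1 g1
    have d0 : d ≠ 0 := fun e => h0.1 (g.injective (by rw [← hd, e, zero_smul, map_zero]))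
    have r1 := ((r0.map hg).smul_left hs (inv_ne_zero d0)).smul_right (inv_ne_zero hc)
    rw [← hd, g2, inv_smul_smul₀ d0, inv_smul_smul₀ hc] at r1
    obtain ⟨φ, e1, e2⟩ := H62.exists_dual_pair (r.ind h0).symm.2
    obtain ⟨k, hk, a, ha, rfl, rfl, -⟩ := hN x y φ r e1 e2
    exact (r1.map hk).smul_left hs ha
  have hkey : ∀ (x y x' y' : V) (φ φ' : Dual F V), R X x0 y0 x y → R X x0 y0 x' y' → φ x = 0 →
      φ y = 1 → φ' x' = 0 → φ' y' = 1 →
      ∃ g ∈ X, ∃ c : F, g x = c • x' ∧ g y = y' ∧ ∀ v, φ' (g v) = φ v := by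
    intro x y x' y' φ φ' r r' e1 e2 e3 e4
    obtain ⟨k, hk, c, -, rfl, rfl, k1⟩ := hN y x φ (hsym _ _ r) e2 e1
    obtain ⟨k', hk', c', hc', rfl, rfl, k2⟩ := hN y' x' φ' (hsym _ _ r') e4 e3
    refine ⟨k' * k⁻¹, X.mul_mem hk' (X.inv_mem hk), c / c', ?_, by simp, fun v => ?_⟩
    · simp [smul_smul, hc']
    · simp [k2, ← k1]
  let W : V → Submodule F V := fun x => span F {y | R X x0 y0 x y}
  have self : ∀ x, x ∈ W x := fun x => by
    by_cases hx : x = 0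
    · rw [hx]; exact zero_mem _
    obtain ⟨y, r⟩ := hex x hx
    have := sub_mem (subset_span (r.lin one_ne_zero 1) : _ ∈ W x) (subset_span r : y ∈ W x)
    simpa using this
  have smul : ∀ (c : F) x, c ≠ 0 → W (c • x) = W x := fun c x hc => congrArg (span F)
    (Set.ext fun y => ⟨fun r => by simpa [hc] using R.smul_left hs r (inv_ne_zero hc),
      fun r => R.smul_left hs r hc⟩)
  have map : ∀ g ∈ X, ∀ x y, y ∈ W x → g y ∈ W (g x) := fun g hg x y hy =>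
    (span_le.2 fun z r => subset_span (R.map r hg) :
      W x ≤ (W (g x)).comap (g : V →ₗ[F] V)) hy
  have hd : ∀ x y, x ≠ 0 → y ∈ W x → y ∉ F ∙ x → R X x0 y0 x y := fun x y hx hy hyx => by
    obtain ⟨y1, r1⟩ := hex x hx
    let L : Submodule F (W x) := F ∙ (⟨x, self x⟩ : W x)
    have hL : ∀ w : W x, L.mkQ w = 0 ↔ (w : V) ∈ F ∙ x := fun w => by
      rw [mkQ_apply, Submodule.Quotient.mk_eq_zero, mem_span_singleton, mem_span_singleton]
      simp only [Subtype.ext_iff, SetLike.mk_smul_mk]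
    have ext : ∀ φ : Dual F (W x ⧸ L), φ ≠ 0 → ∃ θ : Dual F V, ∃ z, R X x0 y0 x z ∧ θ x = 0 ∧
        θ z = 1 ∧ ∀ w : W x, θ w = φ (L.mkQ w) := fun φ φ0 => by
      obtain ⟨θ, e⟩ := Subspace.dualRestrict_surjective (φ ∘ₗ L.mkQ)
      have e' : ∀ w : W x, θ w = φ (L.mkQ w) := fun w => congrArg (· w) e
      obtain ⟨z, r, hz⟩ : ∃ z, R X x0 y0 x z ∧ θ z ≠ 0 := by
        by_contra! hc
        refine φ0 (LinearMap.ext fun b => ?_)
        obtain ⟨w, rfl⟩ := L.mkQ_surjective b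
        rw [← e']
        exact (span_le.2 hc : W x ≤ LinearMap.ker θ) w.2
      refine ⟨θ, _, r.smul_right (inv_ne_zero hz), ?_, by simp [hz], e'⟩
      rw [e' ⟨x, self x⟩, (hL _).2 (mem_span_singleton_self x), map_zero]
    obtain ⟨e, ⟨e1, ⟨g, hg, g1⟩, g2⟩, g3⟩ := trans_of_dual (X := quo (res X (W x)) L)
      (fun φ φ' φ0 φ0' => by
        obtain ⟨θ, z, r, a1, a2, a3⟩ := ext φ φ0
        obtain ⟨θ', z', r', b1, b2, b3⟩ := ext φ' φ0'
        obtain ⟨g, hg, c, c1, -, c3⟩ := hkey x z x z' θ θ' r r' a1 a2 b1 b2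
        have c0 : c ≠ 0 := fun e => hx (g.injective (by rw [c1, e, zero_smul, map_zero]))
        obtain ⟨e1, he1, d1⟩ := exists_res (W := W x) hg fun w hw => by
          have := map g hg x w hw
          rwa [c1, smul c x c0] at this
        obtain ⟨e, he, d2⟩ := exists_quo (W := L) he1 fun w hw => by
          obtain ⟨a, rfl⟩ := mem_span_singleton.1 hw
          exact mem_span_singleton.2 ⟨a * c, Subtype.ext (by simp [d1, c1, mul_smul])⟩
        refine ⟨e, he, fun b => ?_⟩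
        obtain ⟨w, rfl⟩ := L.mkQ_surjective b
        rw [d2, ← b3, d1, c3, a3])
      (v := L.mkQ ⟨y1, subset_span r1⟩) (w := L.mkQ ⟨y, hy⟩)
      (fun e => (r1.ind h0).2 ((hL _).1 e)) fun e => hyx ((hL _).1 e)
    obtain ⟨c, hc⟩ := mem_span_singleton.1 ((hL (e1 ⟨x, self x⟩)).1 (by
      rw [← g2, (hL _).2 (mem_span_singleton_self x), map_zero]))
    obtain ⟨a, ha⟩ := mem_span_singleton.1 ((hL (⟨y, hy⟩ - e1 ⟨y1, subset_span r1⟩)).1 (by
      rw [map_sub, ← g2, g3, sub_self]))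
    rw [← g1] at hc
    rw [AddSubgroupClass.coe_sub, ← g1] at ha
    have c0 : c ≠ 0 := fun e => hx (g.injective (by
      rw [map_zero]; exact hc.symm.trans (by rw [e, zero_smul])))
    have r2 := ((r1.map hg).smul_left hs (inv_ne_zero c0))
    rw [show g x = c • x from hc.symm, inv_smul_smul₀ c0] at r2
    have := r2.lin one_ne_zero a
    rwa [one_smul, ha, add_sub_cancel] at this
  refine ⟨⟨W, span_eq_bot.2 fun y r => ((R.ind h0 r).1 rfl).elim, self, smul,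
    fun x y y0 hy => ?_, map, fun x hx => ?_, fun x y x' y' φ φ' hx hx' hy hy' e1 e2 e3 e4 => ?_⟩⟩
  · by_cases hx : x = 0
    · rw [hx]; exact zero_mem _
    by_cases hyx : y ∈ F ∙ x
    · obtain ⟨c, rfl⟩ := mem_span_singleton.1 hyx
      rw [smul c x (left_ne_zero_of_smul y0)]; exact self x
    · exact subset_span (hsym _ _ (hd x y hx hy hyx))
  · obtain ⟨y, r⟩ := hex x hx
    exact ⟨y, subset_span r, (r.ind h0).2⟩
  · have k : ∀ {x y : V} {φ : Dual F V}, φ x = 0 → φ y = 1 → y ∉ F ∙ x := fun a b c => by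
      obtain ⟨c, rfl⟩ := mem_span_singleton.1 c
      simp [a] at b
    exact hkey x y x' y' φ φ' (hd x y hx hy (k e1 e2)) (hd x' y' hx' hy' (k e3 e4)) e1 e2 e3 e4

omit [Finite F] in
theorem af_dua (h : AF X) : AF (dua X) := fun φ φ' ξ ξ' h1 h2 => by
  obtain ⟨x, rfl⟩ := (evalEquiv F V).surjective ξ
  obtain ⟨x', rfl⟩ := (evalEquiv F V).surjective ξ'
  obtain ⟨g, hg, g1, g2⟩ := h x' x φ' φ h2 h1
  obtain ⟨e, he, hv⟩ := exists_dua hg
  exact ⟨e, he, LinearMap.ext fun v => (hv φ v).trans (g2 v), fun χ => (hv χ x').trans (by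
    rw [g1]; rfl)⟩

omit [Finite F] [FiniteDimensional F V] in
theorem WS0.le_ker (S : WS0 X) {g : V ≃ₗ[F] V} (hg : g ∈ X) {φ φ' : Dual F V}
    (h : ∀ v, φ' v = 0 → φ (g v) = 0) (hy : S.W y ≤ LinearMap.ker φ') :
    S.W (g y) ≤ LinearMap.ker φ := fun v hv => by
  have := h _ (hy (by simpa using S.map g⁻¹ (X.inv_mem hg) _ _ hv : g.symm v ∈ S.W y))
  simpa using this

theorem exists_good (S : WS0 X) (S' : WS0 (dua X)) (hn : 2 ≤ finrank F V) :
    ∃ φ : Dual F V, φ ≠ 0 ∧ ∃ y, φ y = 0 ∧ (∃ ψ ∈ S'.W φ, ψ y ≠ 0) ∧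
      ¬ S.W y ≤ LinearMap.ker φ := by
  classical
  by_contra! hc
  have := finV F V
  have := finV F (Dual F V)
  have := Fintype.ofFinite V
  have := Fintype.ofFinite (Dual F V)
  have q1 : 0 < Nat.card F := Nat.card_pos
  have cV : Fintype.card (Dual F V) = Fintype.card V := by
    rw [← Nat.card_eq_fintype_card, ← Nat.card_eq_fintype_card,
      Module.natCard_eq_pow_finrank (K := F), Module.natCard_eq_pow_finrank (K := F) (V := V),
      Subspace.dual_finrank_eq]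
  have : Nontrivial V := finrank_pos_iff.1 (show 0 < finrank F V by omega)
  have c1 := Fintype.one_lt_card (α := V)
  have hm : 0 < Nat.card F ^ (finrank F V - 2) := pow_pos q1 _
  have := Finset.card_mul_le_card_mul (s := Finset.univ.erase (0 : Dual F V))
    (t := Finset.univ.erase (0 : V)) (fun φ y => S.W y ≤ LinearMap.ker φ)
    (m := Nat.card F ^ (finrank F V - 2)) (n := Nat.card F ^ (finrank F V - 2) - 1)
    (fun φ hφ => ?_) fun y hy => ?_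
  · rw [Finset.card_erase_of_mem (Finset.mem_univ _), Finset.card_erase_of_mem (Finset.mem_univ _),
      Finset.card_univ, Finset.card_univ, cV] at this
    have := Nat.le_of_mul_le_mul_left this (by omega)
    omega
  · have φ0 := Finset.ne_of_mem_erase hφ
    obtain ⟨ψ, hψ, hψ'⟩ := S'.nt φ φ0
    obtain ⟨v, v1, v2⟩ : ∃ v, φ v = 0 ∧ ψ v ≠ 0 := by
      by_contra! h
      obtain ⟨c, e⟩ := H62.exists_smul_of_ker_le h
      exact hψ' (mem_span_singleton.2 ⟨c, e.symm⟩)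
    have h1 := H62.finrank_le_finrank_inf_ker_add_one ⊤ φ
    have h2 := H62.finrank_le_finrank_inf_ker_add_one (⊤ ⊓ LinearMap.ker φ) ψ
    rw [finrank_top] at h1
    refine (Nat.pow_le_pow_right q1 (show _ ≤ finrank F
      ↥(⊤ ⊓ LinearMap.ker φ ⊓ LinearMap.ker ψ) by omega)).trans ?_
    rw [← Module.natCard_eq_pow_finrank, ← Nat.card_eq_finsetCard]
    refine Nat.card_le_card_of_injective (fun d => ⟨v + d.1, ?_⟩) fun a b e =>
      Subtype.ext (add_left_cancel (congrArg Subtype.val e))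
    have e1 : φ d.1 = 0 := d.2.1.2
    have e2 : ψ (v + d.1) ≠ 0 := by rwa [map_add, show ψ d.1 = 0 from d.2.2, add_zero]
    rw [Finset.mem_bipartiteAbove]
    exact ⟨Finset.mem_erase.2 ⟨fun e => e2 (by rw [e, map_zero]), Finset.mem_univ _⟩,
      hc φ φ0 _ (by rw [map_add, v1, e1, add_zero]) ⟨ψ, hψ, e2⟩⟩
  · have y0 := Finset.ne_of_mem_erase hy
    obtain ⟨z, hz, hz'⟩ := S.nt y y0
    have h1 : 1 < finrank F (S.W y) := by
      rw [← finrank_span_singleton (K := F) y0]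
      exact finrank_lt_finrank_of_lt (lt_of_le_of_ne ((span_singleton_le_iff_mem _ _).2 (S.self y))
        fun e => hz' (e ▸ hz))
    have h2 := Subspace.finrank_add_finrank_dualAnnihilator_eq (S.W y)
    refine (Finset.card_le_card (t := (Finset.univ.filter (· ∈ (S.W y).dualAnnihilator)).erase 0)
      fun φ hφ => ?_).trans ?_
    · rw [Finset.mem_bipartiteBelow] at hφ
      exact Finset.mem_erase.2 ⟨Finset.ne_of_mem_erase hφ.1, by
        simpa [mem_dualAnnihilator] using fun w hw => hφ.2 hw⟩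
    · rw [Finset.card_erase_of_mem (by simp), ← Fintype.card_subtype, ← Nat.card_eq_fintype_card,
        Module.natCard_eq_pow_finrank (K := F)]
      exact Nat.sub_le_sub_right (Nat.pow_le_pow_right q1 (by omega)) 1

omit [Finite F] in
theorem circ_iff (S : WS0 X) (S' : WS0 (dua X)) {φ : Dual F V} (φ0 : φ ≠ 0) {y1 : V}
    (h1 : φ y1 = 0) (h2 : ∃ ψ ∈ S'.W φ, ψ y1 ≠ 0) (h3 : ¬ S.W y1 ≤ LinearMap.ker φ) (y : V) :
    S.W y ≤ LinearMap.ker φ ↔ ∀ ψ ∈ S'.W φ, ψ y = 0 := by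
  obtain ⟨ψ1, a1, a2⟩ := h2
  refine ⟨fun h ψ hψ => by_contra fun b2 => h3 ?_, fun h => by_contra fun h4 => a2 ?_⟩
  · obtain ⟨e, ⟨g, hg, g1⟩, c, e1, -, e3⟩ := S'.key φ _ φ _ (Dual.eval F V y1) (Dual.eval F V y)
      φ0 φ0 (smul_mem _ (ψ1 y1)⁻¹ a1) (smul_mem _ (ψ y)⁻¹ hψ) h1 (by simp [a2]) (h (S.self y))
      (by simp [b2])
    have : g y = y1 := by
      rw [← sub_eq_zero, ← forall_dual_apply_eq_zero_iff F]
      intro χ
      rw [map_sub, ← g1, sub_eq_zero]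
      exact e3 χ
    rw [← this]
    exact S.le_ker hg (fun v hv => by rw [← g1, e1]; simp [hv]) h
  · have k : ∀ {y : V}, ¬ S.W y ≤ LinearMap.ker φ → y ≠ 0 ∧ ∃ z ∈ S.W y, φ z = 1 := fun {y} h => by
      obtain ⟨z, hz, hz'⟩ := SetLike.not_le_iff_exists.1 h
      exact ⟨fun e => h (by rw [e, S.zero]; exact bot_le), _, smul_mem _ (φ z)⁻¹ hz,
        by rw [map_smul, smul_eq_mul, inv_mul_cancel₀ hz']⟩
    obtain ⟨y0, z, z1, z2⟩ := k h4
    obtain ⟨y0', z', z1', z2'⟩ := k h3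
    obtain ⟨g, hg, c, g1, -, g3⟩ := S.key y1 z' y z φ φ y0' y0 z1' z1 h1 z2' (h φ (S'.self φ)) z2
    obtain ⟨e, he, hv⟩ := exists_dua (X.inv_mem hg)
    have e1 : e φ = φ := LinearMap.ext fun v => by rw [hv, ← g3]; simp
    have := h _ (e1 ▸ S'.map e he φ ψ1 a1)
    have e2 := hv ψ1 (g y1)
    rw [g1, map_smul, this, smul_zero, ← g1] at e2
    simpa using e2.symm

theorem jobWS : JobWS.{u, v} := by
  intro F _ _ V _ _ _ X hs h hn
  obtain ⟨S⟩ := ws0 hs h hn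
  obtain ⟨S'⟩ := ws0 hs.dua (af_dua h) (by rwa [Subspace.dual_finrank_eq])
  obtain ⟨φ, φ0, y1, h1, h2, h3⟩ := exists_good S S' hn
  have key := circ_iff S S' φ0 h1 h2 h3
  refine ⟨⟨S.W, S.zero, S.self, S.smul, S.symm, S.map, S.nt, fun x y v hv => ?_, S.key⟩⟩
  by_contra hc
  obtain ⟨φ', e1, e2⟩ := H62.exists_dual_eq_one hc
  obtain ⟨w, hw⟩ := exists_one φ0
  obtain ⟨g, hg, -, g2⟩ := h v w φ' φ e1 hw
  have k : ∀ z, S.W z ≤ S.W x ⊔ S.W y → ∀ ψ ∈ S'.W φ, ψ (g z) = 0 := fun z hz =>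
    (key _).1 (S.le_ker hg (fun v hv => (g2 v).trans hv) fun v hv => e2 v (hz hv))
  have := (key (g (x + y))).2 (fun ψ hψ => by
    rw [map_add, map_add, k x le_sup_left ψ hψ, k y le_sup_right ψ hψ, add_zero])
    (S.map g hg _ _ hv)
  rw [LinearMap.mem_ker, g2, e1] at this
  exact one_ne_zero this

end H44.CK
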