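import Cfsg.Agent.H48.DP0Spec
import Cfsg.Agent.H96.U2ISpec
import Cfsg.Agent.H48.DP3Kit

/-! # S3275, chapter EP (given U2II): definitions and job statements; proofs in
`blueprints/EP44.md`. -/

set_option autoImplicit false

namespace H44.EP

open Subgroup Cfsg H98 H48.DP H57.DPC H48.DP2
open scoped commutatorElement

universe u

variable {G : Type u} [Group G]

/-- The conclusion of `U2II` for `M`. -/
def TX (M : Subgroup G) : Prop := ∀ (X : Subgroup G) (x : G), x ∈ M → orderOf x = 3 →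
  IsPGroup 2 X → x ∈ No X → ¬ X ≤ M → X ⊓ M = ⊥

/-- `S` has the largest order among the 2-subgroups that lie in two conjugates of `M`. -/
structure Mx (M S : Subgroup G) : Prop where
  le : S ≤ M
  two : IsPGroup 2 S
  nt : S ≠ ⊥
  ex : ∃ g : G, g ∉ M ∧ cj g S ≤ M
  mx : ∀ (X : Subgroup G) (g : G), IsPGroup 2 X → X ≤ M → Nat.card S < Nat.card X →
    cj g X ≤ M → g ∈ M

/-- `S⟨y, t⟩ / S ≅ S₃` is not in `M`. -/
structure Pt (M S : Subgroup G) (y t : G) : Prop where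
  y3 : orderOf y = 3
  yM : y ∉ M
  yS : y ∈ No S
  tM : t ∈ M
  tS : t ∉ S
  tN : t ∈ No S
  t2 : t * t ∈ S
  ty : t * y * t⁻¹ = y⁻¹

/-- The elements of order 3 of `N(S)`. -/
structure Fx (S : Subgroup G) : Prop where
  fpf : ∀ x ∈ No S, orderOf x = 3 → S ⊓ C1 x = ⊥
  big : ∀ x ∈ No S, orderOf x = 3 → ∀ X : Subgroup G, IsPGroup 2 X → S ≤ X → x ∈ No X → X = S
  c3 : C3 (No S)

/-- The Sylow 2-subgroups of `M` are Sylow in `G`, and their normalisers lie in `M`. -/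
def E0 : Prop := ∀ (G : Type u) [Group G] [Finite G] (M Q T : Subgroup G), Uq M Q → IsSyl 2 T M →
  IsSyl 2 T ⊤ ∧ No T ≤ M

def E1 : Prop := ∀ (G : Type u) [Group G] [Finite G] (M Q : Subgroup G), Uq M Q → ∃ S, Mx M S

def E2 : Prop := E0.{u} → ∀ (G : Type u) [Group G] [Finite G] (M Q S : Subgroup G), Uq M Q →
  Mx M S → ∃ y t : G, Pt M S y t

def E3 : Prop := E0.{u} → Home.{u} → H96.U2I.HH.{u} → ∀ (G : Type u) [Group G] [Finite G]
  (M Q S : Subgroup G) (y t : G), Uq M Q → TX M → Mx M S → Pt M S y t → Fx S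

/-- The structure of proper subgroups with cyclic Sylow 3-subgroups. -/
def ST : Prop := ∀ (G : Type u) [Group G] [Finite G], Hyp G → ∀ S N : Subgroup G, N ≠ ⊤ → C3 N →
  IsSyl 2 S N → N ≤ No S ∨ (∃ y a, DT S N y a) ∨ ∃ P R L, H48.DP.LT S P R L ∧ L ≤ N ∧ N ≤ No L

def E5 : Prop := ST.{u} → ∀ (G : Type u) [Group G] [Finite G], Hyp G → ∀ (S X : Subgroup G) (y : G),
  IsPGroup 2 S → S ≠ ⊥ → Fx S → y ∈ No S → orderOf y = 3 → IsPGroup 2 X → X ≤ No S →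
  ∀ a ∈ X, ∀ b ∈ X, a ∉ S → b ∉ S → a * b ∈ S

/-- `N_T(S) = S⟨t⟩` is normalised by `g ∈ T - N(S)`. -/
structure Gr (T S : Subgroup G) (y t g : G) : Prop where
  two : IsPGroup 2 T
  le : S ≤ T
  nt : S ≠ ⊥
  y3 : orderOf y = 3
  yS : y ∈ No S
  fp : H96.U2I.Fp S y
  tT : t ∈ T
  tS : t ∉ S
  tN : t ∈ No S
  ty : t * y * t⁻¹ = y⁻¹
  mul : ∀ a ∈ T ⊓ No S, ∀ b ∈ T ⊓ No S, a ∉ S → b ∉ S → a * b ∈ S
  gT : g ∈ T
  gS : g ∉ No S
  gN : g ∈ No (T ⊓ No S)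
  g2 : g * g ∈ No S

/-- A central element of `S` outside `S^g` that does not commute with `t`. -/
def E6 : Prop := ∀ (G : Type u) [Group G] [Finite G] (T S : Subgroup G) (y t g : G),
  Gr T S y t g → ∃ v ∈ S, v ∈ Ce S ∧ ¬ Commute v t ∧ v ∉ cj g S

def E7 : Prop := ∀ (G : Type u) [Group G] [Finite G] (T S : Subgroup G) (y t g v : G),
  Gr T S y t g → v ∈ S → v ∈ Ce S → ¬ Commute v t → v ∉ cj g S →
  orderOf v = 2 ∧ Nat.card ↥(T ⊓ C1 v) = 4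

def E8 : Prop := ∀ (G : Type u) [Group G] [Finite G] (T : Subgroup G) (v : G), IsSyl 2 T ⊤ →
  v ∈ T → orderOf v = 2 → Nat.card ↥(T ⊓ C1 v) = 4 → PRankLE 2 2 G

/-! ### Kit and glue -/

theorem grow [Finite G] {S T : Subgroup G} (hT : IsPGroup 2 T) (h : S < T) :
    ∃ t ∈ T, t ∈ No S ∧ t ∉ S ∧ t * t ∈ S := by
  have : Fact (Nat.Prime 2) := ⟨Nat.prime_two⟩
  obtain ⟨a, ha, ha'⟩ := SetLike.exists_of_lt (lt_inf_normalizer hT h)
  obtain ⟨k, hk⟩ := isPGroup_iff_forall.1 hT a ha.1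
  have key : ∀ n : ℕ, a ^ 2 ^ n ∈ S → ∃ t ∈ T, t ∈ No S ∧ t ∉ S ∧ t * t ∈ S := fun n => by
    induction n with
    | zero => exact fun e => absurd (by simpa using e) ha'
    | succ n ih =>
      intro e
      by_cases e' : a ^ 2 ^ n ∈ S
      · exact ih e'
      · exact ⟨_, pow_mem ha.1 _, pow_mem ha.2 _, e', by rwa [← pow_two, ← pow_mul, ← pow_succ]⟩
  exact key k (hk ▸ one_mem S)

theorem two_sup {S : Subgroup G} {t : G} (hS : IsPGroup 2 S) (hn : t ∈ No S) (h2 : t * t ∈ S) :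
    IsPGroup 2 ↥(S ⊔ zpowers t) := by
  obtain ⟨k, hk⟩ := isPGroup_iff_forall.1 hS _ h2
  exact hS.to_sup_of_normal_left' (isPGroup_zpowers (k := k + 1) (by
    rw [pow_succ', pow_mul, pow_two, hk])) ((zpowers_le (G := G)).2 hn)

theorem card_lt_sup [Finite G] {S : Subgroup G} {t : G} (ht : t ∉ S) :
    Nat.card S < Nat.card ↥(S ⊔ zpowers t) :=
  lt_of_le_of_ne (card_le_of_le le_sup_left) fun e => ht
    (eq_of_le_of_card_ge le_sup_left e.ge ▸ mem_sup_right (mem_zpowers t))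

theorem ep_of (e0 : E0.{u}) (e1 : E1.{u}) (e2 : E2.{u}) (e3 : E3.{u}) (st : ST.{u}) (e5 : E5.{u})
    (e6 : E6.{u}) (e7 : E7.{u}) (e8 : E8.{u}) (home : Home.{u}) (hh : H96.U2I.HH.{u})
    (f0 : H96.U2I.F0.{u}) (ii : U2II.{u}) : H48.DP2.EP.{u} := by
  intro G _ _ M Q hu
  have : Fact (Nat.Prime 2) := ⟨Nat.prime_two⟩
  obtain ⟨S, hS⟩ := e1 G M Q hu
  obtain ⟨y, t, hp⟩ := e2 e0 G M Q S hu hS
  have hf := e3 e0 home hh G M Q S y t hu (fun X x => ii G M Q X x hu) hS hp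
  obtain ⟨T, hT, hle⟩ := exists_isSyl_le (two_sup hS.two hp.tN hp.t2)
    (sup_le hS.le ((zpowers_le (G := G)).2 hp.tM))
  have hT' := (e0 G M Q T hu hT).1
  have hST : S ≤ T := le_sup_left.trans hle
  have htT : t ∈ T := hle (mem_sup_right (mem_zpowers t))
  have mul := e5 st G hu.toUw.toHyp2.toHyp S (T ⊓ No S) y hS.two hS.nt hf hp.yS hp.y3
    (hT.isPGroup.to_le inf_le_left) inf_le_right
  by_cases hn : T ≤ No S
  · refine ⟨T, S, y, t, isSyl_top_iff.1 hT', hT.le, hST, ?_, hp.y3, hp.yM, hp.yS, htT, hp.tS, hp.ty⟩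
    refine (relIndex_eq_two_iff_exists_notMem_and' ).2 ⟨t, htT, hp.tS, fun b hb => ?_⟩
    by_cases hb' : b ∈ S
    · exact .inr hb'
    · exact .inl (mul t ⟨htT, hp.tN⟩ b ⟨hb, hn hb⟩ hp.tS hb')
  · obtain ⟨g, g1, g2, g3, g4⟩ := grow hT.isPGroup
      (lt_of_le_of_ne (inf_le_left : T ⊓ No S ≤ T) fun e => hn (e ▸ inf_le_right))
    have gr : Gr T S y t g := ⟨hT.isPGroup, hST, hS.nt, hp.y3, hp.yS,
      f0 G S y hS.two hp.y3 hp.yS (hf.fpf y hp.yS hp.y3), htT, hp.tS, hp.tN, hp.ty, mul, g1,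
      fun e => g3 ⟨g1, e⟩, g2, g4.2⟩
    obtain ⟨v, v1, v2, v3, v4⟩ := e6 G T S y t g gr
    obtain ⟨v5, v6⟩ := e7 G T S y t g v gr v1 v2 v3 v4
    exact absurd (fun A hA hA' => (e8 G T v hT' (hST v1) v5 v6 A hA hA').trans (by norm_num))
      hu.h1.r3

end H44.EP
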