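import Cfsg.Agent.H68.EaSpec
import Cfsg.Agent.H83.AbChar

/-! Tower EA, job ST: the star construction with the linear characters of `D / V`. -/

set_option autoImplicit false
set_option linter.unusedSectionVars false

open scoped MonoidAlgebra

namespace H44.EaST

open Cfsg H28 H34 H35 H36 H39 H24.KB H68.EA Subgroup

universe u

/-- a function orthogonal to all non-trivial characters is constant -/
theorem const_of_orth {A ι : Type*} [Group A] [Finite A] (hA : ∀ a b : A, a * b = b * a)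
    (S : Finset ι) (π : ι → A) (hπ : ∀ i ∈ S, ∀ j ∈ S, π i = π j → i = j) (a : ι → ℂ)
    (h : ∀ lam : A →* ℂˣ, lam ≠ 1 → ∑ i ∈ S, (lam (π i) : ℂ) * a i = 0) {y z : ι} (hy : y ∈ S)
    (hz : z ∈ S) : a y = a z := by
  classical
  have := Fintype.ofFinite A
  have : Finite (A →* ℂˣ) := Nat.finite_of_card_ne_zero (by
    rw [H83.card_hom hA]; exact Nat.card_pos.ne')
  have := Fintype.ofFinite (A →* ℂˣ)
  have key : ∀ y ∈ S, (Nat.card A : ℂ) * a y = ∑ i ∈ S, a i := fun y hy => by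
    have h1 : ∑ lam : A →* ℂˣ, (lam (π y)⁻¹ : ℂ) * ∑ i ∈ S, (lam (π i) : ℂ) * a i =
        ∑ i ∈ S, a i := by
      rw [Finset.sum_eq_single 1 (fun lam _ hl => by rw [h lam hl, mul_zero]) (by simp)]
      simp
    rw [← h1]
    simp only [Finset.mul_sum, ← mul_assoc, ← Units.val_mul, ← map_mul]
    rw [Finset.sum_comm]
    simp only [← Finset.sum_mul, H83.sum_hom_apply hA, inv_mul_eq_one]
    rw [Finset.sum_eq_single y (fun j hj hne => by
      rw [if_neg fun e => hne (hπ y hy j hj e).symm, zero_mul]) (fun c => (c hy).elim), if_pos rfl]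
  exact mul_left_cancel₀ (Nat.cast_ne_zero.2 Nat.card_pos.ne') ((key y hy).trans (key z hz).symm)

/-- a convex combination of roots of unity that is an integer vanishes -/
theorem int_eq_zero {ι : Type*} (R : Finset ι) (η c : ι → ℂ) (h1 : ∀ i ∈ R, ‖η i‖ = 1)
    (h2 : ∀ i ∈ R, 0 < (c i).re) (h3 : ∀ i ∈ R, (c i).im = 0) (h4 : ∑ i ∈ R, c i = 1)
    (h5 : ∃ i ∈ R, η i = 1) (h6 : ∃ i ∈ R, η i ≠ 1) {n : ℤ} (hn : ∑ i ∈ R, η i * c i = n) :
    n = 0 := by
  have e1 : ∑ i ∈ R, (η i).re * (c i).re = n := by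
    have := congrArg Complex.re hn
    rw [Complex.re_sum, Complex.intCast_re] at this
    rw [← this]
    exact Finset.sum_congr rfl fun i hi => by rw [Complex.mul_re, h3 i hi]; ring
  have e2 : ∑ i ∈ R, (c i).re = 1 := by rw [← Complex.re_sum, h4, Complex.one_re]
  have b1 : ∀ i ∈ R, |(η i).re| ≤ 1 := fun i hi => h1 i hi ▸ Complex.abs_re_le_norm _
  have l1 : (n : ℝ) < 1 := by
    rw [← e1, ← e2]
    obtain ⟨j, hj, hne⟩ := h6
    refine Finset.sum_lt_sum (fun i hi => ?_) ⟨j, hj, ?_⟩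
    · nlinarith [h2 i hi, (abs_le.1 (b1 i hi)).2]
    · have h7 : (η j).re ≠ 1 := fun e => hne (by
        have h8 := Complex.sq_norm (η j)
        rw [h1 j hj, Complex.normSq_apply, e] at h8
        exact Complex.ext e (by simpa using (by nlinarith : (η j).im * (η j).im = 0)))
      have := lt_of_le_of_ne (abs_le.1 (b1 j hj)).2 h7
      nlinarith [h2 j hj]
  have l2 : (-1 : ℝ) < n := by
    rw [← e1, ← e2, ← Finset.sum_neg_distrib]
    obtain ⟨j, hj, he⟩ := h5
    refine Finset.sum_lt_sum (fun i hi => ?_) ⟨j, hj, ?_⟩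
    · nlinarith [h2 i hi, (abs_le.1 (b1 i hi)).1]
    · rw [he, Complex.one_re]
      linarith [h2 j hj]
  have l3 : n < 1 := by exact_mod_cast l1
  have l4 : -1 < n := by exact_mod_cast l2
  omega

theorem jobST : JobST.{u} := by
  intro G _ _ M _ B D e h Z V v hc hS
  classical
  have := Fintype.ofFinite D
  have hab : D ≤ Cen D := le_cen_of_comm hc
  have hN : V.Normal := ⟨fun n hn g => by rwa [hc g, mul_inv_cancel_right]⟩
  have hVI : ∀ α ∈ AI ⊤ D e, ∀ x ∈ V, α x ∈ V := fun α hα x hx => by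
    simpa using V.mul_mem (hS.com α hα x) hx
  have hZV : ∀ z ∈ Z, ∀ z' ∈ Z, ∀ w ∈ V, ∀ w' ∈ V, z * w = z' * w' → z = z' ∧ w = w' :=
    fun z hz z' hz' w hw w' hw' he => by
      have h1 : z'⁻¹ * z = w' * w⁻¹ := by
        rw [inv_mul_eq_iff_eq_mul, ← mul_assoc, ← he, mul_inv_cancel_right]
      have h2 : z'⁻¹ * z = 1 := mem_bot.1 (hS.inf ▸ ⟨Z.mul_mem (Z.inv_mem hz') hz,
        h1 ▸ V.mul_mem hw' (V.inv_mem hw)⟩)
      have h3 : z = z' := (inv_mul_eq_one.1 h2).symm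
      exact ⟨h3, mul_left_cancel (h3 ▸ he)⟩
  have hdec : ∀ x : D, ∃ z ∈ Z, ∃ w ∈ V, z * w = x := fun x =>
    mem_sup_of_normal_right.1 (hS.sup ▸ mem_top x)
  set S : Finset D := Finset.univ.filter (· ∈ Z) with hSdef
  have mS : ∀ {z : D}, z ∈ S ↔ z ∈ Z := by simp [hSdef]
  set R : Finset D := S ∪ S.image (· * v) with hRdef
  have mR : ∀ {x : D}, x ∈ R ↔ ∃ z ∈ Z, ∃ w, (w = 1 ∨ w = v) ∧ z * w = x := by
    intro x
    rw [hRdef, Finset.mem_union, Finset.mem_image]
    constructor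
    · rintro (hx | ⟨z, hz, rfl⟩)
      · exact ⟨x, mS.1 hx, 1, .inl rfl, mul_one x⟩
      · exact ⟨z, mS.1 hz, v, .inr rfl, rfl⟩
    · rintro ⟨z, hz, w, rfl | rfl, rfl⟩
      · exact .inl (mS.2 (by rwa [mul_one]))
      · exact .inr ⟨z, mS.2 hz, rfl⟩
  have hsum : ∀ {A : Type} [AddCommMonoid A] (f : D → A),
      ∑ x ∈ R, f x = ∑ z ∈ S, (f z + f (z * v)) := fun f => by
    rw [hRdef, Finset.sum_union, Finset.sum_image (fun a _ b _ hab => mul_right_cancel hab),
      Finset.sum_add_distrib]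
    rw [Finset.disjoint_left]
    intro x hx hx'
    obtain ⟨z, hz, rfl⟩ := Finset.mem_image.1 hx'
    exact hS.ne (hZV z (mS.1 hz) _ (mS.1 hx) v hS.mem 1 V.one_mem (mul_one _).symm).2
  have hR : NCj R h.s := fun i hi j hj hij => by
    obtain ⟨α, hα, he⟩ := (cj_iff_AI h hab).1 hij
    obtain ⟨z, hz, w, hw, rfl⟩ := mR.1 hi
    obtain ⟨z', hz', w', hw', rfl⟩ := mR.1 hj
    have m1 : w ∈ V := by rcases hw with rfl | rfl; exacts [V.one_mem, hS.mem]
    have m2 : w' ∈ V := by rcases hw' with rfl | rfl; exacts [V.one_mem, hS.mem]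
    rw [map_mul, (hS.fix z).1 hz α hα] at he
    obtain ⟨rfl, h2⟩ := hZV z hz z' hz' _ (hVI α hα w m1) w' m2 he
    congr 1
    rcases hw with h3 | h3 <;> rcases hw' with h4 | h4
    · rw [h3, h4]
    · rw [h3, map_one, h4] at h2
      exact (hS.ne h2.symm).elim
    · rw [h3, h4, map_eq_one_iff _ α.injective] at h2
      exact (hS.ne h2).elim
    · rw [h3, h4]
  have hC : ∀ t : SS 2 M B, ∃ i ∈ R, t.Cj (h.s i) := fun t => by
    obtain ⟨x, hx⟩ := h.exists_cj t
    obtain ⟨z, hz, w, hw, rfl⟩ := hdec x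
    by_cases h1 : w = 1
    · exact ⟨_, mR.2 ⟨z, hz, w, .inl h1, rfl⟩, hx⟩
    · obtain ⟨α, hα, h2⟩ := hS.tr w hw h1
      exact ⟨z * v, mR.2 ⟨z, hz, v, .inr rfl, rfl⟩, hx.trans ((cj_iff_AI h hab).2
        ⟨α, hα, by rw [map_mul, (hS.fix z).1 hz α hα, h2]⟩).symm⟩
  have hm : ∀ z ∈ Z, blockRank 2 (h.s (z * v)).b = Nat.card (Stb (AI ⊤ D e) v) := fun z hz => by
    refine rank_s h hab _ ?_ (Nat.le_of_dvd (by norm_num) hS.st)
    congr 2
    ext α
    simp only [mem_inf, MulAction.mem_stabilizer_iff]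
    refine and_congr_right fun hα => ?_
    show α (z * v) = z * v ↔ α v = v
    rw [map_mul, (hS.fix z).1 hz α hα, mul_right_inj]
  have hQ : ∀ a b : D ⧸ V, a * b = b * a := fun a b => by
    obtain ⟨a, rfl⟩ := QuotientGroup.mk_surjective a
    obtain ⟨b, rfl⟩ := QuotientGroup.mk_surjective b
    rw [← QuotientGroup.mk_mul, hc, QuotientGroup.mk_mul]
  have hmk : ∀ x : D, ∀ w ∈ V, ((x * w : D) : D ⧸ V) = x := fun x w hw => by
    rw [QuotientGroup.mk_mul, (QuotientGroup.eq_one_iff w).2 hw, mul_one]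
  have horth : ∀ lam : D ⧸ V →* ℂˣ, lam ≠ 1 → ∑ z ∈ S, (lam (z : D ⧸ V) : ℂ) *
      ((blockRank 2 (h.s z).b : ℂ) + Nat.card (Stb (AI ⊤ D e) v)) = 0 := fun lam hl => by
    have h0 : ∀ χ ∈ bF B, ∑ x ∈ R, (lam (x : D ⧸ V) : ℂ) * (h.s x).con χ χ = 0 := fun χ hχ => by
      obtain ⟨n, hn⟩ := star_int h hab hR hC (η := fun x : D => (lam (x : D ⧸ V) : ℂ))
        (isCharacter_of_hom (lam.comp (QuotientGroup.mk' V))).isGeneralizedCharacter
        (fun α hα x => by
          have : α x = x * (α x * x⁻¹) := by rw [hc, inv_mul_cancel_right]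
          show (lam (α x : D) : ℂ) = _
          rw [this, hmk x _ (hS.com α hα x)]) hχ hχ
      have h1 := hR.sum_con_eq h.hM h.hB hC (mem_bF.1 hχ) (mem_bF.1 hχ)
      rw [if_pos rfl] at h1
      have h2 : n = 0 := by
        refine int_eq_zero R _ _ (fun x _ => ?_) (fun x _ => ?_) (fun x _ => SS.con_self_im _ _)
          h1 ⟨1, mR.2 ⟨1, Z.one_mem, 1, .inl rfl, mul_one 1⟩, by simp⟩ ?_ hn
        · refine Complex.norm_eq_one_of_pow_eq_one (n := Nat.card (D ⧸ V)) ?_ Nat.card_pos.ne'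
          rw [← Units.val_pow_eq_pow_val, ← map_pow, pow_card_eq_one', map_one, Units.val_one]
        · refine lt_of_le_of_ne (SS.con_self_re_nonneg _ _) fun c => f_ne_zero h hab x hχ ?_
          exact SS.f_eq_zero _ (Complex.ext c.symm (SS.con_self_im _ _))
        · by_contra c
          push Not at c
          refine hl (MonoidHom.ext fun q => ?_)
          obtain ⟨x, rfl⟩ := QuotientGroup.mk_surjective q
          obtain ⟨z, hz, w, hw, rfl⟩ := hdec x
          rw [hmk z w hw]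
          exact Units.ext (c z (mR.2 ⟨z, hz, 1, .inl rfl, mul_one z⟩))
      rw [hn, h2, Int.cast_zero]
    have h1 := Finset.sum_eq_zero h0
    rw [Finset.sum_comm] at h1
    simp only [← Finset.mul_sum, SS.sum_con_self h.hM] at h1
    rw [hsum] at h1
    rw [← h1]
    refine Finset.sum_congr rfl fun z hz => ?_
    rw [hmk z v hS.mem, hm z (mS.1 hz), mul_add]
  have hl : ∀ z ∈ Z, blockRank 2 (h.s z).b = blockRank 2 B := fun z hz => by
    have h1 := const_of_orth hQ S (fun z => (z : D ⧸ V)) (fun i hi j hj hij => by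
      have h2 : i⁻¹ * j ∈ V := QuotientGroup.eq.1 hij
      exact (hZV i (mS.1 hi) j (mS.1 hj) _ h2 1 V.one_mem (by simp)).1) _ horth (mS.2 hz)
      (mS.2 Z.one_mem)
    rw [h.rank_one] at h1
    exact_mod_cast add_right_cancel h1
  refine ⟨hl, ?_⟩
  rw [hR.card_eq h.hM h.hB hC, hsum, Finset.sum_congr rfl fun z hz => by
    rw [hl z (mS.1 hz), hm z (mS.1 hz)], Finset.sum_const, smul_eq_mul]
  congr 1
  rw [hSdef, ← Fintype.card_subtype, Nat.card_eq_fintype_card]

end H44.EaST
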