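import Cfsg.Agent.H44.HkK

/-! `blueprints/HKS2.md`: job Reg0. -/

set_option autoImplicit false

namespace H44.HK

open MulAction Cfsg Subgroup H89.K H65 H7.HKS H98
open scoped commutatorElement

universe u

theorem two_ne {F : Type} [Field F] [Fintype F] (h : Odd (Fintype.card F)) : (2 : F) ≠ 0 :=
  Ring.two_ne_zero fun e => by
    have := FiniteField.even_card_iff_char_two.1 e
    rw [Nat.odd_iff] at h
    omega

theorem neg_eq {F : Type} [Field F] [Fintype F] (h : Odd (Fintype.card F)) {c : F} (e : -c = c) :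
    c = 0 := (mul_eq_zero.1 (by linear_combination -e)).resolve_left (two_ne h)

theorem h_sq {G F : Type*} [Group G] [Field F] {x y : F → G} (r : SL2Rel x y) :
    sl2h x y (-1) * sl2h x y (-1) = 1 := by
  rw [r.h_mul' (by simp) (by simp), neg_mul_neg, one_mul, r.h_one]

theorem pow3 (j k : ℕ) (h : 7 ≤ 3 ^ j) : 2 ^ k ≠ 3 ^ j + 1 := fun e => by
  have h1 : ∀ j, 3 ^ j % 8 = 1 ∨ 3 ^ j % 8 = 3 := fun j => by
    induction j with
    | zero => simp
    | succ j ih => omega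
  obtain ⟨i, rfl⟩ := Nat.exists_eq_add_of_le (show 3 ≤ k from
    (Nat.pow_le_pow_iff_right one_lt_two).1 (by omega))
  have := h1 j
  rw [pow_add] at e
  omega

variable {G Ω : Type u} [Group G] [Finite G] [MulAction G Ω] {U A : Ω → Subgroup G} {p : ℕ}
  {a b : Ω} {X : Set G} {F : Type} [Field F] [Fintype F] {x y : F → G}

theorem St_nr (h : Sp U) : St G a b ≤ normalizer (Xs U a b : Set G) :=
  le_normalizer_inf (inf_le_left.trans (nr_of_conj h.conj a)) (inf_le_right.trans le_normalizer)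

theorem nr_ZU (r : Rg A) (c : Ω) : stabilizer G c ≤ normalizer (ZU A ∅ c : Set G) := by
  rw [ZU, CU0]
  exact le_normalizer_inf (nr_of_conj r.conj c) (le_normalizer_centralizer (nr_of_conj r.conj c))

omit [Finite G] in
theorem mem_Fx (hX : X ⊆ St G a b) : a ∈ Fx Ω X ∧ b ∈ Fx Ω X :=
  ⟨fun _ hg => (hX hg).1, fun _ hg => (hX hg).2⟩

/-- in type U the element `h(-1)` is not trivial -/
theorem zeta_ne (k2 : Kit2.{u}) (r : Rg A) (hab : a ≠ b) (l : LD x y (ZU A X a) (ZU A X b) a b)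
    (c1 : Nat.card (CU A X a) = Fintype.card F ^ 3) : ¬ CU A X a ≤ ZU A X a := fun e => by
  have h1 := (k2.bas r.sr hab (inf_le_left.trans inf_le_left) (inf_le_left.trans inf_le_left) l).2.1
  rw [le_antisymm inf_le_left e, c1] at h1
  have := Fintype.one_lt_card (α := F)
  exact absurd h1 (Nat.pow_lt_pow_right this (by decide : 1 < 3) |>.ne' |>.trans_eq (pow_one _))

/-- `X` centralizes the two root groups -/
theorem cent_LD (k2 : Kit2.{u}) (h : NR U p) (r : Rg A) (hab : a ≠ b) {P Q : Subgroup G}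
    (hP : P ≤ A a) (hQ : Q ≤ A b) (l : LD x y P Q a b) (hp : p ∣ Fintype.card F)
    (n1 : stabilizer G a ≤ normalizer (P : Set G)) (n2 : stabilizer G b ≤ normalizer (Q : Set G))
    (c : F) : x c ∈ centralizer (Xs U a b : Set G) ∧ y c ∈ centralizer (Xs U a b : Set G) := by
  suffices ∀ g ∈ Xs U a b, g * x c = x c * g ∧ g * y c = y c * g from
    ⟨fun g hg => (this g hg).1, fun g hg => (this g hg).2⟩
  intro g hg
  obtain ⟨m, σ, hm, e1, e2, -, e4⟩ := k2.semi r.sr hab hP hQ l g ⟨h.fix a g hg.1, hg.2⟩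
    (n1 (h.fix a g hg.1)) (n2 hg.2)
  obtain ⟨o, -, -, b4, -, -, -, -, -, -, b11, -⟩ := k2.bas r.sr hab hP hQ l
  have cop : ∀ k, (p ^ k).gcd (Fintype.card F - 1) = 1 := fun k => Nat.Coprime.pow_left k
    ((Nat.Prime.coprime_iff_not_dvd h.prime).2 fun e => h.prime.one_lt.ne' (Nat.dvd_one.1 (by
      have := Nat.dvd_sub hp e
      rwa [Nat.sub_sub_self Fintype.card_pos] at this)))
  have s1 : ∀ c, σ c = c ∨ σ c = -c := fun c => by
    by_cases hc : c = 0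
    · simp [hc]
    have h0 : σ c / c ≠ 0 := div_ne_zero (by simpa using hc) hc
    have h1 := mul_mem hg (conj_mem_of_mem_normalizer (St_nr h.toSp (b4 c hc)) (inv_mem hg))
    rw [← mul_assoc, ← mul_assoc, e4 c hc, ← div_mul_cancel₀ (σ c) hc, ← l.rel.h_mul' h0 hc,
      mul_inv_cancel_right] at h1
    obtain ⟨k, hk⟩ := h.pg hab ⟨_, h1⟩
    have := pow_gcd_eq_one.2 ⟨congrArg Subtype.val hk, by
      rw [h_pow l.rel h0, FiniteField.pow_card_sub_one_eq_one _ h0, l.rel.h_one]⟩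
    rw [cop, pow_one] at this
    exact (b11 _ h0 this).imp (div_eq_one_iff_eq hc).1 fun e => by
      rw [(div_eq_iff hc).1 e, neg_one_mul]
  have s2 : ∀ c, σ c = c := fun c => (s1 c).elim id fun e => by
    have := s1 (1 + c)
    rw [map_add, map_one, e] at this
    rcases this with f | f
    · exact e.trans (add_left_cancel f)
    · exact absurd (by linear_combination f) (two_ne o)
  have s3 : ∀ n, g ^ n * x 1 * (g ^ n)⁻¹ = x (m ^ n) := fun n => by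
    induction n with
    | zero => simp
    | succ n ih =>
      rw [pow_succ', pow_succ', ← s2 (m ^ n), ← e1, ← ih]
      group
  obtain ⟨k, hk⟩ := h.pg hab ⟨g, hg⟩
  have := pow_gcd_eq_one.2 ⟨l.inj ((s3 (p ^ k)).symm.trans (by
    rw [show g ^ p ^ k = 1 from congrArg Subtype.val hk]; simp)),
    FiniteField.pow_card_sub_one_eq_one _ hm⟩
  rw [cop, pow_one] at this
  subst this
  exact ⟨mul_inv_eq_iff_eq_mul.1 (by rw [e1, s2, one_mul]),
    mul_inv_eq_iff_eq_mul.1 (by rw [e2, s2, inv_one, one_mul])⟩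

section

variable (k1 : Kit1.{u}) (k2 : Kit2.{u}) (h : NR U p) (r : Rg A) (hA : ∀ c, A c ≤ U c)
  (hab : a ≠ b)
include h hab

omit hab [Finite G] in
theorem XS : (Xs U a b : Set G) ⊆ St G a b := fun g hg => ⟨h.fix a g hg.1, hg.2⟩

include r

omit [Finite G] in
theorem fin : ¬ A a ≤ CU A (Xs U a b) a := fun e => h.ne hab (eq_bot_iff.2 fun g hg =>
  h.t2.faith g fun c => by
    by_cases hc : c = a
    · exact hc ▸ h.fix a g hg.1
    obtain ⟨u, hu, rfl⟩ := r.tr hab.symm hc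
    exact fix_of_comm ((e hu).2 g hg).symm hg.2)

theorem fin' (e : Nat.card (CU A ∅ a) ≤ Nat.card (CU A (Xs U a b) a)) : False :=
  fin h r hab (eq_of_le_of_card_ge inf_le_left (by rwa [CU0] at e)).ge

omit [Finite G] r in
theorem typ (loc : Loc A) {u : G} (hu : u ∈ CU A (Xs U a b) a) (h1 : u ≠ 1) :
    Typ A (Xs U a b) a b := by
  obtain ⟨⟨g, hg⟩, e⟩ := ne_bot_iff_exists_ne_one.1 (h.ne hab)
  exact loc _ a b hab (XS h) ⟨g, hg, fun f => e (Subtype.ext f)⟩ fun e => h1 (mem_bot.1 (e ▸ hu))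

include k2 hA

theorem notU (loc : Loc A) (pA : p ∣ Nat.card (CU A ∅ a)) : ¬ TU A ∅ a b := by
  rintro ⟨F, _, _, x, y, l, c1, c2, -⟩
  have l1 : ∀ (X : Set G) c, ZU A X c ≤ A c := fun _ _ => inf_le_left.trans inf_le_left
  have k := cent_LD k2 h r hab (l1 _ a) (l1 _ b) l (h.prime.dvd_of_dvd_pow (c1 ▸ pA)) (nr_ZU r a)
    (nr_ZU r b)
  obtain ⟨-, b2, -, b4, -, b6, -⟩ := k2.bas r.sr hab (l1 _ a) (l1 _ b) l
  have xC : ∀ c, x c ∈ CU A (Xs U a b) a := fun c => ⟨l1 _ a ((l.rx _).2 ⟨c, rfl⟩), (k c).1⟩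
  have ζL := (h_mem (L := LX A (Xs U a b)) (fun c => CU_le_LX (mem_Fx (XS h)).1 (xC c))
    (fun c => CU_le_LX (mem_Fx (XS h)).2 ⟨l1 _ b ((l.ry _).2 ⟨c, rfl⟩), (k c).2⟩) (-1)).2
  have ζX := (h_mem (fun c => (k c).1) (fun c => (k c).2) (-1)).2
  have ζS := b4 (-1) (by simp)
  have ne := zeta_ne k2 r hab l c1
  have ζ1 : sl2h x y (-1) ≠ 1 := fun e => ne fun u hu => c2.le ⟨hu, mem_c1.2 (by simp [e])⟩
  have x1 : x 1 ≠ 1 := fun e => one_ne_zero (l.inj (e.trans l.rel.x_zero.symm))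
  have ZZ : ZU A ∅ a ≤ ZU A (Xs U a b) a := fun z hz => by
    obtain ⟨c, rfl⟩ := (l.rx z).1 hz
    exact ⟨xC c, fun u hu => hz.2 u (CU0.ge hu.1)⟩
  have UB : U a ≤ stabilizer G a := h.fix a
  obtain ⟨x₀, h1, h2, h3⟩ := central_mod (h.nil a) (hA a) (UB.trans (nr_of_conj r.conj a))
    (UB.trans (nr_ZU r a)) (CU0 (U := A) ▸ ne)
  obtain ⟨i, hi, c, hc, e1, e2, rfl⟩ := odd_dec (W := A a ⊓ stab (Xs U a b) (ZU A ∅ a))
    ((r.odd a).of_dvd_nat (card_dvd_of_le inf_le_left)) (le_normalizer_inf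
      (inf_le_left.trans (nr_of_conj r.conj a))
      (le_normalizer_stab (St_nr h.toSp) (inf_le_left.trans (nr_ZU r a))) ζS) (h_sq l.rel)
    ⟨h1, nr_ZU r a (r.fix a _ h1), fun g hg => h3 g hg.1⟩
  have iZ : i ∉ ZU A ∅ a := fun e => h2 (mul_mem e (c2.le ⟨CU0.ge hc.1, mem_c1.2 e2⟩))
  have iC : i ∈ CU A (Xs U a b) a := ⟨hi.1, fun g hg => by
    have hz : ⁅i, g⁆ ∈ ZU A ∅ a := commutatorElement_inv g i ▸ inv_mem (hi.2.2 g hg)
    exact (comm_of_inv (ζX g hg) e1 (mem_c1.1 (c2.ge hz).2) (hz.2 i (CU0.ge hi.1)).symm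
      (odd_ord (r.odd a) (l1 _ a hz))).symm⟩
  rcases typ h hab loc (xC 1) x1 with ⟨-, E, e⟩ | ⟨F', _, _, x', y', l'⟩ |
    ⟨F', _, _, x', y', l', d1, -⟩ | ⟨q, w, d⟩
  · exact ζ1 ((k2.aa r hab (XS h) e).2.2.1 _ ζL ζS)
  · obtain ⟨c', e⟩ := (l'.rx _).1 (xC 1)
    obtain ⟨-, -, -, -, -, d6, -, d8, -⟩ := k2.bas r.sr hab inf_le_left inf_le_left l'
    refine iZ (c2.le ⟨CU0.ge hi.1, mem_c1.2 ?_⟩)
    rw [← b6 1 one_ne_zero, k2.mu r.sr hab (l1 _ a) (l1 _ b) inf_le_left inf_le_left l l' 1 c'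
      one_ne_zero e.symm, d6 c' (by rintro rfl; exact x1 (e.symm.trans l'.rel.x_zero))]
    exact d8 i (mem_sup_left iC)
  · refine fin' h r hab ?_
    rw [c1, d1, ← b2, ← (k2.bas r.sr hab (l1 _ a) (l1 _ b) l').2.1]
    exact Nat.pow_le_pow_left (card_le_of_le ZZ) 3
  · obtain rfl := d.uniq _ ζL ζS (orderOf_eq_prime ((sq _).trans (h_sq l.rel)) ζ1)
    have hz := (l.rx _).2 ⟨1, rfl⟩
    exact x1 (mem_bot.1 (d.disj.le ⟨ZZ hz, (c2.ge hz).2⟩))

include k1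

theorem notR (loc : Loc A) (pA : p ∣ Nat.card (CU A ∅ a)) : ¬ TR A ∅ a b := by
  rintro ⟨q, w, d⟩
  have pq : p ∣ q := h.prime.dvd_of_dvd_pow (d.card ▸ pA)
  have w2 : w * w = 1 := by rw [← sq, ← d.ord, pow_orderOf_eq_one]
  have wS : ({w} : Set G) ⊆ St G a b := Set.singleton_subset_iff.2 d.st
  have wX : ∀ g ∈ Xs U a b, g * w = w * g := fun g hg => mul_inv_eq_iff_eq_mul.1 (d.uniq _
    (conj_mem_of_mem_normalizer ((k1.fx r hab (Set.empty_subset _)).2.2.2.2.1 (nr0 g)) d.mem)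
    (mul_mem (mul_mem (XS h hg) d.st) (inv_mem (XS h hg)))
    (((MulAut.conj g).orderOf_eq w).trans d.ord))
  have WC : ∀ u ∈ A a, u * w = w * u → u ∈ CU A (Xs U a b) a := fun u hu e => ⟨hu, fun g hg => by
    obtain ⟨-, m, -, -, f⟩ := h.fx {w} hab (by
      rw [← zpowers_eq_closure]
      exact IsPGroup.of_card (n := 1) (by rw [Nat.card_zpowers, d.ord, pow_one])) wS
    have f1 := f ⟨w, rfl, fun e => by simpa [e] using d.ord⟩ g ⟨hg, mem_c1.2 (wX g hg)⟩ (u • b)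
      (by rintro _ rfl; exact fix_of_comm e d.st.2)
    have := r.reg hab.symm _ (mul_mem (inv_mem hu) (conj_mem_of_mem_normalizer
      (nr_of_conj r.conj a (XS h hg).1) hu)) (by
        rw [mul_smul, mul_smul, mul_smul, inv_smul_eq_iff.2 (show g • b = b from hg.2).symm, f1, inv_smul_smul])
    exact mul_inv_eq_iff_eq_mul.1 (inv_mul_eq_one.1 this).symm⟩
  have UB : U a ≤ stabilizer G a := h.fix a
  obtain ⟨z, h1, h2, h3⟩ := central_mod (h.nil a) (hA a) (UB.trans (nr_of_conj r.conj a))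
    (le_normalizer_bot _) fun e => by
      rw [CU0, le_bot_iff.1 e, card_bot] at pA
      exact h.prime.one_lt.ne' (Nat.dvd_one.1 pA)
  have h4 : ∀ u ∈ U a, u * z = z * u := fun u hu =>
    commutatorElement_eq_one_iff_mul_comm.1 (mem_bot.1 (h3 u hu))
  have zZ : z ∈ ZU A (Xs U a b) a := ⟨⟨h1, fun g hg => h4 g hg.1⟩, fun g hg => h4 g (hA a hg.1)⟩
  have zw : z * w ≠ w * z := fun e =>
    h2 (d.disj.le ⟨⟨CU0.ge h1, fun g hg => h4 g (hA a hg.1)⟩, mem_c1.2 e⟩)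
  have uq : ∀ v ∈ LX A (Xs U a b), v ∈ St G a b → v * v = 1 → v ≠ 1 → v = w := fun v h1 h2 h3 h4 =>
    d.uniq v (LX_le h1) h2 (orderOf_eq_prime ((sq v).trans h3) h4)
  obtain ⟨ha, hb⟩ := mem_Fx (XS h (a := a) (b := b))
  rcases typ h hab loc zZ.1 (fun e => h2 (mem_bot.2 e)) with ⟨h7, E, e⟩ | ⟨F, _, _, x, y, l⟩ |
    ⟨F, _, _, x, y, l, c1, c2, -⟩ | ⟨q', w', d'⟩
  · obtain ⟨e1, ⟨k, e2⟩, -⟩ := k2.aa r hab (XS h) e
    obtain ⟨f, rfl⟩ := d.pow
    have e0 : Nat.card (CU A (Xs U a b) a) ∣ _ := card_dvd_of_le (inf_le_left.trans CU0.ge)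
    rw [d.card, ← pow_mul] at e0
    obtain ⟨j, -, e3⟩ := (Nat.dvd_prime_pow Nat.prime_three).1 e0
    exact pow3 j k (e3 ▸ h7) (e2.symm.trans (e3 ▸ e1))
  · obtain ⟨o, -, -, b4, b5, b6, -, b8, -, -, b11, -⟩ := k2.bas r.sr hab inf_le_left inf_le_left l
    have m := h_mem (L := LX A (Xs U a b)) (fun c => CU_le_LX ha ((l.rx _).2 ⟨c, rfl⟩))
      fun c => CU_le_LX hb ((l.ry _).2 ⟨c, rfl⟩)
    have ζ1 : sl2h x y (-1) = 1 := by_contra fun e =>
      zw (uq _ (m _).2 (b4 _ (by simp)) (h_sq l.rel) e ▸ b8 z (mem_sup_left zZ.1))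
    have sw := l.sw 1 one_ne_zero
    obtain ⟨g, -, e⟩ := d.one _ (LX_le (m 1).1) (orderOf_eq_prime
      ((sq _).trans ((b6 1 one_ne_zero).trans ζ1)) fun e => hab (by simpa [e] using sw.1))
    obtain ⟨f1, -, -, f4, -⟩ := k1.fx r hab (XS h)
    have := h.t2.finite
    obtain ⟨c₀, hc, hc'⟩ := exists_fix h.prime (h.pg hab) (Fx Ω {sl2n x y 1}) (by
      rintro k hk c hc _ rfl
      exact fix_of_comm (f4 (m 1).1 k hk) (hc _ rfl)) fun f => by
      have e1 : Fx Ω {sl2n x y 1} = (g • ·) '' Fx Ω {w} := Set.ext fun c => ⟨fun hc =>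
        ⟨g⁻¹ • c, by
          rintro _ rfl
          rw [← conj_smul_eq (g := g), e, smul_inv_smul]
          exact hc _ rfl, smul_inv_smul g c⟩, by
        rintro ⟨c, hc, rfl⟩ _ rfl
        exact e ▸ conj_smul_eq.2 (hc _ rfl)⟩
      have e2 := d.cardw
      rw [CU0] at e2
      rw [e1, Set.ncard_image_of_injective _ (MulAction.injective g), (k1.fx r hab wS).2.1, e2] at f
      exact h.prime.one_lt.ne' (Nat.dvd_one.1 ((Nat.dvd_add_right pq).1 f))
    have hs := hc _ rfl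
    rcases (f1 c₀).1 hc' with rfl | ⟨u, hu, rfl⟩
    · exact hab (hs.symm.trans sw.1)
    obtain ⟨c, rfl⟩ := (l.rx u).1 hu
    have c0 : c ≠ 0 := by
      rintro rfl
      rw [l.rel.x_zero, one_smul] at hs
      exact hab (sw.2.symm.trans hs)
    rw [b5 c 1 c0 one_ne_zero] at hs
    have e1 := r.reg hab.symm _ (mul_mem (inv_mem hu.1) ((l.rx _).2 ⟨-(1 ^ 2 / c), rfl⟩).1)
      (by rw [mul_smul, hs, inv_smul_smul])
    have e2 : c ^ 2 = -1 := by
      have := l.inj (inv_mul_eq_one.1 e1)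
      field_simp at this
      linear_combination this
    have e3 := uq _ (m c).2 (b4 c c0) (by rw [l.rel.h_mul' c0 c0, ← sq, e2, ζ1]) fun e =>
      two_ne o (by rcases b11 c c0 e with rfl | rfl <;> linear_combination e2)
    obtain ⟨⟨u, hu⟩, u1⟩ := ne_bot_iff_exists_ne_one.1 fun e : CU A ∅ a ⊓ centralizer {w} = ⊥ =>
      h.prime.one_lt.ne' (Nat.dvd_one.1 (by simpa only [← d.cardw, e, card_bot] using pq))
    obtain ⟨t, rfl⟩ := (l.rx u).1 (WC u hu.1.1 (mem_c1.1 hu.2))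
    have e4 := l.rel.h_mul_x c0 t
    rw [e3, ← mem_c1.1 hu.2, mul_left_inj, e2, neg_one_mul] at e4
    exact u1 (Subtype.ext ((congrArg x (neg_eq o (l.inj e4).symm)).trans l.rel.x_zero))
  · have l1 : ∀ c, ZU A (Xs U a b) c ≤ A c := fun _ => inf_le_left.trans inf_le_left
    refine zw (uq _ (h_mem (fun c => CU_le_LX ha ((l.rx _).2 ⟨c, rfl⟩).1)
      (fun c => CU_le_LX hb ((l.ry _).2 ⟨c, rfl⟩).1) (-1)).2
      ((k2.bas r.sr hab (l1 a) (l1 b) l).2.2.2.1 _ (by simp)) (h_sq l.rel) (fun e => zeta_ne k2 r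
        hab l c1 fun u hu => c2.le ⟨hu, mem_c1.2 (by simp [e])⟩) ▸ mem_c1.1 (c2.ge zZ).2)
  · obtain rfl := d.uniq w' (LX_le d'.mem) d'.st d'.ord
    refine fin' h r hab ?_
    rw [d.card, d'.card, ← d.cardw, ← d'.cardw]
    refine Nat.pow_le_pow_left (card_le_of_le ?_) 3
    exact fun u hu => ⟨WC u hu.1.1 (mem_c1.1 hu.2), hu.2⟩

end

theorem jobReg0 (k1 : Kit1.{u}) (k2 : Kit2.{u}) (main : Main.{u}) : JobReg0.{u} := by
  intro G Ω _ _ _ U A p h r hA
  obtain ⟨a, b, -, hab, -⟩ := h.t2.big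
  obtain ⟨loc, t⟩ := main G Ω A r
  have pA : p ∣ Nat.card (CU A ∅ a) := by
    obtain ⟨m, i, -, h1, -, -, h2⟩ := h.dvd hab
    rw [CU0, Nat.succ_injective ((k1.card r a).symm.trans h2)]
    exact h1.mul_left _
  rcases t a b hab with ⟨-, E, e⟩ | ⟨F, _, _, x, y, l⟩ | t | t
  · have m : ∀ c, c ∈ Fx Ω (∅ : Set G) := fun _ _ h => h.elim
    exact h.naff ⟨E, normal_of_top_le_normalizer fun g _ => e.norm (nr0 g),
      fun c d => (e.reg c (m c) d (m d)).exists,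
      fun c n hn f => (e.reg c (m c) c (m c)).unique ⟨hn, f⟩ ⟨one_mem _, one_smul _ _⟩⟩
  · have n : ∀ c, stabilizer G c ≤ normalizer (CU A ∅ c : Set G) := fun c => by
      rw [CU0]; exact nr_of_conj r.conj c
    refine fin h r hab fun u hu => ⟨hu, ?_⟩
    obtain ⟨c, rfl⟩ := (l.rx u).1 (CU0.ge hu)
    exact (cent_LD k2 h r hab inf_le_left inf_le_left l
      ((k2.bas r.sr hab inf_le_left inf_le_left l).2.1 ▸ pA) (n a) (n b) c).1
  · exact notU k2 h r hA hab loc pA t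
  · exact notR k1 k2 h r hA hab loc pA t

end H44.HK
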