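import Cfsg.Agent.H44.HkR

/-! `blueprints/HKS2.md`: job NRU. -/

set_option autoImplicit false

namespace H44.HK

open MulAction Cfsg Subgroup H89.K H65 H7.HKS H98
open scoped commutatorElement

universe u

theorem eq_one_of_cop {G : Type*} [Group G] {K : Subgroup G} {p m : ℕ} (hp : p.Prime)
    (hK : IsPGroup p K) {v : G} (hv : v ∈ K) (e : v ^ m = 1) (hm : ¬ p ∣ m) : v = 1 := by
  obtain ⟨k, hk⟩ := hK ⟨v, hv⟩
  have := pow_gcd_eq_one.2 ⟨congrArg Subtype.val hk, e⟩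
  rwa [Nat.Coprime.pow_left k ((Nat.Prime.coprime_iff_not_dvd hp).2 hm), pow_one] at this

variable {G Ω : Type u} [Group G] [Finite G] [MulAction G Ω] {U : Ω → Subgroup G} {p : ℕ}
  {a b : Ω} {Y : Type u} [Group Y] [Finite Y] [MulAction Y (Ln U a b)]
  {π : normalizer (Xs U a b : Set G) →* Y} {a' b' : Ln U a b} {F : Type} [Field F] [Fintype F]
  {x y : F → Y} (k1 : Kit1.{u}) (k2 : Kit2.{u}) (h : NR U p) (hab : a ≠ b) (ha : (a' : Ω) = a)
  (hb : (b' : Ω) = b) (s : IsRes _ (Ln U a b) Y π) (r : Rg (Quo U (Ln U a b) π))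

omit [Finite G] [Finite Y] in
theorem Z_N : Zc U a ≤ normalizer (Xs U a b : Set G) :=
  le_normalizer_of_le_centralizer fun _ hz g hg => hz.2 g hg.1

include h hab ha hb s r

omit hb in
include k1 in
theorem pgroup (hc : Nat.card (Quo U (Ln U a b) π a') ∣ Fintype.card F ^ 3) : IsPGroup p (U a) := by
  have pV : IsPGroup p (Quo U (Ln U a b) π a') := by
    obtain ⟨m, -, h1, h2, -⟩ := h.dvd hab
    obtain ⟨l, -, n, hl, e⟩ := FiniteField.card' F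
    rw [← Nat.card_coe_set_eq, k1.card r a', Nat.succ_inj] at h1
    rw [e, ← pow_mul] at hc
    obtain rfl := (Nat.prime_dvd_prime_iff_eq h.prime hl).1
      (h.prime.dvd_of_dvd_pow ((h1 ▸ h2).trans hc))
    obtain ⟨k, -, e⟩ := (Nat.dvd_prime_pow hl).1 hc
    exact .of_card e
  rintro ⟨u, hu⟩
  obtain ⟨k, m, hm, e⟩ := Nat.exists_eq_pow_mul_and_not_dvd (orderOf_pos u).ne' p h.prime.one_lt.ne'
  have e1 : (u ^ p ^ k) ^ m = 1 := by rw [← pow_mul, ← e, pow_orderOf_eq_one]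
  have h1 := pow_mem hu (p ^ k)
  have h2 := h.cop hab _ h1 fun f => hm (f.trans (orderOf_dvd_of_pow_eq_one e1))
  have h3 := eq_one_of_cop h.prime pV (v := π ⟨_, h2⟩) ⟨_, mem_subgroupOf.2 ((congrArg U ha).ge h1), rfl⟩
    (by rw [← map_pow, ← π.map_one]; exact congrArg π (Subtype.ext e1)) hm
  exact ⟨k, Subtype.ext (eq_one_of_cop h.prime (h.pg hab) ⟨h1, s.eq_one_iff.1 h3 b fun _ hg => hg.2⟩
    e1 hm)⟩

include k2 in
/-- the involution `h(c)` lifts to `L*` -/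
theorem lift {P Q : Subgroup Y} (hP : P ≤ Quo U (Ln U a b) π a') (hQ : Q ≤ Quo U (Ln U a b) π b')
    (l : LD x y P Q a' b') (hZ : ∀ z (hz : z ∈ Zc U a), π ⟨z, Z_N hz⟩ ∈ P) {c : F} (hc : c ≠ 0)
    (h2 : sl2h x y c * sl2h x y c = 1) (h1 : sl2h x y c ≠ 1) :
    (∀ v ∈ P, ∃ z, ∃ hz : z ∈ Zc U a, π ⟨z, Z_N hz⟩ = v) ∧ ∃ t : normalizer (Xs U a b : Set G),
      π t = sl2h x y c ∧ (t : G) ∈ St G a b ∧ (t : G) * t = 1 ∧
      (t : G) ∈ centralizer (Xs U a b : Set G) ∧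
      ∀ u ∈ CU U {(t : G)} a, u ∈ normalizer (Xs U a b : Set G) := by
  have ne : a' ≠ b' := fun e => hab (ha.symm.trans ((congrArg Subtype.val e).trans hb))
  obtain ⟨-, -, -, b4, -, -, -, -, -, -, -, b12⟩ := k2.bas r.sr ne hP hQ l
  obtain ⟨s1, s2, -, -, s5⟩ := h.ls hab
  have st : ∀ g, π g ∈ St Y a' b' → (g : G) ∈ St G a b := fun g hg =>
    (congrArg₂ (St G) ha hb).le (s.mem_St.1 hg)
  have haL : a ∈ Ln U a b := fun g hg => h.fix a g hg.1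
  have e := (b12 (((Zc U a).subgroupOf _).map π) (by rintro _ ⟨z, hz, rfl⟩; exact hZ z hz) (by
    rintro c hc _ ⟨z, hz, rfl⟩
    obtain ⟨g, hg⟩ := s.surj (sl2h x y c)
    exact ⟨g * z * g⁻¹, conj_mem_of_mem_normalizer (g := (g : G)) (nr_of_conj h.zsr.conj a
      (st g (hg ▸ b4 c hc)).1) hz, by rw [map_mul, map_mul, map_inv, hg]⟩)).resolve_left fun e => by
    obtain ⟨⟨z, hz⟩, z1⟩ := ne_bot_iff_exists_ne_one.1 fun e : Zc U a = ⊥ =>
      h.prime.one_lt.ne' (Nat.dvd_one.1 (by simpa only [e, card_bot] using h.zne a))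
    exact z1 (Subtype.ext (h.zsr.reg hab.symm z hz (s.eq_one_iff.1
      (mem_bot.1 (e.le ⟨⟨z, Z_N hz⟩, hz, rfl⟩)) b fun _ hg => hg.2)))
  have k : ∀ v ∈ P, ∃ z, ∃ hz : z ∈ Zc U a, π ⟨z, Z_N hz⟩ = v := fun v hv =>
    (e.ge hv).elim fun z hz => ⟨z, hz.1, hz.2⟩
  have xL : ∀ c, x c ∈ ((LS U a b).subgroupOf _).map π := fun c => by
    obtain ⟨z, hz, e⟩ := k _ ((l.rx _).2 ⟨c, rfl⟩)
    exact ⟨_, (le_iSup₂_of_le a haL le_rfl : Zc U a ≤ LS U a b) hz, e⟩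
  have yL : ∀ c, y c ∈ ((LS U a b).subgroupOf _).map π := fun c => by
    obtain ⟨g, hg⟩ := s.surj (sl2n x y 1)
    obtain ⟨z, hz, e⟩ := xL (-c)
    exact ⟨g * z * g⁻¹, conj_mem_of_mem_normalizer (g := (g : G)) (s2 g.2) hz, by
      rw [map_mul, map_mul, map_inv, hg, e, l.rel.n_mul_x one_ne_zero]; simp⟩
  obtain ⟨g, hg, e1⟩ := (h_mem xL yL c).2
  obtain ⟨t, ⟨t1, t2, t3⟩, -⟩ := s5 g hg fun d hd => by
    rw [← mul_smul]
    exact s.eq_one_iff.1 (show π (g * g) = 1 by rw [map_mul, e1, h2]) d hd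
  have tN := le_normalizer_of_le_centralizer le_rfl (s1 t1)
  have e2 : π ⟨t, tN⟩ = sl2h x y c := by
    rw [← e1, eq_comm, ← inv_mul_eq_one, ← map_inv, ← map_mul, s.eq_one_iff]
    exact fun d hd => by rw [coe_mul, mul_smul, t3 d hd, coe_inv, inv_smul_smul]
  have tS := st _ (e2 ▸ b4 c hc)
  refine ⟨k, ⟨t, tN⟩, e2, tS, t2, s1 t1, fun u hu => ?_⟩
  obtain ⟨-, m, -, -, f⟩ := h.fx {t} hab (by
    rw [← zpowers_eq_closure]
    exact IsPGroup.of_card (n := 1) (by rw [Nat.card_zpowers, pow_one, orderOf_eq_prime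
      ((sq t).trans t2) fun e => h1 (e2.symm.trans (by simp only [e]; exact π.map_one))]))
    (Set.singleton_subset_iff.2 tS)
  have e3 := h.sym hab (c := a) (d := u • b) (fun e => hab (smul_left_cancel u
    ((h.fix a u hu.1).trans e))) haL fun g hg => f ⟨t, rfl, fun e => h1 (e2.symm.trans
      (by simp only [e]; exact π.map_one))⟩ g ⟨hg, mem_c1.2 (s1 t1 g hg)⟩ _
      (by rintro _ rfl; exact fix_of_comm (mem_c1.1 hu.2) tS.2)
  refine mem_normalizer_of_cj_le ?_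
  rintro _ ⟨g, hg, rfl⟩
  exact e3.le ⟨(U a).mul_mem ((U a).mul_mem hu.1 hg.1) ((U a).inv_mem hu.1), conj_smul_eq.2 hg.2⟩

omit h hab ha hb s r in
theorem jobNRU (k1 : Kit1.{u}) (k2 : Kit2.{u}) (nrm : JobNRM.{u}) (reg : JobReg0.{u}) :
    JobNRU.{u} := by
  intro G Ω _ _ _ U p a b Y _ _ _ π a' b' h hab ha hb s r ty
  have ne : a' ≠ b' := fun e => hab (ha.symm.trans ((congrArg Subtype.val e).trans hb))
  have mV : ∀ u : normalizer (Xs U a b : Set G), (u : G) ∈ U a → π u ∈ CU (Quo U _ π) ∅ a' :=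
    fun u hu => CU0.ge ⟨u, mem_subgroupOf.2 ((congrArg U ha).ge hu), rfl⟩
  have fb : ∀ u, π u = 1 → (u : G) • b = b := fun u e => s.eq_one_iff.1 e b fun _ hg => hg.2
  suffices IsPGroup p (U a) ∧ ∃ t Z, t ∈ St G a b ∧ t * t = 1 ∧ t ∈ centralizer (Xs U a b : Set G) ∧
      (Z = ⊥ ∨ Z = Zc U a) ∧ Z ≤ CU U {t} a ∧ CU U {t} a ≤ Xs U a b ⊔ Z by
    obtain ⟨h1, t, Z, h2, h3, h4, h5, h6, h7⟩ := this
    obtain ⟨A, r, hA⟩ := nrm G Ω U p a b t Z h hab h1 h2 h3 h4 h5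
      (le_antisymm h7 (sup_le (fun g hg => ⟨hg.1, mem_c1.2 (h4 g hg)⟩) h6))
    exact reg G Ω U A p h r hA
  rcases ty with ⟨F, _, _, x, y, l, c1, c2, -⟩ | ⟨⟨F, _, _, x, y, l⟩, c1⟩
  · obtain ⟨k, t, e, t1, t2, t3, t4⟩ := lift k2 h hab ha hb s r (inf_le_left.trans inf_le_left)
      (inf_le_left.trans inf_le_left) l (fun z hz => ⟨mV _ hz.1, by
        rintro _ ⟨⟨u, hu, rfl⟩, -⟩
        rw [← map_mul, ← map_mul]
        exact congrArg π (Subtype.ext (hz.2 u ((congrArg U ha).le (mem_subgroupOf.1 hu))))⟩)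
      (neg_ne_zero.2 one_ne_zero) (h_sq l.rel)
      fun e => zeta_ne k2 r ne l c1 fun u hu => c2.le ⟨hu, mem_c1.2 (by simp [e])⟩
    refine ⟨pgroup k1 h hab ha s r (by rw [← c1, CU0]), t, _, t1, t2, t3, .inr rfl,
      fun z hz => ⟨hz.1, mem_c1.2 ?_⟩, fun u hu => ?_⟩
    · have h1 := conj_mem_of_mem_normalizer (nr_of_conj h.zsr.conj a t1.1) hz
      have h2 := mem_c1.1 (c2.ge (show π ⟨z, Z_N hz⟩ ∈ ZU _ ∅ a' from ⟨mV _ hz.1, by
        rintro _ ⟨⟨u, hu, rfl⟩, -⟩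
        rw [← map_mul, ← map_mul]
        exact congrArg π (Subtype.ext (hz.2 u ((congrArg U ha).le (mem_subgroupOf.1 hu))))⟩)).2
      exact (mul_inv_eq_iff_eq_mul.1 (inv_mul_eq_one.1 (h.zsr.reg hab.symm _
        (mul_mem (inv_mem hz) h1) (fb (⟨z, Z_N hz⟩⁻¹ * (t * ⟨z, Z_N hz⟩ * t⁻¹)) (by
          rw [map_mul, map_mul, map_mul, map_inv, map_inv, e, ← h2]; simp)))).symm).symm
    · obtain ⟨z, hz, e1⟩ := k (π ⟨u, t4 u hu⟩) (c2.le ⟨mV _ hu.1, mem_c1.2 (by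
        rw [← e, ← map_mul, ← map_mul]; exact congrArg π (Subtype.ext (mem_c1.1 hu.2)))⟩)
      have e2 : (u * z⁻¹) • b = b := fb ((⟨u, t4 u hu⟩ : normalizer (Xs U a b : Set G)) *
        (⟨z, Z_N hz⟩ : normalizer (Xs U a b : Set G))⁻¹)
        (by rw [map_mul, map_inv, e1, mul_inv_cancel])
      have e3 : u * z⁻¹ ∈ Xs U a b := ⟨(U a).mul_mem hu.1 ((U a).inv_mem hz.1), e2⟩
      simpa using mul_mem (mem_sup_left e3) (mem_sup_right hz)
  · obtain ⟨o, b2, -, b4, -, -, -, b8, -, -, b11, -⟩ := k2.bas r.sr ne inf_le_left inf_le_left l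
    replace b2 := (congrArg (fun K : Subgroup Y => Nat.card K) CU0).symm.trans b2
    obtain ⟨c, hc⟩ := FiniteField.isSquare_neg_one_iff.2 (show Fintype.card F % 4 ≠ 3 by omega)
    have c0 : c ≠ 0 := by rintro rfl; simp at hc
    obtain ⟨-, t, e, t1, t2, t3, t4⟩ := lift k2 h hab ha hb s r inf_le_left inf_le_left l
      (fun z hz => mV _ hz.1) c0 (by
        rw [l.rel.h_mul' c0 c0, ← hc]
        refine s.faith _ fun d => ?_
        by_cases hd : d = a'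
        · exact hd ▸ (b4 _ (by simp)).1
        obtain ⟨u, hu, rfl⟩ := r.tr ne.symm hd
        exact fix_of_comm (b8 u (mem_sup_left (CU0.ge hu))) (b4 _ (by simp)).2)
      fun e => two_ne o (by rcases b11 c c0 e with rfl | rfl <;> linear_combination -hc)
    refine ⟨pgroup k1 h hab ha s r (F := F) (b2 ▸ dvd_pow_self _ (by decide)), t, _, t1, t2, t3,
      .inl rfl, bot_le, fun u hu => mem_sup_left ⟨hu.1, fb ⟨u, t4 u hu⟩ ?_⟩⟩
    obtain ⟨d, e1⟩ := (l.rx _).1 (mV ⟨u, t4 u hu⟩ hu.1)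
    have e2 := l.rel.h_mul_x c0 d
    rw [show sl2h x y c * x d = x d * sl2h x y c by
      rw [← e, e1, ← map_mul, ← map_mul]; exact congrArg π (Subtype.ext (mem_c1.1 hu.2).symm),
      mul_left_inj, sq, ← hc, neg_one_mul] at e2
    rw [← e1, neg_eq o (l.inj e2).symm, l.rel.x_zero]

end H44.HK
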