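import Cfsg.Agent.H54.NFSpec
import Cfsg.Agent.S0206

/-! Tower NF (S1308), slot DI. -/

set_option autoImplicit false

namespace H44.NFDI

open Cfsg Subgroup MulAction H14 H98 H1.Gold H31.S2 H14.GC H14.FE H54.NF

universe u

theorem dih {G : Type u} [Group G] [Finite G] {R : Subgroup G} {ρ : G} (h : Dh R ρ) :
    ∃ n : ℕ, Nonempty (R ≃* DihedralGroup n) := by
  have : Fact (Nat.Prime 2) := ⟨Nat.prime_two⟩
  obtain ⟨s, hs, hx⟩ := relIndex_eq_two_iff.1 h.idx
  have s1 : s ∉ zpowers ρ := fun e => by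
    rcases hx 1 (one_mem R) with k | k
    · exact k.2 (one_mem _)
    · exact k.2 (by rwa [one_mul])
  have s2 : s * ρ ∉ zpowers ρ := fun e => s1 ((mul_mem_cancel_right (mem_zpowers ρ)).1 e)
  have ord : ∀ x ∈ R, x ∉ zpowers ρ → orderOf x = 2 := fun x a b =>
    orderOf_eq_prime (by rw [pow_two, h.inv x a b]) fun e => b (e ▸ one_mem _)
  obtain ⟨e⟩ := Cfsg.Agent.S0206.result s (s * ρ) (ord s hs s1) (ord _ (mul_mem hs h.mem) s2)
    fun e => h.ne (left_eq_mul.1 e)
  have c1 : s ∈ closure ({s, s * ρ} : Set G) := subset_closure (.inl rfl)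
  have c2 : zpowers ρ ≤ closure ({s, s * ρ} : Set G) := (zpowers_le (G := G)).2
    ((mul_mem_cancel_left c1).1 (subset_closure (.inr rfl)))
  have eq : closure ({s, s * ρ} : Set G) = R := le_antisymm
    ((closure_le _).2 (by rintro _ (rfl | rfl); exacts [hs, mul_mem hs h.mem])) fun b hb => by
      rcases hx b hb with k | k
      · exact (mul_mem_cancel_right c1).1 (c2 k.1)
      · exact c2 k.1
  exact ⟨_, ⟨(MulEquiv.subgroupCongr eq.symm).trans e⟩⟩

theorem jobDI : JobDI.{u} := by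
  intro G _ _ C R ρ hR h S
  have : Fact (Nat.Prime 2) := ⟨Nat.prime_two⟩
  obtain ⟨n, ⟨e⟩⟩ := dih h
  obtain ⟨P, hP⟩ := hR.exists_sylow
  exact ⟨n, ⟨(S.equiv P).trans ((MulEquiv.subgroupCongr hP).trans
    ((subgroupOfEquivOfLe hR.le).trans e))⟩⟩

end H44.NFDI
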