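/- O7, chapter B, slot CL: two commuting copies of `SL₂(3)`. -/
import Cfsg.Agent.H31.O7K

set_option autoImplicit false
set_option linter.unusedSectionVars false

namespace H44.O7CL

open H56 QuadraticMap Module Cfsg Subgroup H31.O7
open H20.LD (cp)

universe u

variable {K : Type u} [Field K] {V : Type u} [AddCommGroup V] [Module K V] [FiniteDimensional K V]
  {Q : QuadraticForm K V} {a g : O Q} {v : V} {s : Bool}

variable (K) in
/-- The sign. -/
def sg (s : Bool) : K := if s then -1 else 1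

/-- The eigenspaces of an involution. -/
def Es (a : O Q) (s : Bool) : Submodule K V := LinearMap.ker (a.lin - sg K s • LinearMap.id)

theorem mem_Es : v ∈ Es a s ↔ a v = sg K s • v := by simp [Es, sub_eq_zero]
theorem mem_Es_f : v ∈ Es a false ↔ a v = v := by simp [mem_Es, sg]
theorem mem_Es_t : v ∈ Es a true ↔ a v = -v := by simp [mem_Es, sg]
theorem Es_f : Es a false = a.fix := Submodule.ext fun _ => by rw [mem_Es_f, O.mem_fix]

theorem eq_zero_of_neg (h2 : (2 : K) ≠ 0) (h : v = -v) : v = 0 := by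
  rwa [eq_neg_iff_add_eq_zero, ← two_smul K, smul_eq_zero, or_iff_right h2] at h

theorem Es_inv (c : Commute g a) (hv : v ∈ Es a s) : g v ∈ Es a s := by
  rw [mem_Es] at hv ⊢
  rw [← O.mul_apply, ← c.eq, O.mul_apply, hv, map_smul]

theorem split (h2 : (2 : K) ≠ 0) (ha : a * a = 1) (U : Submodule K V) (hU : ∀ v ∈ U, a v ∈ U) :
    finrank K U = finrank K ↥(U ⊓ Es a false) + finrank K ↥(U ⊓ Es a true) := by
  have aa : ∀ v, a (a v) = v := fun v => by rw [← O.mul_apply, ha, O.one_apply]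
  have h1 : U ⊓ Es a false ⊔ U ⊓ Es a true = U :=
    le_antisymm (sup_le inf_le_left inf_le_left) fun v hv => by
      rw [show v = (2 : K)⁻¹ • (v + a v + (v - a v)) by
        rw [add_add_sub_cancel, ← two_smul K v, inv_smul_smul₀ h2]]
      exact Submodule.smul_mem _ _ (Submodule.add_mem_sup
        ⟨U.add_mem hv (hU v hv), mem_Es_f.2 (by rw [map_add, aa, add_comm])⟩
        ⟨U.sub_mem hv (hU v hv), mem_Es_t.2 (by rw [map_sub, aa, neg_sub])⟩)
  have h3 : U ⊓ Es a false ⊓ (U ⊓ Es a true) = ⊥ := eq_bot_iff.2 fun v hv =>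
    eq_zero_of_neg h2 ((mem_Es_f.1 hv.1.2).symm.trans (mem_Es_t.1 hv.2.2))
  rw [← Submodule.finrank_sup_add_finrank_inf_eq, h1, h3, finrank_bot, add_zero]

/-- Five involutions of weight four with product one, permuted cyclically. -/
theorem five (h2 : (2 : K) ≠ 0) (d7 : finrank K V = 7) (z : ℕ → O Q) (g : O Q)
    (zz : ∀ m, z m * z m = 1) (hc : ∀ m n, Commute (z m) (z n))
    (hg : ∀ m, z (m + 1) * g = g * z m) (z5 : z 5 = z 0) (hp : z 0 * z 1 * z 2 * z 3 * z 4 = 1)
    (d3 : finrank K (z 0).fix = 3) {r : ℕ} (r0 : r ≠ 0) (r5 : r < 5) :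
    ∃ l, l ≠ 0 ∧ z 0 l = l ∧ z r l = -l ∧ ∀ u, z 0 u = u → z r u = -u → ∃ t : K, t • l = u := by
  let W : Bool → Bool → Bool → Bool → Submodule K V := fun a b c d =>
    Es (z 0) a ⊓ Es (z 1) b ⊓ Es (z 2) c ⊓ Es (z 3) d
  have h4 : ∀ a b c d, ∀ v ∈ W a b c d, v ∈ Es (z 4) (a ^^ b ^^ c ^^ d) := fun a b c d v hv => by
    have := congrArg (fun x : O Q => x v) (mul_eq_one_comm.1 hp)
    simp only [O.mul_apply, O.one_apply, mem_Es.1 hv.2, mem_Es.1 hv.1.2, mem_Es.1 hv.1.1.2,
      mem_Es.1 hv.1.1.1, map_smul] at this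
    rw [mem_Es]
    conv_rhs => rw [← this]
    cases a <;> cases b <;> cases c <;> cases d <;> simp [sg]
  have sh : ∀ a b c d, finrank K (W a b c d) ≤ finrank K (W (a ^^ b ^^ c ^^ d) a b c) :=
    fun a b c d => by
      rw [← LinearEquiv.finrank_map_eq g.1]
      refine Submodule.finrank_mono ?_
      rintro _ ⟨v, hv, rfl⟩
      have e : ∀ m s, v ∈ Es (z m) s → g v ∈ Es (z (m + 1)) s := fun m s h => by
        rw [mem_Es] at h ⊢
        rw [← O.mul_apply, hg, O.mul_apply, h, map_smul]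
      exact ⟨⟨⟨by rw [← z5]; exact e 4 _ (h4 a b c d v hv), e 0 _ hv.1.1.1⟩, e 1 _ hv.1.1.2⟩,
        e 2 _ hv.1.2⟩
  have s0 := split h2 (zz 0) ⊤ fun _ _ => trivial
  have s1 := fun a => split h2 (zz 1) (Es (z 0) a) fun _ => Es_inv (hc 1 0)
  have s2 := fun a b => split h2 (zz 2) (Es (z 0) a ⊓ Es (z 1) b) fun _ hv =>
    ⟨Es_inv (hc 2 0) hv.1, Es_inv (hc 2 1) hv.2⟩
  have s3 : ∀ a b c, finrank K ↥(Es (z 0) a ⊓ Es (z 1) b ⊓ Es (z 2) c) =
      finrank K (W a b c false) + finrank K (W a b c true) := fun a b c =>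
    split h2 (zz 3) _ fun _ hv =>
      ⟨⟨Es_inv (hc 3 0) hv.1.1, Es_inv (hc 3 1) hv.1.2⟩, Es_inv (hc 3 2) hv.2⟩
  rw [← Es_f] at d3
  rw [top_inf_eq, top_inf_eq, finrank_top, d7] at s0
  have dd : finrank K (W false false false false) = 2 ∧ finrank K (W false true true true) = 1 := by
    obtain ⟨D, hD⟩ : ∃ D : Bool → Bool → Bool → Bool → ℕ, ∀ a b c d,
      finrank K (W a b c d) = D a b c d := ⟨_, fun _ _ _ _ => rfl⟩
    simp only [s1, s2, s3, hD] at s0 d3 sh ⊢
    simp only [Bool.forall_bool, Bool.xor_false, Bool.xor_true, Bool.not_true, Bool.not_false] at sh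
    clear * - s0 d3 sh
    omega
  have hL : ∀ v ∈ W false true true true, z r v = -v := fun v hv => by
    interval_cases r
    exacts [absurd rfl r0, mem_Es_t.1 hv.1.1.2, mem_Es_t.1 hv.1.2, mem_Es_t.1 hv.2,
      by simpa [mem_Es_t] using h4 _ _ _ _ v hv]
  have hF : ∀ v ∈ W false false false false, z r v = v := fun v hv => by
    interval_cases r
    exacts [absurd rfl r0, mem_Es_f.1 hv.1.1.2, mem_Es_f.1 hv.1.2, mem_Es_f.1 hv.2,
      by simpa [mem_Es_f] using h4 _ _ _ _ v hv]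
  have hU : W false false false false ⊔ W false true true true = Es (z 0) false := by
    refine Submodule.eq_of_le_of_finrank_eq (sup_le (fun _ h => h.1.1.1) fun _ h => h.1.1.1) ?_
    have := Submodule.finrank_sup_add_finrank_inf_eq (W false false false false)
      (W false true true true)
    rw [show W false false false false ⊓ W false true true true = ⊥ from eq_bot_iff.2 fun v hv =>
      eq_zero_of_neg h2 ((hF v hv.1).symm.trans (hL v hv.2)), finrank_bot] at this
    omega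
  obtain ⟨l, l0, hl⟩ := finrank_eq_one_iff'.1 dd.2
  refine ⟨l, by simpa using l0, mem_Es_f.1 l.2.1.1.1, hL l l.2, fun u u1 u2 => ?_⟩
  obtain ⟨a, ha, b, hb, rfl⟩ := Submodule.mem_sup.1 (hU.ge (mem_Es_f.2 u1))
  rw [map_add, hF a ha, hL b hb, neg_add, add_left_inj] at u2
  obtain ⟨t, ht⟩ := hl ⟨b, hb⟩
  exact ⟨t, by rw [eq_zero_of_neg h2 u2, zero_add]; exact congrArg Subtype.val ht⟩

variable {Γ : Type} [Group Γ] [Finite Γ] {p : ℕ} {ρ : Γ →* O Q} {i j y w : Γ}

/-- `i` is trivial on the fixed space of its square. -/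
theorem fixI (h : Rp p ρ) (c : CD i j y w) (r4 : (ρ (i * i)).rk = 4) (hv : ρ (i * i) v = v) :
    ρ i v = v := by
  have h1 := h.rk_add (i * i)
  have h2 := h.rk_add i
  have h3 : (ρ i).fix ≤ (ρ (i * i)).fix := fun u hu => by
    rw [O.mem_fix] at hu ⊢
    rw [map_mul, O.mul_apply, hu, hu]
  have h4 := Submodule.finrank_mono h3
  obtain ⟨k, hk⟩ := h.rk_even i
  by_cases h5 : finrank K (ρ i).fix = 3
  · exact O.mem_fix.1 (Submodule.eq_of_le_of_finrank_eq h3 (by omega) ▸ O.mem_fix.2 hv)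
  exfalso
  have d1 : ∀ x, IsConj i x → finrank K (ρ x).fix = 1 := fun x hx => by
    have := h.rk_add x
    rw [← Rp.rk_conj hx] at this
    omega
  obtain ⟨v, v0, hv⟩ := finrank_eq_one_iff'.1 (d1 _ (isConj_iff.2 ⟨w, rfl⟩))
  have e : ∀ x, Commute (w * i * w⁻¹) x → ∃ t : K, t ≠ 0 ∧ ρ x v = t • v := fun x hx => by
    obtain ⟨t, ht⟩ := hv ⟨_, comm_mem_fix (hx.symm.map ρ) v.2⟩
    have ht' : ρ x v = t • v := (congrArg Subtype.val ht).symm
    exact ⟨t, fun t0 => v0 (Subtype.ext ((ρ x).injective (by simp [ht', t0]))), ht'⟩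
  obtain ⟨α, -, e1⟩ := e i c.ci
  obtain ⟨β, b0, e2⟩ := e j c.cj'
  obtain ⟨τ, t0, e3⟩ := e y c.cy
  have v0' : (v : V) ≠ 0 := by simpa using v0
  have f1 := congrArg (fun x => ρ x v) (mul_inv_eq_iff_eq_mul.1 c.yi)
  have f2 := congrArg (fun x => ρ x v) (mul_inv_eq_iff_eq_mul.1 c.yj)
  simp only [map_mul, O.mul_apply, e1, e2, e3, map_smul, smul_smul] at f1 f2
  have f3 := smul_left_injective K v0' f1
  have f4 := smul_left_injective K v0' f2
  obtain rfl : α = 1 := mul_left_cancel₀ (mul_ne_zero t0 b0) (by linear_combination -f4)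
  obtain rfl : β = 1 := mul_left_cancel₀ t0 (by linear_combination -f3)
  rw [one_smul] at e1 e2
  have ln : ∀ x, IsConj i x → ρ x v = v → x * x = i * i → ∀ u ∈ (ρ (i * i)).fix,
      ρ x u + u ∈ K ∙ (v : V) := fun x hx h6 h7 u hu => by
    rw [← eq_span_singleton_of_mem_of_finrank_eq_one (d1 x hx) (O.mem_fix.2 h6) v0', O.mem_fix,
      map_add, ← O.mul_apply, ← map_mul, h7, O.mem_fix.1 hu, add_comm]
  have cj : IsConj i j := isConj_iff.2 ⟨y, c.yi⟩
  have ij : i * j * (i * j) = i * i := by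
    rw [← c.yj, conj_mul, c.sq, ← conj_mul, c.yi, c.sq]
  have h6 : (ρ (i * i)).fix ≤ K ∙ (v : V) := fun u hu => by
    have a1 := ln j cj e2 c.sq u hu
    have a2 := ln (i * j) (cj.trans (isConj_iff.2 ⟨y, c.yj⟩))
      (by rw [map_mul, O.mul_apply, e2, e1]) ij u hu
    have a3 := ln i (IsConj.refl i) e1 rfl (ρ j u) (comm_mem_fix
      (Commute.map (by rw [← c.sq]; exact (Commute.refl j).mul_right (Commute.refl j)) ρ) hu)
    have := Submodule.sub_mem _ (Submodule.add_mem _ a1 a2) a3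
    rwa [show ρ j u + u + (ρ (i * j) u + u) - (ρ i (ρ j u) + ρ j u) = (2 : K) • u by
      rw [two_smul, ← O.mul_apply, ← map_mul]; abel, Submodule.smul_mem_iff _ h.two] at this
  have := Submodule.finrank_mono h6
  rw [finrank_span_singleton v0'] at this
  omega

theorem fixC (h : Rp p ρ) (c : CD i j y w) (r4 : (ρ (i * i)).rk = 4) (x : Γ)
    (hv : ρ (x * (i * i) * x⁻¹) v = v) : ρ (x * i * x⁻¹) v = v := by
  have := fixI h c r4 (v := ρ x⁻¹ v) (by
    rw [← O.mul_apply, ← map_mul]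
    conv_rhs => rw [← hv, ← O.mul_apply, ← map_mul]
    congr 2; group)
  rw [map_mul, map_mul, O.mul_apply, O.mul_apply, this, ← O.mul_apply, ← map_mul]; simp

theorem not_CL (h : Rp p ρ) (r4 : ∀ z, Fr z → (ρ z).rk = 4) : ¬ CL Γ := by
  rintro ⟨i, j, y, w, z, c, z1, zz, zi, cz, hT⟩
  have r := r4 _ c.toQ8.fr
  have ii := c.toQ8.sq_sq
  have h0 : ∀ v, ρ (i * i) v = v → ρ z v = v → v = 0 := fun v a b => h.no_fix hT (by
    rintro _ ⟨x, e | e | e, rfl⟩ <;> refine fixC h c r x ?_ <;> rw [e]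
    exacts [a, b, by rw [map_mul, O.mul_apply, b, a]])
  have q : i * i * z * (i * i * z) = 1 := by
    rw [mul_assoc (i * i), ← mul_assoc z, cz.eq, mul_assoc (i * i), zz, mul_one, ii]
  have h1 : (ρ (i * i)).fix ⊔ (ρ z).fix ≤ (ρ (i * i * z)).mov := by
    refine sup_le (fun u hu => ?_) fun u hu => ?_ <;>
      rw [mem_mov_of_inv h.two (by rw [← map_mul, q, map_one]), map_mul, O.mul_apply]
    · have a := O.mem_fix.1 (comm_mem_fix (cz.map ρ) hu)
      rw [a, eq_neg_iff_add_eq_zero]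
      exact h0 _ (by rw [map_add, a, O.mem_fix.1 hu])
        (by rw [map_add, ← O.mul_apply, ← map_mul, zz, map_one, O.one_apply, add_comm])
    · have a := O.mem_fix.1 (comm_mem_fix (cz.symm.map ρ) hu)
      rw [O.mem_fix.1 hu, eq_neg_iff_add_eq_zero]
      exact h0 _ (by rw [map_add, ← O.mul_apply, ← map_mul, ii, map_one, O.one_apply, add_comm])
        (by rw [map_add, a, O.mem_fix.1 hu])
  have h2 := Submodule.finrank_mono h1
  have h3 := Submodule.finrank_sup_add_finrank_inf_eq (ρ (i * i)).fix (ρ z).fix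
  rw [show (ρ (i * i)).fix ⊓ (ρ z).fix = ⊥ from eq_bot_iff.2 fun v hv =>
    h0 v (O.mem_fix.1 hv.1) (O.mem_fix.1 hv.2), finrank_bot] at h3
  have h4 := h.w24 _ (fun e => zi (by rw [← mul_one z, ← e, ← mul_assoc, cz.eq, mul_assoc, zz,
    mul_one])) q
  have h5 := h.w24 z z1 zz
  have h6 := h.rk_add z
  have h7 := h.rk_add (i * i)
  rw [← O.rk] at h2
  omega

theorem not_PS3 (h : Rp p ρ) (r4 : ∀ z, Fr z → (ρ z).rk = 4) : ¬ PS3 Γ := by
  rintro ⟨i, j, y, g, k, c, y3, cy, g5, hc, hk, hp, hT⟩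
  have r := r4 _ c.toQ8.fr
  have ii := c.toQ8.sq_sq
  have d3 := h.rk_add (i * i)
  have e5 : cp g k (i * i) = cp g (k % 5) (i * i) := by rw [cp, cp, pow_eq_pow_mod k g5]
  have cm : ∀ m n, Commute (cp g m (i * i)) (cp g (m + n) (i * i)) := fun m n => by
    simpa only [cp_cp] using cp_comm g m (hc n)
  have zz : ∀ m, cp g m (i * i) * cp g m (i * i) = 1 := fun m => by rw [← cp_mul, ii]; simp [cp]
  obtain ⟨l, l0, l1, l2, hl⟩ := five h.two h.dim (fun m => ρ (cp g m (i * i))) (ρ g)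
    (fun m => by rw [← map_mul, zz, map_one]) (fun m n => Commute.map (by
      rcases le_total m n with e | e <;> obtain ⟨d, rfl⟩ := Nat.exists_eq_add_of_le e
      exacts [cm m d, (cm n d).symm]) ρ)
    (fun m => by rw [← map_mul, ← map_mul]; simp only [cp, pow_succ']; congr 1; group)
    (by simp [cp, g5]) (by simp only [cp_zero, ← map_mul, hp, map_one])
    (by rw [cp_zero]; omega) (r := k % 5) (fun e => hk (by rw [e5, e, cp_zero]))
    (Nat.mod_lt _ (by decide))
  have cz := (hc k).map ρ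
  have z2 := zz k
  simp only [cp_zero, ← e5] at l1 l2 hl
  generalize cp g k (i * i) = z at *
  have z3 : ∀ u, ρ z (ρ z u) = u := fun u => by
    rw [← O.mul_apply, ← map_mul, z2, map_one, O.one_apply]
  have zU : ∀ u, ρ (i * i) u = u → ρ (i * i) (ρ z u) = ρ z u := fun u hu =>
    O.mem_fix.1 (comm_mem_fix cz.symm (O.mem_fix.2 hu))
  have yU : ∀ u, ρ (i * i) u = u → ρ (i * i) (ρ y u) = ρ y u := fun u hu =>
    O.mem_fix.1 (comm_mem_fix (Commute.map (show y * (i * i) = i * i * y by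
      rw [← mul_inv_eq_iff_eq_mul, ← conj_mul, c.yi, c.sq]) ρ) (O.mem_fix.2 hu))
  have y3' : ∀ u, ρ y (ρ y (ρ y u)) = u := fun u => by
    rw [← O.mul_apply, ← O.mul_apply, ← map_mul, ← map_mul, ← pow_three', y3, map_one, O.one_apply]
  -- the action of `z` on the fixed space of `i * i`
  have hz : ∀ u, ρ (i * i) u = u → ∃ t : K, t • l = u - ρ z u ∧ t * Q l = polar Q l u :=
    fun u hu => by
      obtain ⟨t, ht⟩ := hl (u - ρ z u) (by rw [map_sub, hu, zU u hu]) (by rw [map_sub, z3, neg_sub])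
      refine ⟨t, ht, mul_left_cancel₀ h.two ?_⟩
      have := congrArg (polar Q l) ht
      rw [polar_smul_right, polar_self', polar_sub_right, ← (ρ z).map_polar l (ρ z u), z3, l2,
        polar_neg_left, smul_eq_mul] at this
      linear_combination this
  have ql : Q l ≠ 0 := fun q => l0 (h.nd.1 l fun x => by
    obtain ⟨t, -, ht⟩ := hz (x + ρ (i * i) x) (by
      rw [map_add, ← O.mul_apply, ← map_mul, ii, map_one, O.one_apply, add_comm])
    rw [q, mul_zero, polar_add_right, ← l1, (ρ (i * i)).map_polar, l1, ← two_mul, eq_comm,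
      mul_eq_zero, or_iff_right h.two] at ht
    exact ht)
  have hW : ∀ W : Submodule K V, (∀ u ∈ W, ρ (i * i) u = u ∧ ρ z u = u) →
      (∀ u ∈ W, ρ y u ∈ W) → W = ⊥ := fun W w1 w2 => by
    refine h.eq_bot' hT W ?_ ?_
    · rintro _ (⟨x, e | e, rfl⟩ | rfl) u hu
      · rwa [fixC h c r x (by rw [e]; exact (w1 u hu).1)]
      · rwa [fixC h c r x (by rw [e]; exact (w1 u hu).2)]
      · exact w2 u hu
    · have := Submodule.finrank_mono (show W ≤ (ρ (i * i)).fix from fun u hu =>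
        O.mem_fix.2 (w1 u hu).1)
      omega
  have h0 : ∀ u, ρ (i * i) u = u → ρ z u = u → ρ y u = u → u = 0 := fun u a b e =>
    Submodule.span_singleton_eq_bot.1 (hW (K ∙ u) (fun x hx => by
      obtain ⟨t, rfl⟩ := Submodule.mem_span_singleton.1 hx
      rw [map_smul, map_smul, a, b]; exact ⟨rfl, rfl⟩) fun x hx => by
      obtain ⟨t, rfl⟩ := Submodule.mem_span_singleton.1 hx
      rwa [map_smul, e])
  have hA : ρ y (ρ y l) ∉ Submodule.span K {l, ρ y l} := fun n => by
    have a1 := hW ((ρ (i * i)).fix ⊓ perp Q (Submodule.span K {l, ρ y l})) (fun u hu => by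
      obtain ⟨t, t1, t2⟩ := hz u (O.mem_fix.1 hu.1)
      rw [(mem_perp_span_pair.1 hu.2).1, mul_eq_zero, or_iff_left ql] at t2
      rw [t2, zero_smul, eq_comm, sub_eq_zero] at t1
      exact ⟨O.mem_fix.1 hu.1, t1.symm⟩) fun u hu =>
      ⟨O.mem_fix.2 (yU u (O.mem_fix.1 hu.1)), mem_perp_span_pair.2 ⟨by
        rw [← y3' l, (ρ y).map_polar]; exact hu.2 _ n, by
        rw [(ρ y).map_polar]; exact (mem_perp_span_pair.1 hu.2).1⟩⟩
    have a2 := Submodule.finrank_sup_add_finrank_inf_eq (ρ (i * i)).fix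
      (perp Q (Submodule.span K {l, ρ y l}))
    have a3 := finrank_perp h.nd (Submodule.span K {l, ρ y l})
    have a4 := Submodule.finrank_le ((ρ (i * i)).fix ⊔ perp Q (Submodule.span K {l, ρ y l}))
    have a5 : finrank K (Submodule.span K {l, ρ y l}) ≤ 2 := by
      classical
      exact (finrank_span_le_card _).trans (by simpa using Finset.card_le_two)
    rw [a1, finrank_bot] at a2
    rw [h.dim] at a3 a4
    omega
  obtain ⟨v, v0, v1, v2⟩ : ∃ v, v ≠ 0 ∧ ρ (i * i) v = v ∧ ρ y v = v := by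
    refine ⟨l + ρ y l + ρ y (ρ y l), fun e => hA ?_, ?_, ?_⟩
    · rw [← neg_eq_iff_add_eq_zero] at e
      exact e ▸ neg_mem (add_mem (Submodule.subset_span (by simp)) (Submodule.subset_span (by simp)))
    · rw [map_add, map_add, l1, yU l l1, yU _ (yU l l1)]
    · rw [map_add, map_add, y3']; abel
  obtain ⟨t, t1, -⟩ := hz v v1
  have t0 : t ≠ 0 := fun e => v0 (h0 v v1 (by
    rw [e, zero_smul, eq_comm, sub_eq_zero] at t1; exact t1.symm) v2)
  -- `y` maps `z v` to a multiple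
  obtain ⟨τ, hτ⟩ : ∃ τ : K, ρ y (ρ z v) = τ • ρ z v := by
    have b1 := zU _ (yU _ (zU v v1))
    have b2 : ρ y (ρ z (ρ y (ρ z v))) = ρ z (ρ y (ρ z v)) := by
      have := congrArg (fun x => ρ x v) cy.eq
      rw [inv_eq_of_mul_eq_one_right z2] at this
      simp only [map_mul, O.mul_apply, v2] at this
      exact this.symm
    obtain ⟨t', t2, -⟩ := hz _ b1
    have := h0 (ρ z (ρ y (ρ z v)) - (t' / t) • v) (by rw [map_sub, map_smul, b1, v1]) (by
      rw [map_sub, map_smul, eq_comm, sub_eq_sub_iff_sub_eq_sub, ← t2, ← smul_sub, ← t1, smul_smul,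
        div_mul_cancel₀ _ t0]) (by rw [map_sub, map_smul, b2, v2])
    exact ⟨t' / t, by rw [← map_smul, ← sub_eq_zero.1 this, z3]⟩
  by_cases e : τ = 1
  · rw [e, one_smul] at hτ
    have b1 := h0 (v + ρ z v) (by rw [map_add, v1, zU v v1]) (by rw [map_add, z3, add_comm])
      (by rw [map_add, v2, hτ])
    have b2 : ρ y l = l := smul_right_injective V t0 (by
      simp only []; rw [← map_smul, t1, map_sub, v2, hτ])
    exact hA (by rw [b2, b2]; exact Submodule.subset_span (by simp))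
  have zv : ρ z v ≠ 0 := fun n => v0 (by rw [← z3 v, n, map_zero])
  have b1 : τ * τ * τ = 1 := smul_left_injective K zv (by
    have := y3' (ρ z v)
    simp only [hτ, map_smul, smul_smul] at this
    simpa only [one_smul, mul_assoc] using this)
  have b2 : Q v = 0 := by
    have := (ρ y).map_Q (ρ z v)
    rw [hτ, Q_smul, (ρ z).map_Q] at this
    by_contra n
    exact e (by rw [← b1, (mul_left_eq_self₀.1 this).resolve_right n, one_mul])
  have b3 : polar Q v (ρ z v) = 0 := by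
    have := (ρ y).map_polar v (ρ z v)
    rw [hτ, v2, polar_smul_right, smul_eq_mul] at this
    exact (mul_left_eq_self₀.1 this).resolve_left e
  have b4 := congrArg Q t1
  rw [Q_smul, Q_sub, (ρ z).map_Q, b2, b3] at b4
  exact mul_ne_zero (mul_ne_zero t0 t0) ql (by rw [b4]; ring)

theorem jobCL : JobCL.{u} := fun hW p K _ V _ _ _ Q Γ _ _ ρ h =>
  have r4 := (hW p K V Q Γ ρ h).2.1
  ⟨not_CL h r4, not_PS3 h r4⟩

end H44.O7CL
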