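/- Tower O8, slot FIN: the almost simple groups. -/
import Cfsg.Agent.H74.O8Kit
import Cfsg.Agent.H19.L3Norm
import Cfsg.Agent.S0243
import Cfsg.Agent.S2119
import Cfsg.Agent.S2476

set_option autoImplicit false

namespace H44.O8F

open Cfsg Subgroup H74.OC H74.O8

universe u

variable {G : Type u} [Group G] [Finite G] {a : G} {p : ℕ} {N : Subgroup G}

omit [Finite G] in
theorem ncard_cls (a : G) : {b | IsConj a b}.ncard = (centralizer ({a} : Set G)).index := by
  rw [Subgroup.centralizer_eq_comap_stabilizer]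
  refine Eq.trans ?_ (index_comap_of_surjective (f := (ConjAct.toConjAct (G := G)).toMonoidHom)
    (MulAction.stabilizer (ConjAct G) a) (ConjAct.toConjAct (G := G)).surjective).symm
  rw [MulAction.index_stabilizer]
  exact congrArg Set.ncard (Set.ext fun b => by
    rw [ConjAct.mem_orbit_conjAct, isConj_comm]; rfl)

theorem pg (h : Sp 8 G) (hp : p.Prime) (h5 : 5 ≤ p) (ha : orderOf a = p) :
    IsPGroup p (centralizer ({a} : Set G)) := fun x => ⟨1, by
  rw [pow_one, Subtype.ext_iff, coe_pow, coe_one, ← orderOf_dvd_iff_pow_eq_one]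
  have h1 := h x
  have h2 := orderOf_pos (x : G)
  by_cases d : p ∣ orderOf (x : G)
  · obtain ⟨k, hk⟩ := d
    rcases k with _ | _ | k
    · omega
    · rw [hk]; simp
    · nlinarith
  · have := h.mul_le (mem_centralizer_singleton_iff.1 x.2)
      (ha ▸ (hp.coprime_iff_not_dvd.2 d).symm)
    rw [show orderOf (x : G) = 1 by rw [ha] at this; nlinarith]
    exact one_dvd p⟩

theorem md (h : Sp 8 G) (hp : p.Prime) (h5 : 5 ≤ p) (ha : orderOf a = p) {U : Subgroup G}
    (hn : a ∈ normalizer (U : Set G)) : Nat.card U % p = 0 ∨ Nat.card U % p = 1 := by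
  have := Fact.mk hp
  have h1 := card_modEq hp ha hn
  obtain ⟨k, hk⟩ := ((pg h hp h5 ha).to_le (inf_le_right (a := U))).exists_card_eq
  rw [hk, Nat.ModEq] at h1
  rcases k with _ | k
  · exact .inr (h1.trans (Nat.mod_eq_of_lt (by simpa using hp.one_lt)))
  · exact .inl (h1.trans (Nat.mod_eq_zero_of_dvd (dvd_pow_self p k.succ_ne_zero)))

theorem nd [N.Normal] (h : Sp 8 G) (hp : p = 5 ∨ p = 7) (hN : (Nat.card N).factorization 3 = 2) :
    ¬ p ∣ N.index := fun d => by
  have pp : p.Prime := by rcases hp with rfl | rfl <;> norm_num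
  have := Fact.mk pp
  have := Fact.mk Nat.prime_three
  obtain ⟨P⟩ : Nonempty (Sylow 3 N) := inferInstance
  rw [← relIndex_top_right, ← P.normalizer_sup_eq_top, relIndex_sup_right] at d
  obtain ⟨x, hx⟩ := exists_prime_orderOf_dvd_card' p (d.trans (relIndex_dvd_card _ _))
  have := md h pp (by omega) ((orderOf_coe x).trans hx) x.2
  rw [card_map_of_injective N.subtype_injective, P.card_eq_multiplicity, hN] at this
  rcases hp with rfl | rfl <;> norm_num at this

theorem cls [N.Normal] (h : Sp 8 G) (hp : p = 5 ∨ p = 7) (hN : (Nat.card N).factorization 3 = 2)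
    (h2 : ¬ p * p ∣ Nat.card N) (ha : orderOf a = p) :
    {b | IsConj a b} ⊆ N ∧ Nat.card G ≤ p * {b | IsConj a b}.ncard := by
  have pp : p.Prime := by rcases hp with rfl | rfl <;> norm_num
  have := Fact.mk pp
  have c := pp.coprime_iff_not_dvd.2 (nd h hp hN)
  constructor
  · intro b hb
    obtain ⟨g, rfl⟩ := isConj_iff.1 hb
    refine Normal.conj_mem ‹_› a ?_ g
    rw [← QuotientGroup.eq_one_iff, ← orderOf_eq_one_iff]
    exact Nat.eq_one_of_dvd_coprimes c (ha ▸ orderOf_map_dvd (QuotientGroup.mk' N) a)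
      (orderOf_dvd_natCard _)
  · obtain ⟨k, hk⟩ := (pg h pp (by omega) ha).exists_card_eq
    rw [ncard_cls, ← (centralizer ({a} : Set G)).card_mul_index, hk]
    refine Nat.mul_le_mul_right _ ?_
    rcases k with _ | _ | k
    · simpa using pp.one_le
    · simp
    · refine absurd ((c.mul_left c).dvd_of_dvd_mul_right ?_) h2
      rw [N.card_mul_index]
      exact (Dvd.intro_left (p ^ k) (by rw [hk]; ring)).trans (card_subgroup_dvd_card _)

theorem jobFIN : JobFIN.{u} := by
  intro G _ _ N h ⟨a, b, c, ha, hb, hc⟩ hN k hC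
  have m5 := md h (by norm_num) le_rfl ha (U := N) (by simp [normalizer_eq_top])
  have m7 := md h (by norm_num) (by norm_num) hb (U := N) (by simp [normalizer_eq_top])
  rcases k with ⟨⟨e⟩⟩ | ⟨⟨e⟩⟩ | ⟨⟨e⟩⟩ | ⟨⟨e⟩⟩ | ⟨F, _, _, hF, ⟨e⟩⟩
  · have := two_mul_nat_card_alternatingGroup (α := Fin 5)
    rw [Nat.card_perm, Nat.card_fin, ← Nat.card_congr e.toEquiv] at this
    simp only [Nat.factorial] at this
    omega
  · have := two_mul_nat_card_alternatingGroup (α := Fin 6)
    rw [Nat.card_perm, Nat.card_fin, ← Nat.card_congr e.toEquiv] at this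
    simp only [Nat.factorial] at this
    omega
  · exfalso
    obtain ⟨σ, hσ⟩ := (Agent.S2119.result 7 (by norm_num) (by norm_num)).2
      (MulAut.congr e (MulAut.conjNormal c))
    have h1 : σ ^ 420 = 1 := by
      rw [← orderOf_dvd_iff_pow_eq_one, ← Equiv.Perm.lcm_cycleType, Multiset.lcm_dvd]
      intro n hn
      have h2 := (Equiv.Perm.le_card_support_of_mem_cycleType hn).trans (Finset.card_le_univ _)
      have h3 := Equiv.Perm.two_le_of_mem_cycleType hn
      rw [Fintype.card_fin] at h2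
      interval_cases n <;> norm_num
    have h2 : MulAut.conjNormal (H := N) (c ^ 420) = 1 := (MulAut.congr e).injective (by
      rw [map_pow, map_pow, ← hσ, ← map_pow, h1, map_one, map_one])
    have h3 : c ^ 420 ∈ centralizer (N : Set G) := fun x hx =>
      (mul_inv_eq_iff_eq_mul.1 (congrArg (fun φ : MulAut N => (φ ⟨x, hx⟩ : G)) h2)).symm
    rw [hC, mem_bot, ← orderOf_dvd_iff_pow_eq_one, hc] at h3
    norm_num at h3
  · rw [Nat.card_congr e.toEquiv, H19.card_sl32] at m5
    omega
  refine ⟨?_, F, _, _, hF, ⟨e⟩⟩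
  have h1 := Agent.S0243.result hF 3 (by decide)
  have h2 : Nat.card N = 20160 := by
    rw [← Nat.card_congr e.toEquiv] at h1
    simp only [Fin.prod_univ_three] at h1
    norm_num at h1; omega
  have h3 : (Nat.card N).factorization 3 = 2 := by rw [h2]; decide +kernel
  obtain ⟨a1, a2⟩ := cls h (.inl rfl) h3 (by rw [h2]; norm_num) ha
  obtain ⟨b1, b2⟩ := cls h (.inr rfl) h3 (by rw [h2]; norm_num) hb
  have h4 := Set.ncard_le_ncard (Set.union_subset a1 b1)
  rw [Set.ncard_union_eq (Set.disjoint_left.2 fun x x1 x2 => by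
    obtain ⟨g, rfl⟩ := isConj_iff.1 (IsConj.trans x1 x2.symm)
    rw [← MulAut.conj_apply, MulEquiv.orderOf_eq, ha] at hb
    omega), ← Nat.card_coe_set_eq (N : Set G), SetLike.coe_sort_coe, h2] at h4
  have h5 := N.card_mul_index
  have h6 : N.index ≠ 1 := fun i => by
    have : Fact (Nat.Prime 2) := ⟨Nat.prime_two⟩
    have : CharP F 2 := by
      obtain ⟨q, hq⟩ := CharP.exists F
      obtain ⟨n, h7, h8⟩ := FiniteField.card F q
      obtain rfl : q = 2 := (Nat.prime_dvd_prime_iff_eq h7 Nat.prime_two).1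
        (h7.dvd_of_dvd_pow (n := 2) (by rw [show 2 ^ 2 = q ^ (n : ℕ) by omega]; simp))
      exact hq
    have := (Agent.S2476.result (F := F) 2).le ⟨e ⟨c, index_eq_one.1 i ▸ mem_top c⟩, rfl⟩
    rw [e.orderOf_eq, ← orderOf_coe, hF] at this
    simp only [hc, Set.mem_ofPred_eq] at this
    norm_num at this
  have h7 := N.index_ne_zero_of_finite
  rw [h2] at h5
  omega

end H44.O8F
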