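/- Counting elements of given order in sharply triply transitive groups (row S3648). -/
import Cfsg.Agent.H70.L2Rec
import Cfsg.Agent.H88.Sharp3b
import Cfsg.Agent.S0266

set_option autoImplicit false

namespace H44.OrdA
open Subgroup MulAction H30
open scoped MatrixGroups

variable {G Ω : Type*} [Group G] [Finite G] [MulAction G Ω] {q : ℕ}

/-- the number of elements of order `k` -/
noncomputable def m (G : Type*) [Group G] (k : ℕ) : ℕ := Nat.card {g : G // orderOf g = k}

/-- sharply triply transitive of degree `q + 1` -/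
structure S3 (G Ω : Type*) [Group G] [MulAction G Ω] (q : ℕ) : Prop where
  Z : PreZ G Ω
  deg : Nat.card Ω = q + 1
  st : ∀ {a b : Ω}, a ≠ b → Nat.card ↥(stabilizer G a ⊓ stabilizer G b) + 1 = q

omit [Finite G] in
theorem m_eq (k : ℕ) : m G k = {g : G | orderOf g = k}.ncard := rfl

omit [Finite G] in
theorem ord2 {t : G} : orderOf t = 2 ↔ t ≠ 1 ∧ t * t = 1 :=
  ⟨fun h => ⟨by rintro rfl; simp at h, by rw [← pow_two, ← h, pow_orderOf_eq_one]⟩,
    fun h => orderOf_eq_prime (by rw [pow_two, h.2]) h.1⟩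

namespace S3
variable (S : S3 G Ω q)
include S

theorem ker_card (a : Ω) : Nat.card (S.Z.ker a) = q := by
  have := S.Z.card_ker a
  rw [S.deg] at this
  omega

theorem swap_card {a b : Ω} (hab : a ≠ b) :
    {g : G | g • a = b ∧ g • b = a}.ncard + 1 = q := by
  obtain ⟨s, sa, sb⟩ := S.Z.exists_swap hab
  rw [← S.st hab, ← Nat.card_coe_set_eq]
  congr 1
  refine Nat.card_congr ⟨fun g => ⟨s⁻¹ * g, ?_⟩, fun h => ⟨s * h, ?_⟩, fun g => by simp,
    fun h => by simp⟩
  · exact mem_stab2.mpr ⟨by rw [mul_smul, g.2.1, inv_smul_eq_iff, sa],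
      by rw [mul_smul, g.2.2, inv_smul_eq_iff, sb]⟩
  · exact ⟨by rw [mul_smul, h.2.1, sa], by rw [mul_smul, h.2.2, sb]⟩

theorem fix_card (hq : Odd q) (a : Ω) : {t : G | orderOf t = 2 ∧ t • a = a}.ncard = q := by
  classical
  have := S.Z.finite_Ω
  have ex : ∀ b : {b // b ≠ a}, ∃ t, orderOf t = 2 ∧ t • a = a ∧ t • b.1 = b.1 := fun b => by
    obtain ⟨t, ht, t1, t2⟩ := H88.preZ_exists_invol S.Z (a := a) (b := b.1) (by
      have := S.st b.2.symm
      rw [Nat.odd_iff] at hq
      rw [Nat.even_iff]; omega)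
    exact ⟨t, ord2.mpr ⟨t1, t2⟩, ht.1, ht.2⟩
  choose f hf using ex
  have e : Nat.card {b // b ≠ a} = q := by
    have := Fintype.ofFinite Ω
    have h := S.deg
    rw [Nat.card_eq_fintype_card] at h ⊢
    rw [Fintype.card_subtype_compl, h]
    simp
  rw [← e, ← Nat.card_coe_set_eq]
  refine (Nat.card_congr (Equiv.ofBijective (fun b => ⟨f b, (hf b).1, (hf b).2.1⟩) ⟨?_, ?_⟩)).symm
  · intro b c h
    have h' : f b = f c := congrArg Subtype.val h
    exact Subtype.ext ((S.Z.fix_pair (ord2.mp (hf c).1).1 c.2.symm (hf c).2.1 (hf c).2.2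
      (h' ▸ (hf b).2.2)).resolve_left b.2)
  · rintro ⟨t, ht, ta⟩
    obtain ⟨-, c, hc, tc⟩ := S.Z.exists_fix_of_not_mem_ker ta fun h => by
      have := orderOf_dvd_natCard _ h
      rw [ht, S.ker_card] at this
      exact Nat.not_even_iff_odd.mpr hq (even_iff_two_dvd.mpr this)
    exact ⟨⟨c, hc⟩, Subtype.ext (H88.preZ_invol_unique S.Z hc.symm ⟨(hf _).2.1, (hf _).2.2⟩
      (ord2.mp (hf _).1).1 (ord2.mp (hf _).1).2 ⟨ta, tc⟩ (ord2.mp ht).1 (ord2.mp ht).2)⟩

/-- there are `q²` involutions iff every swap is an involution -/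
theorem invol_iff (hq : Odd q) (a : Ω) :
    m G 2 = q ^ 2 ↔ ∀ b, b ≠ a → ∀ g : G, g • a = b → g • b = a → g * g = 1 := by
  classical
  have := S.Z.finite_Ω
  have := Fintype.ofFinite Ω
  have := Fintype.ofFinite G
  let n : Ω → ℕ := fun b => {t : G | orderOf t = 2 ∧ t • a = b}.ncard
  have sub : ∀ b, {t : G | orderOf t = 2 ∧ t • a = b} ⊆ {g : G | g • a = b ∧ g • b = a} :=
    fun b t ht => ⟨ht.2, by rw [← ht.2, ← mul_smul, (ord2.mp ht.1).2, one_smul]⟩
  have le : ∀ b ∈ Finset.univ.erase a, n b ≤ q - 1 := fun b hb => by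
    have := S.swap_card (Finset.mem_erase.mp hb).1.symm
    have := Set.ncard_le_ncard (sub b)
    simp only [n]; omega
  have tot : m G 2 = q + ∑ b ∈ Finset.univ.erase a, n b := by
    rw [← S.fix_card hq a, Finset.add_sum_erase _ n (Finset.mem_univ a), m,
      Nat.card_eq_fintype_card, Fintype.card_subtype, Finset.card_eq_sum_card_fiberwise
        (f := fun t => t • a) (t := Finset.univ) fun _ _ => Finset.mem_univ _]
    refine Finset.sum_congr rfl fun b _ => ?_
    simp only [n]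
    rw [← Set.ncard_coe_finset]
    congr 1
    ext t
    simp
  have c : ∑ b ∈ Finset.univ.erase a, (q - 1) = q * (q - 1) := by
    rw [Finset.sum_const, Finset.card_erase_of_mem (Finset.mem_univ a), Finset.card_univ,
      ← Nat.card_eq_fintype_card, S.deg]
    simp
  have q2 : q ^ 2 = q + q * (q - 1) := by
    obtain ⟨r, rfl⟩ := hq
    simp only [Nat.add_sub_cancel]; ring
  rw [tot, q2, Nat.add_left_cancel_iff, ← c, Finset.sum_eq_sum_iff_of_le le]
  constructor
  · intro h b hb g ga gb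
    have h1 := h b (Finset.mem_erase.mpr ⟨hb, Finset.mem_univ b⟩)
    have h2 := S.swap_card hb.symm
    have := Set.eq_of_subset_of_ncard_le (sub b) (by simp only [n] at h1; omega)
    exact (ord2.mp (this.ge (show g ∈ {g : G | g • a = b ∧ g • b = a} from ⟨ga, gb⟩)).1).2
  · intro h b hb
    have hb' := (Finset.mem_erase.mp hb).1
    have h2 := S.swap_card hb'.symm
    have : {t : G | orderOf t = 2 ∧ t • a = b} = {g : G | g • a = b ∧ g • b = a} :=
      (sub b).antisymm fun g hg => ⟨ord2.mpr ⟨by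
        rintro rfl; exact hb' (by simpa using hg.1.symm), h b hb' g hg.1 hg.2⟩, hg.1⟩
    simp only [n, this]; omega

theorem ker_conj {a : Ω} {u v : G} (hu : u ∈ S.Z.ker a) (hv : v ∈ S.Z.ker a) (u1 : u ≠ 1)
    (v1 : v ≠ 1) : IsConj u v := by
  have := S.Z.nontrivial
  obtain ⟨b, hb⟩ := exists_ne a
  have k : ∀ u ∈ S.Z.ker a, u ≠ 1 → u • b ≠ a ∧ u • b ≠ b := fun u hu u1 =>
    ⟨PreZ.smul_ne_of_fix hu.1 hb, fun e => u1 (S.Z.eq_one_of_mem_ker hu hb e)⟩
  obtain ⟨h, hh, e⟩ := H88.preZ_exists_smul_of_card S.Z hb.symm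
    (by rw [S.deg, ← S.st hb.symm]) (k u hu u1) (k v hv v1)
  refine isConj_iff.mpr ⟨h, S.Z.eq_of_mem_ker_of_smul_eq (S.Z.conj_mem_ker_of_fix hu hh.1) hv hb ?_⟩
  rw [mul_smul, mul_smul, inv_smul_eq_iff.mpr (mem_stabilizer_iff.mp hh.2).symm, e]

theorem card_eq : Nat.card G = q * (q ^ 2 - 1) := by
  obtain ⟨a, b, -, hab, -⟩ := S.Z.big
  rw [S.Z.card_group hab, S.ker_card, ← S.st hab]
  generalize Nat.card ↥(stabilizer G a ⊓ stabilizer G b) = r
  rw [show (r + 1) ^ 2 - 1 = r * (r + 2) from Nat.sub_eq_of_eq_add (by ring)]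
  ring

/-- the values of `nse` -/
theorem vals {p f : ℕ} (hp : p.Prime) (hf : f ≠ 0) (hq : q = p ^ f) (k : ℕ) :
    m G k = 1 ∨ m G k = q ^ 2 - 1 ∨ q ∣ m G k := by
  have := Fact.mk hp
  have := S.Z.finite_Ω
  have pq : p ∣ q := hq ▸ dvd_pow_self p hf
  have q0 : 0 < q := hq ▸ pow_pos hp.pos f
  have mem : ∀ g : G, orderOf g = p → ∃ c, g ∈ S.Z.ker c := fun g hg => by
    obtain ⟨c, hc⟩ := (H70.L2.isPGroup_zpowers (hg ▸ pow_orderOf_eq_one g)
      ).nonempty_fixed_point_of_prime_not_dvd_card Ω (by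
        rw [S.deg]; exact fun h => hp.one_lt.ne' (Nat.dvd_one.mp ((Nat.dvd_add_right pq).mp h)))
    have gc : g • c = c := hc ⟨g, mem_zpowers g⟩
    refine ⟨c, by_contra fun h => ?_⟩
    obtain ⟨-, d, hd, gd⟩ := S.Z.exists_fix_of_not_mem_ker gc h
    have h1 := orderOf_dvd_natCard (stabilizer G c ⊓ stabilizer G d) ⟨gc, gd⟩
    rw [hg] at h1
    exact hp.one_lt.ne' (Nat.dvd_one.mp ((Nat.dvd_add_right h1).mp (S.st hd.symm ▸ pq)))
  have ord : ∀ c, ∀ g ∈ S.Z.ker c, g ≠ 1 → orderOf g = p := fun c g hg g1 => by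
    obtain ⟨u, hu, ou⟩ := H46.cauchy (H := S.Z.ker c) hp (by rw [S.ker_card]; exact pq)
    obtain ⟨x, rfl⟩ := isConj_iff.mp
      (S.ker_conj hu hg (by rintro rfl; simp at ou; exact hp.one_lt.ne ou) g1)
    rw [← ou]; exact (MulAut.conj x).orderOf_eq u
  have ne1 : ∀ g : G, orderOf g = p → g ≠ 1 := by
    rintro _ h rfl
    exact hp.one_lt.ne (by simpa using h)
  by_cases k1 : k = 1
  · left
    rw [k1, m_eq]
    simp
  by_cases kp : k = p
  · right; left
    obtain ⟨a, -⟩ := S.Z.big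
    obtain ⟨u, hu, ou⟩ := H46.cauchy (H := S.Z.ker a) hp (by rw [S.ker_card]; exact pq)
    have e : {g : G | orderOf g = p} = {y | IsConj u y} := by
      ext g
      constructor
      · intro hg
        obtain ⟨c, hc⟩ := mem g hg
        obtain ⟨x, rfl⟩ := S.Z.trans a c
        exact (isConj_iff.mpr ⟨x, rfl⟩).trans (S.ker_conj (S.Z.conj_mem_ker hu x) hc
          (fun e => ne1 u ou (by simpa using e)) (ne1 g hg))
      · intro hg
        obtain ⟨x, rfl⟩ := isConj_iff.mp hg
        exact ((MulAut.conj x).orderOf_eq u).trans ou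
    have e2 : centralizer ({u} : Set G) = S.Z.ker a :=
      le_antisymm (S.Z.centralizer_le_ker hu (ne1 u ou)) fun v hv => by
        have := S.Z.nontrivial
        obtain ⟨b, hb⟩ := exists_ne a
        exact mem_centralizer_singleton_iff.mpr (H88.preZ_ker_comm_of_large S.Z hb.symm
          (by rw [S.deg, ← S.st hb.symm]) v hv u hu)
    have e3 := (S.Z.ker a).card_mul_index
    rw [S.ker_card, S.card_eq] at e3
    rw [kp, m_eq, e, H4.ncard_isConj, H4.ind, e2]
    exact Nat.eq_of_mul_eq_mul_left q0 e3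
  · right; right
    rw [m_eq]
    refine H70.L2.dvd_ncard_of_conj _ (fun x hx g => ((MulAut.conj g).orderOf_eq x).trans hx)
      fun x hx => ?_
    have h1 : ¬ p ∣ Nat.card (centralizer ({x} : Set G)) := fun h => by
      obtain ⟨u, hu, ou⟩ := H46.cauchy hp h
      obtain ⟨c, hc⟩ := mem u ou
      exact kp (hx.symm.trans (ord c x (S.Z.mem_ker_of_comm hc (ne1 u ou)
        (mem_centralizer_singleton_iff.mp hu).symm) (by rintro rfl; exact k1 (by simpa using hx.symm))))
    have h2 := (centralizer ({x} : Set G)).card_mul_index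
    rw [S.card_eq] at h2
    refine Nat.Coprime.dvd_of_dvd_mul_left ?_ (Dvd.intro _ h2.symm)
    rw [hq]
    exact ((Nat.Prime.coprime_iff_not_dvd hp).mpr h1).pow_left f

end S3

theorem s3_pgl (F : Type*) [Field F] [Fintype F] :
    S3 PGL(2, F) (Projectivization F (Fin 2 → F)) (Fintype.card F) := by
  have hc : Nat.card (Projectivization F (Fin 2 → F)) = Fintype.card F + 1 := by
    rw [Projectivization.card_of_finrank_two F _ (by simp), Nat.card_eq_fintype_card]
  obtain ⟨h3, hs⟩ := Cfsg.Agent.S0266.result (F := F)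
  have := Fintype.one_lt_card (α := F)
  have : Finite (Projectivization F (Fin 2 → F)) := Nat.finite_of_card_ne_zero (by omega)
  have Z : PreZ PGL(2, F) (Projectivization F (Fin 2 → F)) :=
    H88.preZ_of_sharp_three h3 (fun x => eq_bot_iff.mpr fun g hg => hs g (x 0) (x 1) (x 2)
      (x.injective.ne (by decide)) (x.injective.ne (by decide)) (x.injective.ne (by decide))
      (DFunLike.congr_fun hg 0) (DFunLike.congr_fun hg 1) (DFunLike.congr_fun hg 2)) (by omega)
  have := Z.finite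
  exact ⟨Z, hc, fun hab => by have := H88.preZ_card_of_three_trans Z h3 hab; omega⟩

theorem pgl_swap {F : Type*} [Field F] {a b : Projectivization F (Fin 2 → F)} (hb : b ≠ a)
    (g : PGL(2, F)) (ga : g • a = b) (gb : g • b = a) : g * g = 1 := by
  have ga2 : (g * g) • a = a := by rw [mul_smul, ga, gb]
  have gb2 : (g * g) • b = b := by rw [mul_smul, gb, ga]
  obtain ⟨A, rfl⟩ := QuotientGroup.mk_surjective g
  induction a using Projectivization.ind with | h v hv =>
  induction b using Projectivization.ind with | h w hw =>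
  obtain ⟨l, hl⟩ := (Projectivization.mk_eq_mk_iff' F (A • v) w _ hw).mp ga
  obtain ⟨r, hr⟩ := (Projectivization.mk_eq_mk_iff' F (A • w) v _ hv).mp gb
  have n : ∀ c : F, c • v ≠ w := fun c e =>
    hb ((Projectivization.mk_eq_mk_iff' F w v hw hv).mpr ⟨c, e⟩)
  have n' : ∀ c : F, c • w ≠ v := fun c e =>
    hb ((Projectivization.mk_eq_mk_iff' F v w hv hw).mpr ⟨c, e⟩).symm
  have h0 : v + w ≠ 0 := fun e => n (-1) (by rw [neg_one_smul]; exact neg_eq_of_add_eq_zero_right e)
  refine (Cfsg.Agent.S0266.result (F := F)).2 _ _ _ (Projectivization.mk F (v + w) h0) hb.symm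
    (fun e => ?_) (fun e => ?_) ga2 gb2 ?_
  · obtain ⟨c, hc⟩ := (Projectivization.mk_eq_mk_iff' F _ _ h0 hv).mp e.symm
    exact n (c - 1) (by rw [sub_smul, hc]; simp)
  · obtain ⟨c, hc⟩ := (Projectivization.mk_eq_mk_iff' F _ _ h0 hw).mp e.symm
    exact n' (c - 1) (by rw [sub_smul, hc]; simp)
  · refine (Projectivization.mk_eq_mk_iff' F ((A * A) • (v + w)) (v + w) _ h0).mpr ⟨l * r, ?_⟩
    rw [mul_smul A, smul_add A, ← hl, ← hr, smul_add A, smul_comm A, smul_comm A, ← hl, ← hr, smul_smul,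
      smul_smul, mul_comm r, smul_add]

end H44.OrdA
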