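import Cfsg.Agent.H34.R5Spec
import Cfsg.Agent.H84.ItMX1

/-! Tower R5, job X1: `H41.IT.JobMX1` with a prime `s` in place of `2`. -/

set_option autoImplicit false

namespace H44.R5X1

open Cfsg Subgroup H41.IT H84.ItMX1

universe u

theorem cop_of_pe {X : Type*} [Group X] {r s : ℕ} (hr : r.Prime) (hs : s.Prime) (h2 : r ≠ s)
    {g : X} (h : PE r g) : (orderOf g).Coprime s := by
  obtain ⟨k, hk⟩ := h
  rw [hk]
  exact Nat.Coprime.pow_left _ ((Nat.coprime_primes hr hs).2 h2)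

theorem jobX1 : H34.R5.JobX1.{u} := by
  intro X _ _ hsol d t q ht hq hq2 hqd H u hu hd hodd
  have := Fact.mk hq
  have hZ : center X ≤ C u := fun y hy => mem_C.2 (mem_center_iff.1 hy u).symm
  -- non-central elements of prime power order
  have hnc : ∀ s : ℕ, s.Prime → ∀ g : X, PE s g → g ∉ center X → c g = d := fun s hs g hg hz => by
    obtain ⟨k, hk⟩ := hg
    exact (H g ⟨s, k, hs, hk⟩).resolve_left fun e => hz (central_of_c e)
  have heq : ∀ s : ℕ, s.Prime → s ≠ t → ∀ h ∈ C u, PE s h → h ∉ center X → C h = C u :=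
    fun s hs h2 h hh hp hz => (eq_of_le_of_card_ge
      (fun y hy => mem_C.2 (hodd h hh (cop_of_pe hs ht h2 hp) y hy).symm)
      ((hnc s hs h hp hz).trans hd.symm).le).symm
  have ha : ∀ s : ℕ, s.Prime → s ≠ t → ∀ g : X, PE s g → g ∉ center X →
      ∃ h ∈ C u, PE s h ∧ h ∉ center X ∧ C h = C u := fun s hs h2 g hg hz => by
    obtain ⟨h, hh, hp, hz'⟩ := ex_nc hs (C u) hg hz ((hnc s hs g hg hz).trans hd.symm)
    exact ⟨h, hh, hp, hz', heq s hs h2 h hh hp hz'⟩
  -- a non-central `q`-element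
  have hb : ∃ g : X, PE q g ∧ g ∉ center X := by
    by_contra hn
    push Not at hn
    obtain ⟨Q⟩ : Nonempty (Sylow q X) := inferInstance
    have h1 : (Q : Subgroup X) ≤ C u := fun y hy => hZ (hn y (pe_of_pg hq Q.isPGroup' hy))
    apply Q.not_dvd_index
    refine Dvd.dvd.trans ?_ (index_dvd_of_le h1)
    have h2 : (C u).index * d = Nat.card X := by rw [← hd]; exact index_mul_card _
    have hpos : 0 < d := hd ▸ Nat.card_pos
    rw [← h2] at hqd
    exact Nat.dvd_of_mul_dvd_mul_right hpos hqd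
  obtain ⟨g0, hg0, hz0⟩ := hb
  obtain ⟨h, hh, hp, hz, hC⟩ := ha q hq hq2 g0 hg0 hz0
  -- the cores lie in `C u`
  have hcore : ∀ s : ℕ, s.Prime → pCore s X ≤ C u := fun s hs => by
    by_cases h2 : s = t
    · subst h2
      rw [← hC]
      exact pq hs hu (cop_of_pe hq hs hq2 hp) (mem_C.1 hh).symm hC.symm
    by_cases hzz : pCore s X ≤ center X
    · exact hzz.trans hZ
    obtain ⟨g, hg, hgz⟩ := SetLike.not_le_iff_exists.1 hzz
    obtain ⟨h', hh', hp', -, hC'⟩ := ha s hs h2 g (pe_of_pg hs (H2.pCore_isPGroup s X) hg) hgz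
    exact pq hs hp' (cop_of_pe ht hs (Ne.symm h2) hu) (mem_C.1 hh') hC'
  have hF : fittingSubgroup X ≤ C u := by
    rw [H2.fitting_eq_iSup_pCore]
    exact iSup_le fun p => hcore p p.2
  have hhF : h ∈ fittingSubgroup X := H2.centralizer_fitting_le X fun y hy =>
    mem_C.1 (hC ▸ hF hy)
  refine ⟨⟨fun y hy k => ?_⟩, h, hp, hC⟩
  have h1 : k * h * k⁻¹ ∈ C u := hF ((H2.fitting_normal X).conj_mem h hhF k)
  have h2 : PE q (k * h * k⁻¹) := by
    obtain ⟨j, hj⟩ := hp
    exact ⟨j, by rw [← hj]; exact (MulAut.conj k).orderOf_eq h⟩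
  have h3 : k * h * k⁻¹ ∉ center X := fun e => hz (by
    have := (inferInstance : (center X).Normal).conj_mem _ e k⁻¹
    simpa [mul_assoc] using this)
  rw [← heq q hq hq2 _ h1 h2 h3, mem_C]
  exact (mem_C.1 (hC ▸ hy : y ∈ C h)).map (MulAut.conj k)

end H44.R5X1
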