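import Cfsg.Agent.H70.RRSpec
import Cfsg.Agent.H5.FrobCompl
import Cfsg.Agent.H1.InvSylow

/-! Row S3530, slots Kill and K1B of `blueprints/RR.md`. -/

set_option autoImplicit false

namespace H44.RR

open Cfsg Subgroup H24 H70.Sq H10.W H70.RR H98

universe u

section
variable {G H : Type*} [Group G] [Group H] {ψ : G →* H}

theorem ord_dvd_mul (ψ : G →* H) (g : G) : orderOf g ∣ orderOf (ψ g) * Nat.card ψ.ker :=
  orderOf_dvd_of_pow_eq_one (by
    rw [pow_mul]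
    exact orderOf_dvd_iff_pow_eq_one.1 (orderOf_dvd_natCard ψ.ker
      (by rw [MonoidHom.mem_ker, map_pow, pow_orderOf_eq_one])))

theorem dvd_ord_map {g : G} {a : ℕ} (ha : a.Prime) (h : a ∣ orderOf g) (k : ¬ a ∣ Nat.card ψ.ker) :
    a ∣ orderOf (ψ g) := (ha.dvd_mul.1 (h.trans (ord_dvd_mul ψ g))).resolve_right k

theorem mem_of_pow {X : Subgroup H} {h : H} {a c : ℕ} (hc : a.Coprime c) (h1 : h ^ a ∈ X)
    (h2 : h ^ c ∈ X) : h ∈ X := by
  have := mul_mem (zpow_mem h1 (Nat.gcdA a c)) (zpow_mem h2 (Nat.gcdB a c))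
  rwa [← zpow_natCast, ← zpow_natCast, ← zpow_mul, ← zpow_mul, ← zpow_add, ← Nat.gcd_eq_gcd_ab, hc,
    Nat.cast_one, zpow_one] at this

theorem ord_lift [Finite G] {K : Subgroup G} {T : Subgroup H} (h : T ≤ K.map ψ) {n : ℕ} (hn : Ord T n) :
    Ord K n := by
  obtain ⟨⟨t, ht⟩, rfl⟩ := hn
  obtain ⟨g, hg, rfl⟩ := h ht
  exact (ord_mem hg).of_dvd ((orderOf_coe (⟨ψ g, ht⟩ : T)).symm ▸ orderOf_map_dvd ψ g)

theorem fr_of_ns {T : Type*} [Group T] {e : ℕ} (h : NSd T e) : Fr1 T e 2 :=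
  let ⟨S, _, x, hx, k⟩ := h
  ⟨S, x, S.isPGroup', hx, k⟩

theorem sol_St {T : Subgroup H} {l : ℕ} (U : Sylow l T)
    (h : Group.IsSolvable (normalizer ((U : Subgroup T) : Set T))) : Group.IsSolvable ↥(St U ⊓ T) := by
  have h1 : Group.IsSolvable ((normalizer ((U : Subgroup T) : Set T)).map T.subtype) :=
    Group.isSolvable_of_surjective (T.subtype.subgroupMap_surjective _)
  refine Group.isSolvable_of_isSolvable_injective (inclusion_injective (H := St U ⊓ T) (K := (normalizer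
    ((U : Subgroup T) : Set T)).map T.subtype) fun g hg => ⟨⟨g, hg.2⟩, mem_normalizer_iff.2 fun x => ?_, rfl⟩)
  rw [← mem_map_iff_mem T.subtype_injective, ← mem_map_iff_mem T.subtype_injective]
  exact mem_normalizer_iff.1 hg.1 x

end

theorem jobKill (kA : KitA.{u}) (kB : KitB.{u}) (hAF : JobAF.{u}) (hNS : JobNS.{u}) : JobKill.{u} :=
  fun m G H _ _ _ _ ψ A full nc T e κ i₀ p ns nsd ch h0 pe => by
  by_contra hc
  simp only [not_exists, not_and, not_or] at hc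
  have N := A.num
  have nT := ns.nT
  have sH : Sub m H := A.sub.of_surjective A.sj
  have ce : Cl m i₀ e := pe ▸ ch i₀ h0
  have cop : ∀ i, i ≠ κ → i ≠ i₀ → (p i).Coprime (Nat.card T) := fun i h1 h2 =>
    (Nat.Prime.coprime_iff_not_dvd (ch i h1).1).2 (hc i h1 h2).2
  have big : ∀ i, i ≠ κ → i ≠ i₀ → 7 ≤ p i := fun i h1 h2 => N.big i _ (hc i h1 h2).1 (ch i h1)
  have h1 : ∀ i j, i ≠ κ → i ≠ i₀ → j ≠ κ → j ≠ i₀ → i ≠ j → ∀ h : H, orderOf h ≠ p i * p j :=
    fun i j a1 a2 b1 b2 ij h e1 => by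
      obtain ⟨x, -, hx, k⟩ := hNS H T (zpowers h) e nT nsd inferInstance
        (by rw [Nat.card_zpowers, e1]; exact (cop i a1 a2).mul_left (cop j b1 b2)) fun q hq k => by
          rw [Nat.card_zpowers, e1] at k
          rcases hq.dvd_mul.1 k with k | k
          · rw [(Nat.prime_dvd_prime_iff_eq hq (ch i a1).1).1 k]; exact big i a1 a2
          · rw [(Nat.prime_dvd_prime_iff_eq hq (ch j b1).1).1 k]; exact big j b1 b2
      exact N.tri sH a2.symm b2.symm ij ce (ch i a1) (ch j b1) hx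
        (e1 ▸ ord_mem (mem_centralizer_singleton_iff.2 (k h (mem_zpowers h))))
  obtain ⟨k, k1, k2, hk⟩ : ∃ k, k ≠ κ ∧ k ≠ i₀ ∧ ∀ i, i ≠ κ → i ≠ i₀ → i ≠ k → p i ∣ Nat.card ψ.ker := by
    by_cases h : ∃ k, k ≠ κ ∧ k ≠ i₀ ∧ ¬ p k ∣ Nat.card ψ.ker
    · obtain ⟨k, k1, k2, hk⟩ := h
      refine ⟨k, k1, k2, fun i a1 a2 ik => by_contra fun hi => ?_⟩
      obtain ⟨g, hg⟩ := full i k _ _ ik (ch i a1) (ch k k1)
      exact h1 i k a1 a2 k1 k2 ik (ψ g) (Nat.dvd_antisymm (hg ▸ orderOf_map_dvd ψ g)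
        ((N.cop ik (ch i a1) (ch k k1)).mul_dvd_of_dvd_of_dvd
          (dvd_ord_map (ch i a1).1 (hg ▸ dvd_mul_right _ _) hi)
          (dvd_ord_map (ch k k1).1 (hg ▸ dvd_mul_left _ _) hk)))
    · obtain ⟨k, k1, k2⟩ := (by decide : ∀ a b : Fin 5, ∃ k, k ≠ a ∧ k ≠ b) κ i₀
      exact ⟨k, k1, k2, fun i a1 a2 _ => by_contra fun hi => h ⟨i, a1, a2, hi⟩⟩
  have := Fact.mk (ch k k1).1
  have := Fact.mk ce.1
  obtain ⟨Y, hY⟩ := exists_isSyl (p k) (⊤ : Subgroup H)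
  have sY : Group.IsSolvable Y := have := hY.isPGroup.isNilpotent; inferInstance
  have cY : (Nat.card Y).Coprime (Nat.card T) := by rw [hY.card_eq]; exact (cop k k1 k2).pow_left _
  obtain ⟨x, xT, hx, xY⟩ := hNS H T Y e nT nsd sY cY fun q hq h => by
    rw [hY.card_eq] at h
    rw [(Nat.prime_dvd_prime_iff_eq hq (ch k k1).1).1 (hq.dvd_of_dvd_pow h)]
    exact big k k1 k2
  obtain ⟨P, xP, hP⟩ := H1.exists_invariant_sylow_ge_subgroup Y T le_normalizer_of_normal cY (.inl sY) e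
    (zpowers x) (zpowers_le.2 xT) (isPGroup_zpowers (k := 1) (by rw [pow_one, ← hx, pow_orderOf_eq_one]))
    (le_normalizer_of_le_centralizer (le_centralizer_iff.1 (zpowers_le.2 xY)))
  have hE := isSyl_map_subtype P
  generalize (P : Subgroup T).map T.subtype = E at xP hP hE
  have sE : Group.IsSolvable E := have := hE.isPGroup.isNilpotent; inferInstance
  have sK : Group.IsSolvable ((E ⊔ Y).comap ψ) := kB.sol (N := ⊤) A.sol inferInstance (by simp)
    (by rw [inf_top_eq]; exact H5.isSolvable_sup_of_le_normalizer hP)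
  have rk : ∀ i, i ≠ κ → p i ∣ Nat.card ψ.ker → Rk (p i) ((E ⊔ Y).comap ψ) := fun i a h =>
    (nc _ (ch i a).1 (N.ne_two (ch i a)) h).mono (ker_le_comap ψ _)
  have c1 : ¬ p k ∣ Nat.card ψ.ker → ∀ i, i ≠ κ → i ≠ k → Ord ((E ⊔ Y).comap ψ) (p i * p k) :=
    fun h i a ik => by
      obtain ⟨g, hg⟩ := full i k _ _ ik (ch i a) (ch k k1)
      have d := dvd_ord_map (ch k k1).1 (hg ▸ dvd_mul_left _ _) h
      by_cases b : i = i₀
      · obtain ⟨y, hy⟩ := ord_of_prime (G := Y) (ch k k1).1 (hY.isPGroup.card_eq_or_dvd.resolve_left fun e1 =>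
          hY.eq_bot_iff.1 (card_eq_one.1 e1) (d.trans (orderOf_dvd_natCard ⊤ (mem_top _))))
        rw [← orderOf_coe] at hy
        refine ord_lift (ψ := ψ) (map_comap_eq_self_of_surjective A.sj _).ge ?_
        have := ord_mem (mul_mem (mem_sup_left (xP (mem_zpowers x))) (mem_sup_right y.2) : x * y ∈ E ⊔ Y)
        rwa [Commute.orderOf_mul_eq_mul_orderOf_of_coprime (xY y y.2).symm
          (by rw [hx, hy]; exact N.cop k2.symm ce (ch k k1)), hx, hy, ← pe, ← b] at this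
      · have o : ψ g ^ p k ^ 1 = 1 := by
          obtain ⟨c, e1⟩ := d
          have := hg ▸ orderOf_map_dvd ψ g
          rw [e1, mul_comm (p i)] at this
          rcases (Nat.dvd_prime (ch i a).1).1 (Nat.dvd_of_mul_dvd_mul_left (ch k k1).1.pos this) with c1 | c1
          · rw [pow_one, ← mul_one (p k), ← c1, ← e1, pow_orderOf_eq_one]
          · exact absurd (by rw [e1, c1, mul_comm]) (h1 i k a b k1 k2 ik (ψ g))
        obtain ⟨t, -, ht⟩ := hY.exists_cj_le (isPGroup_zpowers o) le_top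
        exact hg ▸ ord_comap A.sj (mem_sup_right (ht (conj_mem_cj (mem_zpowers _))))
  have c2 : ¬ p i₀ ∣ Nat.card ψ.ker → ∀ i, i ≠ κ → i ≠ i₀ → p i ∣ Nat.card ψ.ker →
      Ord ((E ⊔ Y).comap ψ) (p i₀ * p i) := fun h i a b d => by
    rw [pe] at h ⊢
    obtain ⟨Q, W, hQ, WQ, W0, eW, -, nW, fr⟩ := kB.syl (K := ⊤) (ch i a).1 le_top le_normalizer_of_normal d
    have er := N.cop b.symm ce (ch i a)
    obtain ⟨z, -, w, hw, oz, zT, ow, zw⟩ := hAF G H ψ T (normalizer (Q : Set G)) W e 2 (p i) ns.simple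
      (by
        refine le_top.trans (le_trans (map_top_of_surjective ψ A.sj).ge ((map_mono fr).trans ?_))
        rw [Subgroup.map_sup, top_inf_eq, (map_eq_bot_iff ψ.ker).2 le_rfl, bot_sup_eq])
      ce.1 Nat.prime_two (ch i a).1 (N.ne_two ce) ((Nat.coprime_primes ce.1 (ch i a).1).1 er)
      (N.ne_two (ch i a)).symm (fun _ => N.ab2 A.sub) (fr_of_ns nsd)
      (fun k => h (k.trans (card_dvd_of_le inf_le_right))) eW W0 nW
    obtain ⟨t, -, ht⟩ := hE.exists_cj_le (isPGroup_zpowers (x := ψ z) (k := 1)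
      (by rw [pow_one, ← map_pow, ← oz, pow_orderOf_eq_one, map_one])) (zpowers_le.2 zT)
    have := ord_comap (Y := E ⊔ Y) (g := z * w) (t := t) A.sj (by
      rw [map_mul, hQ.le (WQ hw), mul_one]
      exact mem_sup_left (ht (conj_mem_cj (mem_zpowers _))))
    rwa [zw.orderOf_mul_eq_mul_orderOf_of_coprime (by rwa [oz, ow]), oz, ow] at this
  have c3 : ∀ i j, i ≠ κ → j ≠ κ → i ≠ j → ¬ p j ∣ Nat.card ψ.ker → Ord ((E ⊔ Y).comap ψ) (p i * p j) :=
    fun i j a b ij h => by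
      by_cases jk : j = k
      · subst jk; exact c1 h i a ij
      obtain rfl : j = i₀ := by_contra fun j0 => h (hk j b j0 jk)
      rw [mul_comm]
      by_cases d : p i ∣ Nat.card ψ.ker
      · exact c2 h i a ij d
      obtain rfl : i = k := by_contra fun ik => d (hk i a ij ik)
      exact c1 d j b jk
  refine kA.k4 N A.sub sK ch fun i j a b ij => ?_
  by_cases d1 : p j ∣ Nat.card ψ.ker
  · by_cases d2 : p i ∣ Nat.card ψ.ker
    · exact kA.nc2 (ch i a).1 (ch j b).1 ((Nat.coprime_primes (ch i a).1 (ch j b).1).1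
        (N.cop ij (ch i a) (ch j b))) sK (rk i a d2) (rk j b d1)
    · exact mul_comm (p j) (p i) ▸ c3 j i b a ij.symm d2
  · exact c3 i j a b ij d1

theorem jobK1B (_kA : KitA.{u}) (kB : KitB.{u}) (hF : JobFix.{u}) : JobK1B.{u} :=
  fun m G H _ _ _ _ ψ A full T l n d ν U one L => by
  have N := A.num
  have nT := one.nT
  obtain ⟨f1, f2, -, f4⟩ := hF H T l one.toNS L.toTI
  obtain ⟨f4a, f4b⟩ := f4 n d ν L
  have key : ∀ i j a c, i ≠ j → Cl m i a → Cl m j c → ¬ c ∣ l ^ n + 1 → ∀ g : G, orderOf g = a * c →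
      Ord ((St U).comap ψ) (a * c) ∨ a ∣ l ^ n + 1 ∧ (ψ g ^ a = 1 ∨ ∃ j, 1 ≤ j ∧ j < n ∧ a ∣ l ^ j + 1) :=
    fun i j a c ij ha hc k g hg => by
      have e : ψ g ^ (a * c) = 1 := by rw [← map_pow, ← hg, pow_orderOf_eq_one, map_one]
      refine (f4a (ψ g ^ c) (ψ g ^ a) a c ha.1 hc.1 (N.ne_two ha) (N.ne_two hc) (Commute.pow_pow_self ..)
        (orderOf_dvd_of_pow_eq_one (by rwa [← pow_mul, mul_comm]))
        (orderOf_dvd_of_pow_eq_one (by rwa [← pow_mul])) k).imp (fun ⟨V, h1, h2⟩ => ?_)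
        (And.imp_right (Or.imp_left fun h => by rwa [one.cent] at h))
      obtain ⟨t, -, ht⟩ := f1 U V
      exact hg ▸ ord_comap A.sj (ht _ (mem_of_pow (N.cop ij ha hc) h2 h1))
  refine ⟨kB.sol A.sol nT one.odd (sol_St U (L.sol U)), fun i j a c ij ha hc k1 k2 => ?_, fun α β b l1 => ?_⟩
  · obtain ⟨g, hg⟩ := full i j a c ij ha hc
    exact (key i j a c ij ha hc k2 g hg).resolve_right fun h => k1 h.1
  have hb := (l1.full β b l1.cl).2 (.inr rfl)
  have n0 : n ≠ 0 := by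
    rintro rfl
    rcases L.par with h | h <;> simp at h
  have nb : ¬ b ∣ Nat.card (St U) := fun h => by
    obtain ⟨w, hw⟩ := ord_of_prime l1.cl.1 h
    rw [← orderOf_coe] at hw
    have := f4b w U w.2 (hw ▸ l1.cl.1) (fun e => L.prime.not_dvd_one
      ((Nat.dvd_add_right (dvd_pow_self l n0)).1 ((hw.symm.trans e) ▸ hb :))) (hw ▸ l1.pm)
    rw [one.cent, mem_bot] at this
    rw [this, orderOf_one] at hw
    exact l1.cl.1.one_lt.ne hw
  refine ⟨nb, fun i c iα iβ hc => ?_⟩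
  have rk : c ∣ Nat.card ψ.ker → Rk c ψ.ker := fun h => by_contra fun k => by
    obtain ⟨x, hx⟩ := ord_of_prime hc.1 h
    rw [← orderOf_coe] at hx
    have cov := kB.p1 (K := ⊤) one.toNS.perf (map_top_of_surjective ψ A.sj ▸ le_top) hc.1 (N.ne_two hc)
      (by rwa [top_inf_eq]) ⟨mem_top _, x.2⟩ hx
    rw [top_inf_eq] at cov
    obtain ⟨a, ha⟩ := N.ex α
    have dv : ∀ j s, Cl m j s → s ∣ l ^ n + 1 → s ∣ ν := fun j s hs k => by
      rcases L.par with ⟨-, -, -, e⟩ | ⟨-, -, -, e1, e2⟩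
      · rwa [e]
      · rw [show l ^ n + 1 = 2 * ν by omega] at k
        exact ((Nat.coprime_primes hs.1 Nat.prime_two).2 (N.ne_two hs)).dvd_of_dvd_mul_left k
    exact N.tri A.sub iα iβ l1.ne hc ha l1.cl hx (ord_lift cov (L.on.of_dvd
      ((N.cop l1.ne ha l1.cl).mul_dvd_of_dvd_of_dvd (dv _ _ ha ((l1.full α a ha).2 (.inl rfl)))
        (dv _ _ l1.cl hb))))
  refine ⟨rk, ?_⟩
  obtain ⟨g, hg⟩ := full β i b c iβ.symm l1.cl hc
  rcases key β i b c iβ.symm l1.cl hc (fun k => ((l1.full i c hc).1 k).elim iα iβ) g hg with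
    h | ⟨-, h | ⟨j, j1, j2, h⟩⟩
  · exact .inl h
  · rcases (Nat.dvd_prime l1.cl.1).1 (orderOf_dvd_of_pow_eq_one h) with o | o
    · exact .inl (hg ▸ ord_mem (ker_le_comap ψ _ (orderOf_eq_one_iff.1 o)))
    · refine .inr ⟨rk (by_contra fun k => ?_), g, hg, o, mem_of_pow (c := T.index)
        ((Nat.Prime.coprime_iff_not_dvd l1.cl.1).2 fun k => nb (k.trans ?_)) (h ▸ one_mem _) (pow_index_mem _ _)⟩
      · have := dvd_ord_map hc.1 (hg ▸ dvd_mul_left _ _) k
        rw [o] at this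
        exact hc.1.one_lt.ne' (Nat.Coprime.eq_one_of_dvd (N.cop iβ hc l1.cl) this)
      · rw [← relIndex_top_right, ← f2 U, relIndex_sup_left]
        exact relIndex_dvd_card _ _
  · exact absurd h (l1.pp j j1 j2)

end H44.RR
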