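/- Job A21 of the tower for S3253 (see `blueprints/T3.md`). -/
import Cfsg.Agent.H48.T3Lem

set_option autoImplicit false

namespace H44.T3A
open Subgroup Cfsg H98 H96.CG H48.T3

universe u

section
variable {G : Type u} [Group G]

theorem mc1 {s c : G} : c ∈ cen1 s ↔ c * s = s * c := mem_centralizer_singleton_iff

theorem four_gen [Finite G] {A Z : Subgroup G} (hZ : Z ≤ A) (hc : Nat.card A = 4 * Nat.card Z) :
    ∃ a ∈ A, ∃ b ∈ A, a ∉ Z ∧ b ∉ Z ∧ a * b ∉ Z ∧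
      ∀ K : Subgroup G, Z ≤ K → a ∈ K → b ∈ K → A ≤ K := by
  have hi : Z.relIndex A = 4 := by
    have := (Z.subgroupOf A).index_mul_card
    rw [Nat.card_congr (subgroupOfEquivOfLe hZ).toEquiv, hc] at this
    exact Nat.eq_of_mul_eq_mul_right Nat.card_pos this
  obtain ⟨a, ha, haZ⟩ : ∃ a ∈ A, a ∉ Z := by
    by_contra h
    push Not at h
    have := relIndex_eq_one.mpr (show A ≤ Z from h)
    omega
  obtain ⟨b, hb, hbZ, hab⟩ : ∃ b ∈ A, b ∉ Z ∧ a * b ∉ Z := by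
    by_contra h
    push Not at h
    have : Z.relIndex A = 2 := by
      unfold relIndex
      rw [index_eq_two_iff']
      refine ⟨⟨a, ha⟩, fun b => ?_⟩
      by_cases hb : (b : G) ∈ Z
      · refine Or.inr ⟨hb, fun h' => haZ ?_⟩
        have h'' : a * b ∈ Z := h'
        simpa using mul_mem h'' (inv_mem hb)
      · exact Or.inl ⟨h b b.2 hb, hb⟩
    omega
  refine ⟨a, ha, b, hb, haZ, hbZ, hab, fun K hK haK hbK => ?_⟩
  have h1 := relIndex_mul_relIndex Z (K ⊓ A) A (le_inf hK hZ) inf_le_right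
  rw [hi] at h1
  have h2 : Z.relIndex (K ⊓ A) ∣ 2 ^ 2 := Dvd.intro _ h1
  obtain ⟨k, hk, e⟩ := (Nat.dvd_prime_pow Nat.prime_two).mp h2
  interval_cases k
  · exact absurd (relIndex_eq_one.mp e ⟨haK, ha⟩) haZ
  · have := (mul_mem_iff_of_index_two (H := Z.subgroupOf (K ⊓ A)) e (a := ⟨a, haK, ha⟩)
      (b := ⟨b, hbK, hb⟩)).mpr (iff_of_false haZ hbZ)
    exact absurd this hab
  · rw [e] at h1
    exact (relIndex_eq_one.mp (show (K ⊓ A).relIndex A = 1 by omega)).trans inf_le_left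

theorem pig {α : Type*} {a b c A B C D : α} (hA : A = a ∨ A = b ∨ A = c)
    (hB : B = a ∨ B = b ∨ B = c) (hC : C = a ∨ C = b ∨ C = c) (hD : D = a ∨ D = b ∨ D = c)
    (h1 : A ≠ B) (h2 : C ≠ D) : A = C ∨ A = D ∨ B = C ∨ B = D := by
  grind

variable {x y u s : G}

theorem syl_Pl [Finite G] (H : Hy G) (h : Pu x y u) {K : Subgroup G} (hK : Pl x y ≤ K) :
    IsSyl 3 (Pl x y) K := by
  have : Fact (Nat.Prime 3) := ⟨by norm_num⟩
  refine ⟨hK, h.isP, fun Q hQ h1 _ => ?_⟩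
  obtain ⟨k, hk⟩ := hQ.exists_card_eq
  have hk2 : k ≤ 2 := by
    by_contra hk2
    refine H.no27 (Dvd.dvd.trans ?_ (card_subgroup_dvd_card Q))
    rw [hk]
    exact pow_dvd_pow 3 (show 3 ≤ k by omega)
  refine (eq_of_le_of_card_ge h1 ?_).symm
  rw [hk, h.card]
  exact Nat.pow_le_pow_right (by norm_num) hk2

theorem edge_cj (h : Edge x y u) (c : G) :
    Edge (c * x * c⁻¹) (c * y * c⁻¹) (c * u * c⁻¹) :=
  { h.toPu.cj c with
    v1 := by rw [← V_cj]; exact fun e => h.v1 (cj_eq_bot_iff.mp e)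
    v2 := by rw [← V_cj]; exact fun e => h.v2 (cj_eq_bot_iff.mp e)
    n1 := by rw [← N_cj, ← V_cj, ← V_cj, ← cj_sup, h.n1]
    n2 := by rw [← N_cj, ← V_cj, ← V_cj, ← cj_sup, h.n2] }

theorem edge_cm (B : Bs G) (h : Edge x y u) : Cm (N x) (N x) := by
  apply cm_of_le_cen
  conv_rhs => rw [h.n1, cen, centralizer_sup]
  exact le_inf (B.Nc x) (by rw [h.n1, ← h.n2]; exact B.Nc y)

theorem edge_v12 (B : Bs G) (h : Edge x y u) : Cm (V x) (V y) := fun a ha b hb =>
  edge_cm B h a (h.n1 ▸ mem_sup_left ha) b (h.n1 ▸ mem_sup_right hb)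

theorem edge_card [Finite G] (B : Bs G) (h : Edge x y u) : Nat.card (N x) = 16 := by
  rw [h.n1]; exact B.toHy.card16 h.toPu h.v1 h.v2 (edge_v12 B h)

theorem edge_sq (B : Bs G) (h : Edge x y u) {a : G} (ha : a ∈ N x) : a * a = 1 := by
  rw [h.n1] at ha
  obtain ⟨v, hv, w, hw, rfl⟩ :=
    (mem_sup_left_norm (le_normalizer_of_le_centralizer (edge_v12 B h).le_cen)).mp ha
  calc v * w * (v * w) = v * (w * v) * w := by group
    _ = (v * v) * (w * w) := by rw [← edge_v12 B h v hv w hw]; group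
    _ = 1 := by rw [B.toHy.sq h.ox hv, B.toHy.sq h.oy hw, one_mul]

theorem edge_elem (B : Bs G) (h : Edge x y u) : IsElementaryAbelian 2 (N x) :=
  ⟨⟨⟨fun a b => Subtype.ext (edge_cm B h a a.2 b b.2)⟩⟩, fun a ha => by
    rw [pow_two]; exact edge_sq B h ha⟩

/-- an element of order three of `N(W)` lies in a Sylow subgroup belonging to `W` -/
theorem edge_of_mem [Finite G] (B : Bs G) (h : Edge x y u) (hs : orderOf s = 3)
    (hM : s ∈ nor (N x)) : ∃ x' y' u', Edge x' y' u' ∧ N x' = N x ∧ s ∈ Pl x' y' := by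
  have : Fact (Nat.Prime 3) := ⟨by norm_num⟩
  obtain ⟨m, hm, hle⟩ := (syl_Pl B.toHy h.toPu (h.toPu.le_nor_N (left_mem_Pl _ _))).exists_le_cj
    (isPGroup_zpowers (k := 1) (by simpa using pow3_of hs)) (zpowers_le.mpr hM)
  refine ⟨_, _, _, edge_cj h m, by rw [← N_cj, cj_eq_self hm], ?_⟩
  rw [← Pl_cj]
  exact hle (mem_zpowers s)

/-- `C(s) = V s P` -/
theorem cen_dec [Finite G] (H : Hy G) (h : Pu x y u) (hs : s ∈ Pl x y) (h1 : s ≠ 1) {c : G}
    (hc : c ∈ cen1 s) : ∃ v ∈ V s, ∃ p ∈ Pl x y, c = v * p := by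
  have os := h.ord hs h1
  let f : V s × Pl x y → cen1 s := fun q =>
    ⟨q.1 * q.2, mul_mem (mc1.mpr (H.cs os q.1.2)) (mc1.mpr (h.comm q.2.2 hs))⟩
  have hf : Function.Injective f := by
    rintro ⟨⟨a, ha⟩, ⟨b, hb⟩⟩ ⟨⟨a', ha'⟩, ⟨b', hb'⟩⟩ e
    have e' : a * b = a' * b' := congrArg Subtype.val e
    have e1 : a'⁻¹ * a = b' * b⁻¹ := by
      calc _ = a'⁻¹ * (a * b) * b⁻¹ := by group
        _ = _ := by rw [e']; group
    have k2 := H.sq os (mul_mem (inv_mem ha') ha)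
    have k3 := h.pow3 (mul_mem hb' (inv_mem hb))
    rw [← e1, pow_succ, pow_two, k2, one_mul, inv_mul_eq_one] at k3
    subst k3
    have := mul_left_cancel e'
    subst this
    rfl
  have hb := hf.bijective_of_nat_card_le (by rw [Nat.card_prod, h.card, H.cardC s os, mul_comm])
  obtain ⟨⟨⟨v, hv⟩, ⟨p, hp⟩⟩, e⟩ := hb.2 ⟨c, hc⟩
  exact ⟨v, hv, p, hp, (congrArg Subtype.val e).symm⟩

/-- two Sylow `3`-subgroups through `s` are conjugate under `V s` -/
theorem conj_V [Finite G] (H : Hy G) {x' y' u' : G} (h : Pu x y u) (h' : Pu x' y' u')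
    (hs : s ∈ Pl x y) (hs' : s ∈ Pl x' y') (h1 : s ≠ 1) :
    ∃ v ∈ V s, cj v (Pl x y) = Pl x' y' := by
  have : Fact (Nat.Prime 3) := ⟨by norm_num⟩
  obtain ⟨c, hc, e⟩ := (syl_Pl H h (K := cen1 s) fun p hp => mc1.mpr (h.comm hp hs)).exists_cj_eq
    (syl_Pl H h' (K := cen1 s) fun p hp => mc1.mpr (h'.comm hp hs'))
  obtain ⟨v, hv, p, hp, rfl⟩ := cen_dec H h hs h1 hc
  exact ⟨v, hv, by rw [← e, ← cj_cj, cj_eq_self_of_mem hp]⟩

/-- no Sylow `3`-subgroup normalises the intersection of two different `W`'s -/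
theorem no_nor [Finite G] (B : Bs G) (hA : CaseA G) {W W' : Subgroup G} (hW : Cm W W)
    (hW' : Cm W' W') (p : IsPGroup 2 W) (p' : IsPGroup 2 W') (c : Nat.card W = 16)
    (c' : Nat.card W' = 16) (hne : W' ≠ W) (hZ : Nat.card (W ⊓ W' : Subgroup G) = 4)
    (h : Pu x y u) (hx : x ∈ nor (W ⊓ W')) (hy : y ∈ nor (W ⊓ W')) : False := by
  obtain ⟨r, hr, r1, hle, hV⟩ : ∃ r ∈ Pl x y, r ≠ 1 ∧ V r ≤ W ⊓ W' ∧ V r ≠ ⊥ := by
    by_contra hn
    push Not at hn
    have := (B.gen x y u h (W ⊓ W') (by rw [hZ]; norm_num) hx hy).2 ⊥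
      fun r hr r1 hle => (hn r hr r1 hle).le
    rw [le_bot_iff.mp this, card_bot] at hZ
    omega
  have or := h.ord hr r1
  obtain ⟨r', u', he⟩ := hA r or hV
  have k : ∀ X : Subgroup G, Cm X X → IsPGroup 2 X → Nat.card X = 16 → V r ≤ X → X = N r :=
    fun X hX pX cX hle => eq_of_le_of_card_ge
      (B.Ntwo r or hV X (cm_of_le_cen (B := V r) (hX.le_cen.trans (centralizer_anti hle))).le_cen pX)
      (by rw [cX, edge_card B he])
  exact hne ((k W' hW' p' c' (hle.trans inf_le_right)).trans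
    (k W hW p c (hle.trans inf_le_left)).symm)

/-- two edges in the same Sylow subgroup avoiding `V s` coincide -/
theorem edge_eq (B : Bs G) {x' y' u' : G} (h : Edge x y u) (h' : Edge x' y' u')
    (e : Pl x' y' = Pl x y) (hs : s ∈ Pl x y) (h1 : s ≠ 1) (n : ¬ V s ≤ N x)
    (n' : ¬ V s ≤ N x') : N x' = N x := by
  obtain ⟨r, hr, er⟩ := h.toPu.extend hs h1
  have k : ∀ t ∈ Pl x y, orderOf t = 3 → V t ≠ V s →
      V t = V r ∨ V t = V (s * r) ∨ V t = V (s * r⁻¹) := fun t ht ot hn =>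
    (hr.V_cases (er ▸ ht) (ne_one_of ot)).resolve_left hn
  have d : ∀ {a b w : G}, Edge a b w → V a ≠ V b := fun {a b w} h e => h.v1 (by
    have := B.toHy.inf_bot h.toPu
    rwa [← e, inf_idem] at this)
  have := pig (k x (left_mem_Pl _ _) h.ox fun e => n (by rw [← e, h.n1]; exact le_sup_left))
    (k y (right_mem_Pl _ _) h.oy fun e => n (by rw [← e, h.n1]; exact le_sup_right))
    (k x' (e ▸ left_mem_Pl _ _) h'.ox fun e => n' (by rw [← e, h'.n1]; exact le_sup_left))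
    (k y' (e ▸ right_mem_Pl _ _) h'.oy fun e => n' (by rw [← e, h'.n1]; exact le_sup_right))
    (d h) (d h')
  have e1 : N y = N x := h.n2.trans h.n1.symm
  have e2 : N y' = N x' := h'.n2.trans h'.n1.symm
  rcases this with t | t | t | t
  · exact (N_congr t).symm
  · exact e2.symm.trans (N_congr t).symm
  · exact (N_congr t).symm.trans e1
  · exact e2.symm.trans ((N_congr t).symm.trans e1)

/-- the intersection of `W` with an elementary group of order `16` in `N(W)` -/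
theorem inf_four [Finite G] {W W' : Subgroup G} (D : A6D W u) (hW' : IsElementaryAbelian 2 W')
    (c : Nat.card W = 16) (c' : Nat.card W' = 16) (hle : W' ≤ nor W) (hne : W' ≠ W) :
    Nat.card (W ⊓ W' : Subgroup G) = 4 ∧ ∀ a ∈ W', a ∉ W → W ⊓ cen1 a = W ⊓ W' := by
  have h4 : 4 ≤ Nat.card (W ⊓ W' : Subgroup G) := by
    have := D.rk W' hle hW'
    rw [c', inf_comm] at this
    omega
  have k : ∀ a ∈ W', a ∉ W → W ⊓ cen1 a = W ⊓ W' := fun a ha haW => by
    refine (eq_of_le_of_card_ge (inf_le_inf_left W fun b hb => mc1.mpr ?_) ?_).symm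
    · exact congrArg Subtype.val (hW'.1.is_comm.comm (⟨b, hb⟩ : W') ⟨a, ha⟩)
    · rw [D.free a (hle ha) haW (by rw [← pow_two, hW'.2 a ha]; exact one_mem _)]
      exact h4
  refine ⟨?_, k⟩
  obtain ⟨a, ha, haW⟩ : ∃ a ∈ W', a ∉ W := by
    by_contra h
    push Not at h
    exact hne (eq_of_le_of_card_ge h (by rw [c, c']))
  rw [← k a ha haW, D.free a (hle ha) haW (by rw [← pow_two, hW'.2 a ha]; exact one_mem _)]

theorem elem_cj {W : Subgroup G} (h : IsElementaryAbelian 2 W) (g : G) :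
    IsElementaryAbelian 2 (cj g W) := by
  have hc : Cm W W := fun a ha b hb =>
    congrArg Subtype.val (h.1.is_comm.comm (⟨a, ha⟩ : W) ⟨b, hb⟩)
  refine ⟨⟨⟨fun a b => Subtype.ext (hc.cj g a a.2 b b.2)⟩⟩, ?_⟩
  rintro _ ⟨a, ha, rfl⟩
  rw [← map_pow, h.2 a ha, map_one]

/-- an element of order three normalising both groups -/
theorem exists_three [Finite G] {W W' : Subgroup G} (D : A6D W u)
    (hW : IsElementaryAbelian 2 W) (hW' : IsElementaryAbelian 2 W')
    (c : Nat.card W = 16) (c' : Nat.card W' = 16) (hle : W' ≤ nor W) (hne : W' ≠ W) :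
    ∃ s, orderOf s = 3 ∧ s ∈ nor W ∧ s ∈ nor W' := by
  obtain ⟨h4, k⟩ := inf_four D hW' c c' hle hne
  obtain ⟨a, ha, b, hb, n1, n2, n3, hg⟩ := four_gen (A := W') (Z := W ⊓ W') inf_le_right
    (by rw [h4, c'])
  have sq : ∀ a ∈ W', a * a ∈ W := fun a ha => by rw [← pow_two, hW'.2 a ha]; exact one_mem _
  obtain ⟨s, hs, os, e1, e2⟩ := D.four a (hle ha) b (hle hb) (fun h => n1 ⟨h, ha⟩)
    (fun h => n2 ⟨h, hb⟩) (fun h => n3 ⟨h, mul_mem ha hb⟩) (sq a ha) (sq b hb)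
    (sq _ (mul_mem ha hb))
  refine ⟨s, os, hs, ?_⟩
  have hB : cj s W' ≤ W ⊔ W' := by
    rw [cj_le_iff]
    refine hg _ ?_ ?_ ?_
    · rw [← cj_le_iff]
      exact (cj_le_of_le inf_le_left hs).trans le_sup_left
    · rw [mem_cj, inv_inv]
      simpa using mul_mem (mem_sup_left (T := W') e1) (mem_sup_right (S := W) (inv_mem hb))
    · rw [mem_cj, inv_inv]
      have := mul_mem (mem_sup_left (T := W') e2)
        (mem_sup_right (S := W) (inv_mem (mul_mem ha hb)))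
      rwa [mul_inv_cancel_right] at this
  have hU : ∀ z ∈ cj s W', z ∈ W ∨ z ∈ W' := by
    intro z hz
    obtain ⟨w, hw, a, ha, rfl⟩ := (mem_sup_right_norm hle).mp (hB hz)
    by_cases haW : a ∈ W
    · exact Or.inl (mul_mem hw haW)
    · right
      have z2 := (elem_cj hW' s).2 _ hz
      have a2 := hW'.2 a ha
      have w2 := hW.2 w hw
      rw [pow_two] at z2 a2 w2
      have : w ∈ W ⊓ cen1 a := ⟨hw, mc1.mpr (by
        calc w * a = (w * a)⁻¹ := eq_inv_of_mul_eq_one_left z2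
          _ = a * w := by
            rw [mul_inv_rev, inv_eq_of_mul_eq_one_right a2, inv_eq_of_mul_eq_one_right w2])⟩
      rw [k a ha haW] at this
      exact mul_mem this.2 ha
  by_cases h1 : cj s W' ≤ W'
  · exact mem_normalizer_of_cj_le h1
  · exfalso
    obtain ⟨z, hz, hzW⟩ := SetLike.not_le_iff_exists.mp h1
    have h2 : cj s W' ≤ W := fun t ht => (hU t ht).elim id fun ht' =>
      (hU _ (mul_mem hz ht)).elim
        (fun h => by simpa using mul_mem (inv_mem ((hU z hz).resolve_right hzW)) h)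
        (fun h => absurd (by simpa using mul_mem h (inv_mem ht')) hzW)
    rw [cj_le_iff, cj_eq_self (inv_mem hs)] at h2
    exact hne (eq_of_le_of_card_ge h2 (by rw [c, c']))

end

theorem jobA21 : JobA21.{u} := by
  intro G _ _ B hA x y u h D g hle
  by_contra hne
  have H := B.toHy
  have h' := edge_cj h g
  rw [N_cj] at hle hne
  generalize g * x * g⁻¹ = x' at h' hle hne
  generalize g * y * g⁻¹ = y' at h'
  generalize g * u * g⁻¹ = u' at h'
  have c := edge_card B h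
  have c' := edge_card B h'
  have eW := edge_elem B h
  have eW' := edge_elem B h'
  obtain ⟨s, os, hs, hs'⟩ := exists_three D eW eW' c c' hle hne
  have s1 := ne_one_of os
  have h4 := (inf_four D eW' c c' hle hne).1
  obtain ⟨x1, y1, u1, h1, e1, m1⟩ := edge_of_mem B h os hs
  obtain ⟨x2, y2, u2, h2, e2, m2⟩ := edge_of_mem B h' os hs'
  obtain ⟨v, hv, ev⟩ := conj_V H h1.toPu h2.toPu m1 m2 s1
  have no : ∀ {a b w : G}, Pu a b w → a ∈ nor (N x ⊓ N x') → b ∈ nor (N x ⊓ N x') → False :=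
    fun hp ha hb => no_nor B hA (edge_cm B h) (edge_cm B h') (B.Np _) (B.Np _) c c' hne h4 hp ha hb
  have P1 : Pl x1 y1 ≤ nor (N x) := e1 ▸ h1.toPu.le_nor_N (left_mem_Pl _ _)
  have P2 : Pl x2 y2 ≤ nor (N x') := e2 ▸ h2.toPu.le_nor_N (left_mem_Pl _ _)
  have n1 : ¬ V s ≤ N x := fun hh => by
    have : Pl x2 y2 ≤ nor (N x ⊓ N x') := le_normalizer_inf
      (by rw [← ev]; exact cj_le_of_le_of_mem P1 (le_normalizer (hh hv))) P2
    exact no h2.toPu (this (left_mem_Pl _ _)) (this (right_mem_Pl _ _))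
  have n2 : ¬ V s ≤ N x' := fun hh => by
    have : Pl x1 y1 ≤ nor (N x ⊓ N x') := le_normalizer_inf P1 (by
      rw [← cj_inv_cj v (Pl x1 y1), ev]
      exact cj_le_of_le_of_mem P2 (inv_mem (le_normalizer (hh hv))))
    exact no h1.toPu (this (left_mem_Pl _ _)) (this (right_mem_Pl _ _))
  have vn : cj v (V s) = V s := cj_eq_self_of_mem hv
  have eW : cj v (N x) = N x' := by
    rw [← e1, ← e2, N_cj]
    refine edge_eq B h2 (edge_cj h1 v) (by rw [← Pl_cj, ev]) m2 s1 (e2 ▸ n2) fun hh => n1 ?_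
    rwa [← N_cj, ← vn, cj_le_cj_iff, e1] at hh
  have v1 : v ≠ 1 := by
    rintro rfl
    exact hne (by rw [← eW, cj_one])
  obtain ⟨r, hr, er⟩ := h1.toPu.extend m1 s1
  have rM : r ∈ nor (N x) := P1 (er ▸ right_mem_Pl _ _)
  have sZ : s ∈ nor (N x ⊓ N x') := inf_normalizer_le_normalizer_inf ⟨hs, hs'⟩
  have o := (H.orbit hr hv v1).2.2.2.1
  -- the groups `W₂ = W'^r`, `W₃ = W'^(r⁻¹)`
  have Z2 : cj r (N x ⊓ N x') = N x ⊓ cj r (N x') := by rw [cj_inf, cj_eq_self rM]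
  have Z3 : cj r⁻¹ (N x ⊓ N x') = N x ⊓ cj r⁻¹ (N x') := by rw [cj_inf, cj_eq_self (inv_mem rM)]
  have ne23 : cj r (N x ⊓ N x') ≠ cj r⁻¹ (N x ⊓ N x') := fun e => by
    have : cj (r * r) (N x ⊓ N x') = N x ⊓ N x' := by rw [← cj_cj, e, cj_cj_inv]
    rw [cube_of hr.oy] at this
    exact no hr sZ (inv_mem_iff.mp (cj_eq_self_iff.mp this))
  have vr := conj_mem_of_mem_normalizer (hr.le_nor_V (left_mem_Pl _ _) (right_mem_Pl _ _)) hv
  have W23 : cj (r * v * r⁻¹) (N x ⊓ N x') = cj r (N x') ⊓ cj r⁻¹ (N x') := by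
    rw [cj_inf]
    congr 1
    · rw [← cj_cj, ← cj_cj, cj_eq_self (inv_mem rM), eW]
    · conv_lhs => rw [← eW, cj_cj, H.cm os _ vr _ hv, o, ← cj_cj, ← cj_cj, cj_eq_self rM, eW]
  obtain ⟨⟨z, hz⟩, z1⟩ := (Subgroup.ne_bot_iff_exists_ne_one (H := cj r (N x') ⊓ cj r⁻¹ (N x'))).mp
    (fun e => by rw [← W23, cj_eq_bot_iff] at e; rw [e, card_bot] at h4; omega)
  have z1' : z ≠ 1 := fun e => z1 (Subtype.ext e)
  have c2 : Nat.card (cj r (N x ⊓ N x')) = 4 := by rw [card_cj, h4]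
  have c3 : Nat.card (cj r⁻¹ (N x ⊓ N x')) = 4 := by rw [card_cj, h4]
  have zW : z ∉ N x := fun hzW => by
    have sr : ∀ t : G, s * t = t * s → s ∈ nor (cj t (N x ⊓ N x')) := fun t ht => by
      rw [← cj_eq_self_iff, cj_cj, ht, ← cj_cj, cj_eq_self sZ]
    let I := cj r (N x ⊓ N x') ⊓ cj r⁻¹ (N x ⊓ N x')
    have sI : s ∈ nor I := inf_normalizer_le_normalizer_inf
      ⟨sr r hr.xy, sr r⁻¹ (show Commute s r from hr.xy).inv_right⟩
    have zI : z ∈ I := ⟨Z2 ▸ ⟨hzW, hz.1⟩, Z3 ▸ ⟨hzW, hz.2⟩⟩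
    have zs : s * z * s⁻¹ ≠ z := fun e => z1' (H.fpf_of os (B.Np x)
      ((H.le_or hr rM).resolve_right n1) hzW (mul_inv_eq_iff_eq_mul.mp e).symm)
    have hd : Nat.card I ∣ 2 ^ 2 := by
      rw [show 2 ^ 2 = 4 from rfl, ← c2]; exact card_dvd_of_le inf_le_left
    have h3 : 2 < Nat.card I := by
      have := Fintype.ofFinite I
      rw [Nat.card_eq_fintype_card, Fintype.two_lt_card_iff]
      refine ⟨1, ⟨z, zI⟩, ⟨_, conj_mem_of_mem_normalizer sI zI⟩, fun e => z1' ?_, fun e => z1' ?_,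
        fun e => zs (congrArg Subtype.val e).symm⟩
      · exact (congrArg Subtype.val e).symm
      · have : (1 : G) = s * z * s⁻¹ := congrArg Subtype.val e
        simpa using this.symm
    obtain ⟨k, hk, e⟩ := (Nat.dvd_prime_pow Nat.prime_two).mp hd
    have cI : Nat.card I = 4 := by
      rw [e] at h3 ⊢
      interval_cases k <;> simp_all
    exact ne23 ((eq_of_le_of_card_ge (inf_le_left : I ≤ _) (by rw [cI, c2])).symm.trans
      (eq_of_le_of_card_ge (inf_le_right : I ≤ _) (by rw [cI, c3])))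
  have fin : ∀ t ∈ nor (N x), z ∈ cj t (N x') → N x ⊓ cen1 z = cj t (N x ⊓ N x') := fun t ht hz => by
    rw [cj_inf, cj_eq_self ht]
    refine (inf_four D (elem_cj eW' t) c (by rw [card_cj, c']) ?_ (fun e => zW (e ▸ hz))).2 z hz zW
    exact cj_le_of_le_of_mem hle ht
  exact ne23 ((fin r rM hz.1).symm.trans (fin r⁻¹ (inv_mem rM) hz.2))

end H44.T3A
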