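import Cfsg.Agent.H51.TESpec

/-! Tower TE, part 2 (S1308), slot `JobKP`. -/

set_option autoImplicit false

namespace H44.TEKP

open Cfsg Subgroup MulAction H14 H98 H1.Gold H31.S2 H14.GC H14.FE H14.NF H51.TE
open scoped commutatorElement

universe u

section

variable {G : Type u} [Group G] {Q E A E₁ B E₂ F P : Subgroup G}

theorem mem_sup_comm (hc : E₂ ≤ cen E₁) {f : G} (hf : f ∈ E₁ ⊔ E₂) :
    ∃ a ∈ E₁, ∃ b ∈ E₂, f = a * b := by
  let S : Subgroup G :=
    { carrier := {f | ∃ a ∈ E₁, ∃ b ∈ E₂, f = a * b}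
      one_mem' := ⟨1, one_mem _, 1, one_mem _, (mul_one _).symm⟩
      mul_mem' := by
        rintro _ _ ⟨a, ha, b, hb, rfl⟩ ⟨c, hc', d, hd, rfl⟩
        refine ⟨a * c, mul_mem ha hc', b * d, mul_mem hb hd, ?_⟩
        have := mem_centralizer_iff.1 (hc hb) c hc'
        calc a * b * (c * d) = a * (b * c) * d := by group
          _ = a * (c * b) * d := by rw [this]
          _ = _ := by group
      inv_mem' := by
        rintro _ ⟨a, ha, b, hb, rfl⟩
        refine ⟨a⁻¹, inv_mem ha, b⁻¹, inv_mem hb, ?_⟩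
        have := mem_centralizer_iff.1 (hc hb) a ha
        rw [this, mul_inv_rev] }
  have : E₁ ⊔ E₂ ≤ S := sup_le (fun a ha => ⟨a, ha, 1, one_mem _, (mul_one _).symm⟩)
    (fun b hb => ⟨1, one_mem _, b, hb, (one_mul _).symm⟩)
  exact this hf

theorem el_sup (h1 : El E₁) (h2 : El E₂) (hc : E₂ ≤ cen E₁) : El (E₁ ⊔ E₂) := by
  intro f hf
  obtain ⟨a, ha, b, hb, rfl⟩ := mem_sup_comm hc hf
  have := mem_centralizer_iff.1 (hc hb) a ha
  calc a * b * (a * b) = a * (b * a) * b := by group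
    _ = a * (a * b) * b := by rw [this]
    _ = (a * a) * (b * b) := by group
    _ = 1 := by rw [h1 a ha, h2 b hb, mul_one]

theorem home_eq (t : TG Q E) (h1 : Pt Q E A E₁) (h2 : Pt Q E B E₂) (h : E₁ ⊓ E₂ ≠ ⊥) : A = B := by
  by_contra e
  apply h
  rw [eq_bot_iff]
  intro d hd
  by_contra hd1
  exact pt_ti t h1 h2 e d ⟨pt_le t h1 hd.1, pt_le t h2 hd.2⟩
    ⟨fun e => hd1 (mem_bot.2 e), pt_el t h1 d hd.1⟩

theorem inf_bot (t : TG Q E) (h : Col Q E A E₁ B E₂) : E₁ ⊓ E₂ = ⊥ := by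
  by_contra e
  exact h.ne (home_eq t h.p1 h.p2 e)

theorem ne_bot (t : TG Q E) (h1 : Pt Q E A E₁) : ∃ s ∈ E₁, s ≠ 1 := by
  obtain ⟨s, hs, -, -, h, -⟩ := pt_four t h1
  exact ⟨s, hs, h.1⟩

theorem cj_eq [Finite G] (gx : Gx Q E) (h1 : Pt Q E A E₁) (h2 : Pt Q E B E₂) (hF : El F)
    (l1 : E₁ ≤ F) (l2 : E₂ ≤ F) : ∀ g ∈ nor F, cj g E₂ ⊓ E₁ ≠ ⊥ → cj g E₂ = E₁ := by
  intro g hg hne
  have h3 := pt_cj h2 g
  have e := home_eq gx.tg h3 h1 hne
  rw [e] at h3
  have hle : cj g E₂ ≤ E₁ := fun d hd =>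
    gx.cu A E₁ _ h1 h3 F (H51.TE.El.two hF) l1 d hd (cj_le_of_le l2 hg hd)
  exact eq_of_le_of_card_ge hle (by rw [pt_card h1, pt_card h3])

theorem tv_of (h1 : El E₁) (hc : E₂ ≤ cen E₁) (p : PG1 A E₁ E₂ P) {y : G} (hy : y ∈ P)
    (hy1 : y ∉ E₁) : Tv (E₁ ⊔ E₂) E₁ y := by
  have hyc := (p.le hy).2
  have key : ∀ a ∈ E₁, ∀ b ∈ E₂, ⁅a * b, y⁆ = ⁅b, y⁆ := by
    intro a ha b hb
    have e1 : a * y = y * a := mem_centralizer_iff.1 hyc a ha
    have e2 := H51.TE.El.comm h1 ha (p.cm b hb y hy)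
    calc ⁅a * b, y⁆ = a * ⁅b, y⁆ * (y * a⁻¹ * y⁻¹) := by
          simp only [commutatorElement_def]; group
      _ = ⁅b, y⁆ * (a * y) * a⁻¹ * y⁻¹ := by rw [e2]; group
      _ = ⁅b, y⁆ := by rw [e1]; group
  refine ⟨fun f hf => ⟨fun e => ?_, fun e => (mem_centralizer_iff.1 hyc f e).symm⟩, fun f hf => ?_⟩
  · obtain ⟨a, ha, b, hb, rfl⟩ := mem_sup_comm hc hf
    have h0 : ⁅a * b, y⁆ = 1 := commutatorElement_eq_one_iff_mul_comm.2 e.symm
    rw [key a ha b hb] at h0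
    by_cases hb1 : b = 1
    · rw [hb1, mul_one]; exact ha
    · exact absurd h0 (p.nd y hy hy1 b hb hb1)
  · obtain ⟨a, ha, b, hb, rfl⟩ := mem_sup_comm hc hf
    rw [key a ha b hb]
    exact p.cm b hb y hy

theorem tv_cj {y : G} (h : Tv F E₁ y) (g : G) : Tv (cj g F) (cj g E₁) (g * y * g⁻¹) := by
  refine ⟨fun f hf => ?_, fun f hf => ?_⟩
  · rw [mem_cj, ← h.fix _ (mem_cj.1 hf)]
    constructor
    · intro e
      calc y * (g⁻¹ * f * g) = g⁻¹ * (g * y * g⁻¹ * f) * g := by group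
        _ = _ := by rw [e]; group
    · intro e
      calc g * y * g⁻¹ * f = g * (y * (g⁻¹ * f * g)) * g⁻¹ := by group
        _ = _ := by rw [e]; group
  · rw [mem_cj]
    convert h.cm _ (mem_cj.1 hf) using 1
    simp only [commutatorElement_def]; group

theorem tv_nor [Finite G] {y : G} (h : Tv F E₁ y) (l : E₁ ≤ F) : y ∈ nor F := by
  apply mem_normalizer_of_cj_le
  rintro _ ⟨f, hf, rfl⟩
  have := F.mul_mem (inv_mem (l (h.cm f hf))) hf
  convert this using 1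
  simp only [commutatorElement_def, MulEquiv.coe_toMonoidHom, MulAut.conj_apply]; group

theorem tv_sq {y : G} (h : Tv F E₁ y) (l : E₁ ≤ F) (hF : El F) : y * y ∈ cen F := by
  rw [mem_centralizer_iff]
  intro f hf
  have hc := inv_mem (h.cm f hf)
  set c := ⁅f, y⁆⁻¹ with hcd
  have e1 : y * f = c * f * y := by simp only [hcd, commutatorElement_def]; group
  have e2 : y * c = c * y := (h.fix c (l hc)).2 hc
  have e3 : c * c = 1 := hF c (l hc)
  calc f * (y * y) = (c * c) * f * y * y := by rw [e3]; group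
    _ = c * (c * f * y) * y := by group
    _ = c * y * f * y := by rw [← e1]; group
    _ = y * (c * f * y) := by rw [← e2]; group
    _ = y * y * f := by rw [← e1]; group

end

theorem job : JobKP.{u} := by
  intro odd dih G _ _ Q E gx Q₁ T h x hx hxE hc hne hT
  have tg := gx.tg
  have elT := pt_el tg h.p2
  have pT' := pt_cj h.p2 x
  have xi : x⁻¹ = x := inv_eq_of_mul_eq_one_right hx
  by_cases hcol : Col Q E Q₁ T (cj x Q₁) (cj x T)
  · obtain ⟨P, p, -, -⟩ := tg.px _ _ _ _ hcol ⊥ bot_le (IsPGroup.of_bot)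
      (fun a _ b hb => by rw [mem_bot.1 hb, commutatorElement_one_right]; exact one_mem _)
    obtain ⟨u, hu, hu1⟩ := SetLike.exists_of_lt p.lt
    have hF := el_sup elT (pt_el tg pT') hT
    have tv := tv_of elT hT p hu hu1
    have hxF : cj x (T ⊔ cj x T) = T ⊔ cj x T := by
      rw [cj_sup, cj_cj, hx, cj_one, sup_comm]
    have tv' := tv_cj tv x
    rw [hxF] at tv'
    obtain ⟨s, hs, hs1⟩ := ne_bot tg h.p2
    have hb := inf_bot tg hcol
    obtain ⟨⟨m, hm, hm'⟩, -⟩ := odd G _ T (cj x T) u (x * u * x⁻¹) hF le_sup_left le_sup_right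
      (fun e => hs1 (mem_bot.1 (e ▸ hs))) hb tv tv'
      (cj_eq gx h.p2 h.p2 hF le_sup_left le_sup_left)
      (cj_eq gx h.p2 pT' hF le_sup_left le_sup_right)
    have hxn : x ∈ nor (T ⊔ cj x T) := cj_eq_self_iff.1 hxF
    have hun := tv_nor tv le_sup_left
    obtain ⟨g, hg, e, he, he1, hue, hj⟩ := dih G _ x u m hF hxn hun (by rw [hx]; exact one_mem _)
      (tv_sq tv le_sup_left hF) hm hm'
      ⟨s, mem_sup_left hs, hs1, (tv.fix s (mem_sup_left hs)).2 hs⟩
    have hgn : g ∈ nor (T ⊔ cj x T) := by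
      refine (closure_le _).2 ?_ hg
      rintro _ (rfl | rfl)
      · exact hxn
      · exact hun
    have dv := (dv_of h.p2 ((tv.fix e he).1 hue) he1).conj g
    obtain ⟨a, ha, b, hb', ej⟩ := mem_sup_comm hT (conj_mem_of_mem_normalizer hgn he)
    obtain ⟨t, ht, rfl⟩ := hb'
    simp only [MulEquiv.coe_toMonoidHom, MulAut.conj_apply] at ej
    rw [ej] at hj dv
    have c1 : t * (x * a * x⁻¹) = x * a * x⁻¹ * t :=
      mem_centralizer_iff.1 (hT (conj_mem_cj ha)) t ht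
    have e0 : a⁻¹ * t = x * (t * a⁻¹) * x⁻¹ := by
      have e1 : t * (x * a * x⁻¹) = a * (x * t * x⁻¹) := by
        rw [c1]
        calc x * a * x⁻¹ * t = x * a * x * t := by rw [xi]
          _ = x * (a * (x * t * x⁻¹)) * x := by group
          _ = a * (x * t * x⁻¹) * (x * x) := by rw [hj]; group
          _ = a * (x * t * x⁻¹) := by rw [hx, mul_one]
      calc a⁻¹ * t = a⁻¹ * (t * (x * a * x⁻¹)) * (x * a * x⁻¹)⁻¹ := by group
        _ = _ := by rw [e1]; group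
    have e2 : a⁻¹ * t = 1 := by
      rw [← mem_bot, ← hb]
      exact ⟨T.mul_mem (inv_mem ha) ht, e0 ▸ conj_mem_cj (T.mul_mem ht (inv_mem ha))⟩
    have e3 : a = t := inv_mul_eq_one.1 e2
    subst e3
    have e4 : ⁅a, x⁆ * 1 = a * (x * a * x⁻¹) := by
      rw [commutatorElement_def, inv_eq_of_mul_eq_one_right (elT a ha)]; group
    refine ⟨a, ha, fun e => dv.1 (by rw [e]; group), 1, one_mem _, e4 ▸ dv⟩
  · have h' := tg.sym _ _ _ _ h
    have hTE : cj x T ≤ cen E := by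
      rintro _ ⟨t, ht, rfl⟩
      exact mul_mem (mul_mem hxE (h.comm ht)) (inv_mem hxE)
    obtain ⟨P', p', -, cm'⟩ := tg.px _ _ _ _ h' (cj x T) hT (H51.TE.El.two (pt_el tg pT'))
      (fun a ha b hb => by
        rw [commutatorElement_eq_one_iff_mul_comm.2 (mem_centralizer_iff.1 (hTE hb) a ha)]
        exact one_mem _)
    obtain ⟨u, hu, hu1⟩ := SetLike.exists_of_lt p'.lt
    have huc : u ∈ cen (cj x T) := by
      by_contra hn
      obtain ⟨n, hn'⟩ := p'.two ⟨u, hu⟩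
      exact hcol ⟨h.p2, pT', hne.symm, hT, u, p'.le hu, ⟨n, by simpa using congrArg Subtype.val hn'⟩,
        fun t ht => cm' t ht u hu, hn⟩
    obtain ⟨P, p, -, -⟩ := tg.px _ _ _ _ h ⊥ bot_le (IsPGroup.of_bot)
      (fun a _ b hb => by rw [mem_bot.1 hb, commutatorElement_one_right]; exact one_mem _)
    obtain ⟨y, hy, hy1⟩ := SetLike.exists_of_lt p.lt
    have hF := el_sup tg.el elT h.comm
    have tv := tv_of tg.el h.comm p hy hy1
    have tv' := tv_of elT h'.comm p' hu hu1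
    rw [sup_comm] at tv'
    obtain ⟨s, hs, hs1⟩ := ne_bot tg h.p1
    obtain ⟨-, g, hg, -, hgT⟩ := odd G _ E T y u hF le_sup_left le_sup_right
      (fun e => hs1 (mem_bot.1 (e ▸ hs))) (inf_bot tg h) tv tv'
      (cj_eq gx h.p1 h.p1 hF le_sup_left le_sup_left)
      (cj_eq gx h.p1 h.p2 hF le_sup_left le_sup_right)
    obtain ⟨t, ht, ht1⟩ := ne_bot tg h.p2
    have ti : t⁻¹ = t := inv_eq_of_mul_eq_one_right (elT t ht)
    have ec : ⁅t, x⁆ = t * (x * t * x⁻¹) := by rw [commutatorElement_def, ti]; group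
    have hgc : g ∈ cen1 ⁅t, x⁆ := by
      refine (closure_le _).2 ?_ hg
      rintro _ (rfl | rfl)
      · rw [SetLike.mem_coe, mem_centralizer_singleton_iff]
        exact mem_centralizer_iff.1 (hc t ht) _ (p.le hy).1
      · rw [SetLike.mem_coe, mem_centralizer_singleton_iff, ec]
        have e1 := mem_centralizer_iff.1 (p'.le hu).2 t ht
        have e2 := mem_centralizer_iff.1 huc _ (conj_mem_cj ht)
        rw [← mul_assoc, ← e1, mul_assoc, ← e2, ← mul_assoc]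
    have hr : g * t * g⁻¹ ∈ E := hgT ▸ conj_mem_cj ht
    refine ⟨t, ht, ht1, _, hr, ?_⟩
    have dv := ((dv_of h.p2 ht ht1).conj x).conj g
    have e1 := mem_centralizer_singleton_iff.1 hgc
    have e2 := mem_centralizer_iff.1 (hc t ht) _ (tg.le hr)
    have e3 : x * t * x⁻¹ = t * ⁅t, x⁆ := by rw [ec, ← mul_assoc, elT t ht, one_mul]
    rw [← e2]
    convert dv using 1
    rw [e3]
    calc g * t * g⁻¹ * ⁅t, x⁆ = g * t * g⁻¹ * (⁅t, x⁆ * g) * g⁻¹ := by group
      _ = _ := by rw [← e1]; group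

end H44.TEKP
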