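import Cfsg.Agent.H53.WrJob0
import Cfsg.Agent.H99.WrOA

/-! STD-H, section 9: Job0O. -/

set_option autoImplicit false
open Subgroup Cfsg H98 H1.Gold H99.Wr H53.Wr0
open scoped commutatorElement

universe u

namespace H44.WrO

variable {G : Type u} [Group G]

theorem kl {L : Subgroup G} {u : G} : KL L u ↔ u ∈ cen L ⊔ L :=
  (mem_sup_left_norm (le_normalizer_of_le_centralizer le_rfl)).symm

theorem nor_kl (L : Subgroup G) : nor L ≤ nor (cen L ⊔ L) :=
  le_normalizer_sup (normalizer_le_normalizer_centralizer L) le_rfl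

theorem comm_le_two {A B : Subgroup G} (h : ∀ c ∈ A, ∀ d ∈ A, c ∉ B → d ∉ B → c * d ∈ B) :
    ⁅A, A⁆ ≤ B := by
  refine commutator_le.2 fun c hc d hd => ?_
  rw [commutatorElement_def]
  by_cases h1 : c ∈ B <;> by_cases h2 : d ∈ B
  · exact mul_mem (mul_mem (mul_mem h1 h2) (inv_mem h1)) (inv_mem h2)
  · rw [mul_assoc, mul_assoc, ← mul_assoc d]
    exact mul_mem h1 (h _ (mul_mem hd (inv_mem hc)) _ (inv_mem hd)
      (by rwa [mul_mem_cancel_right (inv_mem h1)]) (by rwa [inv_mem_iff]))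
  · exact mul_mem (h _ (mul_mem hc hd) _ (inv_mem hc) (by rwa [mul_mem_cancel_right h2])
      (by rwa [inv_mem_iff])) (inv_mem h2)
  · rw [mul_assoc]
    exact mul_mem (h c hc d hd h1 h2) (h _ (inv_mem hc) _ (inv_mem hd) (by rwa [inv_mem_iff])
      (by rwa [inv_mem_iff]))

variable [Finite G]

theorem exists_inv_of_two {A : Subgroup G} (hA : IsPGroup 2 A) (h : A ≠ ⊥) :
    ∃ t ∈ A, orderOf t = 2 :=
  H14.exists_involution_mem (by
    by_contra h1
    exact h ((isSyl_self hA).eq_bot_iff.mpr h1))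

/-- the variant of `H53.Wr0.core` for `|N(L) : C(L) L| ≤ 2` -/
theorem core {L : Subgroup G} {P : G → Subgroup G} (hL : IsStandardSubgroup L)
    (hZ : Odd (Nat.card ↥(L ⊓ cen L))) (hP : P0 L P)
    (hmul : ∀ c ∈ nor L, ∀ d ∈ nor L, c ∉ cen L ⊔ L → d ∉ cen L ⊔ L → c * d ∈ cen L ⊔ L)
    (hqs : ∀ x ∈ L, orderOf x = 2 → ∀ M ≤ L ⊓ cen1 x, L ⊓ cen1 x ≤ nor M → P x ≤ M ∨ M ≤ cen (P x))
    (hout : ∀ x ∈ L, orderOf x = 2 → ∀ σ ∈ nor L, σ ∈ cen (P x) → KL L σ)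
    (hbig : ∀ x ∈ L, orderOf x = 2 → ∃ v ∈ P x, v * v = 1 ∧ v ≠ 1 ∧ v ≠ x)
    {g s₀ : G} (hg : g ∉ nor (cen L)) (hs₀ : s₀ ∈ cj g (cen L) ⊓ nor (cen L))
    (o₀ : orderOf s₀ = 2) (i₀ : KL L s₀) :
    ∃ t ∈ cen L, orderOf t = 2 ∧ IsSyl 2 (zpowers t) (cen L) ∧ ∃ x ∈ L, orderOf x = 2 ∧
      ∃ h : G, h * t * h⁻¹ = x ∨ h * t * h⁻¹ = t * x := by
  obtain ⟨hq, hK, hst, hn⟩ := hL
  have hodd : ∀ d ∈ nor L, Odd (orderOf d) → KL L d := fun d hd ⟨m, hm⟩ => kl.2 (by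
    by_contra h
    have h1 := pow_orderOf_eq_one d
    rw [hm, pow_succ, pow_mul, pow_two, mul_eq_one_iff_inv_eq] at h1
    exact h (h1 ▸ inv_mem (pow_mem (hmul d hd d hd h h) m)))
  set K := cen L with hKd
  have hK' := H14.te_cj hK g
  obtain ⟨T, hTs, h₀⟩ := exists_isSyl_le (isPGroup_zpowers (x := s₀) (p := 2) (k := 1)
    (by rw [pow_one, pow_two, H14.mul_self_of_two o₀])) (zpowers_le.2 hs₀)
  have h₀ : s₀ ∈ T ⊓ (K ⊔ L) := ⟨h₀ (mem_zpowers _), kl.1 i₀⟩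
  have hT1 : T ≠ ⊥ := fun e => H14.ne_one_of_two o₀ (e.le h₀.1)
  have hTK : T ≤ cj g K := hTs.le.trans inf_le_left
  have hTn : T ≤ nor K := hTs.le.trans inf_le_right
  obtain ⟨S, hS, hTS⟩ := exists_isSyl_le hTs.isPGroup (le_sup_right : T ≤ K ⊔ T)
  obtain ⟨a1, -, -, ⟨φ⟩⟩ := H14.te_structure hK hg hT1 hTs hS hTS
  set T0 := S ⊓ nor T ⊓ K with hT0
  have hcT : Nat.card T0 = Nat.card T := Nat.card_congr φ.toEquiv
  have hT2 : 2 ∣ Nat.card T := by
    by_contra h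
    exact hT1 ((isSyl_self hTs.isPGroup).eq_bot_iff.mpr h)
  obtain ⟨s, ⟨hs, hsI⟩, hs2, -, hsc⟩ := H14.exists_central_orderOf_eq
    (Q := T ⊓ (K ⊔ L)) hTs.isPGroup.to_inf_left hTs.isPGroup
    (le_normalizer_inf le_normalizer (hTn.trans (hn.ge.trans (nor_kl L))))
    fun e => H14.ne_one_of_two o₀ (e.le h₀)
  have hTK1 : ∀ u ∈ T, u ∈ K → u = 1 := fun u h1 h2 => by
    have : u ∈ T ⊓ K := ⟨h1, h2⟩
    rwa [a1] at this
  have two_T := isPGroup_iff_forall.mp hTs.isPGroup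
  obtain ⟨k, hk, x, hx, es, kk, xx⟩ := (kl.2 hsI).dec2 hZ (H14.mul_self_of_two hs2)
  have hx1 : x ≠ 1 := fun e => H14.ne_one_of_two hs2 (hTK1 s hs (by rwa [es, e, mul_one]))
  have hx2 : orderOf x = 2 := orderOf_eq_prime (by rw [pow_two, xx]) hx1
  have hTz : T = zpowers s := by
    by_contra hne
    have c4 := two_mul_card_le (zpowers_le.2 hs) (Ne.symm hne)
    rw [Nat.card_zpowers, hs2, ← hcT] at c4
    have T0n : ∀ a ∈ T0, g⁻¹ * a * g ∈ nor L := fun a ha =>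
      hn.ge (mem_cj.mp ((cj_normalizer g K).ge (H14.te_normalizer_le hK' hT2 hTK ha.1.2)))
    have c5 := relIndex_le_two (A := T0) (K := cj g (K ⊔ L)) fun a ha b hb h1 h2 => by
      rw [mem_cj] at h1 h2 ⊢
      simpa [mul_assoc] using hmul _ (T0n a ha) _ (T0n b hb) h1 h2
    obtain ⟨t, ⟨ht, htI⟩, ht2⟩ := exists_inv_of_two (A := T0 ⊓ cj g (K ⊔ L))
      (hS.isPGroup.to_le (inf_le_left.trans (inf_le_left.trans inf_le_left))) fun e => by
        rw [card_eq_relIndex_mul T0 (cj g (K ⊔ L)), e, card_bot] at c4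
        omega
    have htI : KL L (g⁻¹ * t * g) := kl.2 (mem_cj.1 htI)
    -- the involution `t'' = g⁻¹ t g`
    have hg' : g⁻¹ ∉ nor K := fun h => hg (inv_mem_iff.mp h)
    have htn : t ∈ nor (cj g K) := H14.te_normalizer_le hK' hT2 hTK ht.1.2
    have ht'' : g⁻¹ * t * g ∈ cj g⁻¹ K ⊓ nor K :=
      ⟨by simpa using conj_mem_cj (g := g⁻¹) ht.2, mem_cj.mp ((cj_normalizer g K).ge htn)⟩
    have tt := H14.mul_self_of_two ht2
    have tt'' : g⁻¹ * t * g * (g⁻¹ * t * g) = 1 := by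
      calc _ = g⁻¹ * (t * t) * g := by group
        _ = 1 := by rw [tt]; group
    obtain ⟨k', hk', y, hy, et, -, yy⟩ := htI.dec2 hZ tt''
    have hy1 : y ≠ 1 := fun e => hg (H14.te_mem_normalizer hK ht2 ht.2
      (mem_cj.mpr (by rwa [et, e, mul_one])))
    have hy2 : orderOf y = 2 := orderOf_eq_prime (by rw [pow_two, yy]) hy1
    have hct : ∀ c ∈ L ⊓ cen1 y, g * c * g⁻¹ ∈ nor K := fun c hc => by
      refine H14.te_centralizer_le hK ht2 ht.2 (H99.Wr.mem_cen1.2 ?_)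
      have h1 : c * (g⁻¹ * t * g) = g⁻¹ * t * g * c := by
        rw [et, ← mul_assoc, mem_cen.1 hk' c hc.1, mul_assoc, H99.Wr.mem_cen1.1 hc.2, mul_assoc]
      calc g * c * g⁻¹ * t = g * (c * (g⁻¹ * t * g)) * g⁻¹ := by group
        _ = _ := by rw [h1]; group
    obtain ⟨p, hp, hp2, ⟨d, hd, ⟨a, hda⟩, hdK⟩, hprime⟩ := hP.prime y hy hy2
    have hcop : ∀ i j, (p ^ i).Coprime (2 ^ j) := fun i j =>
      (((Nat.coprime_primes hp Nat.prime_two).mpr hp2).pow_left i).pow_right j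
    have hd' : (g * d * g⁻¹) ^ p ^ a = 1 := by rw [conj_pow, hda]; group
    obtain ⟨k₁, hk₁, l, hl, ed, -, b, hlb⟩ := (hodd _ (hn.ge (hct d hd)) (Nat.coprime_two_right.mp
      ((hcop a 1).coprime_dvd_left (orderOf_dvd_iff_pow_eq_one.mpr hd')))).dec hp ⟨a, hd'⟩
    have hlK : l ∉ K := by
      intro hlK
      have hK'' := H14.te_cj hK g⁻¹
      have h1 : L ⊓ cen1 y ≤ nor (cj g⁻¹ K) := fun c hc =>
        (cj_normalizer g⁻¹ K).le (mem_cj.mpr (by simpa using hct c hc))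
      have h3 := hprime y hy hy2 (cj g⁻¹ K ⊓ (L ⊓ cen1 y)) inf_le_right
        (le_normalizer_inf h1 le_normalizer) d
        ⟨mem_cj.mpr (by rw [inv_inv, ed]; exact mul_mem hk₁ hlK), hd⟩ ⟨a, hda⟩ hdK
      have h4 := hP.gen y hy hy2 (nor (cj g⁻¹ K)) fun r hr hr2 =>
        inf_le_right.trans (H14.te_centralizer_le hK'' hr2 (h3 hr).1)
      rcases H14.quasi_sub_normalized hq h4 with h | h
      · refine hst g⁻¹ (fun e => hg' (hn.le (cj_eq_self_iff.mp e))) ?_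
        rw [commutator_eq_bot_iff_le_centralizer]
        exact h.trans (cj_centralizer g⁻¹ L).le
      · rw [commutator_eq_bot_iff_le_centralizer] at h
        have h5 : y ∈ L ⊓ K := ⟨hy, h ⟨(h3 (hP.mem y hy hy2)).1, hy⟩⟩
        exact hy1 (one_of_odd_sq (odd_of_mem hZ h5) yy)
    -- `Yb`
    let Yb : Set G := {v | v ∈ L ∧ (∃ j, v ^ 2 ^ j = 1) ∧ ∃ k₂ ∈ K, k₂ * v ∈ cj g K}
    have hlY : ∀ v ∈ Yb, l * v = v * l := by
      rintro v ⟨hv, ⟨j, hj⟩, k₂, hk₂, hkv⟩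
      refine comm_of_coprime hl hv (comm_mem_cen hk₁ hl hk₂ hv ?_) hlb hj (hcop b j)
      rw [← ed]
      exact mem_cen.1 ((cj_centralizer g L).le hkv) _ (conj_mem_cj hd.1)
    have hxY : x ∈ Yb := ⟨hx, ⟨1, by rw [pow_one, pow_two, xx]⟩, k, hk, es ▸ hTK hs⟩
    have hYc : ∀ c ∈ L ⊓ cen1 x, ∀ v ∈ Yb, c * v * c⁻¹ ∈ Yb := by
      rintro c hc v ⟨hv, ⟨j, hj⟩, k₂, hk₂, hkv⟩
      refine ⟨mul_mem (mul_mem hc.1 hv) (inv_mem hc.1), ⟨j, by rw [conj_pow, hj]; group⟩, k₂, hk₂, ?_⟩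
      have h1 : c ∈ nor (cj g K) := H14.te_centralizer_le hK' hs2 (hTK hs) (H99.Wr.mem_cen1.2 (by
        rw [es, ← mul_assoc, mem_cen.1 hk c hc.1, mul_assoc, H99.Wr.mem_cen1.1 hc.2, mul_assoc]))
      have h3 := conj_mem_of_mem_normalizer h1 hkv
      rwa [← mul_assoc, mem_cen.1 hk₂ c hc.1, mul_assoc, mul_assoc, ← mul_assoc c] at h3
    have hPx := hprime x hx hx2 (L ⊓ cen1 x ⊓ centralizer Yb) inf_le_left (by
        refine le_normalizer_inf le_normalizer ?_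
        rw [le_normalizer_iff]
        intro c hc w hw
        refine mem_centralizer_iff.mpr fun v hv => ?_
        have h1 := mem_centralizer_iff.mp hw _ (hYc c⁻¹ (inv_mem hc) v hv)
        calc v * (c * w * c⁻¹) = c * (c⁻¹ * v * c⁻¹⁻¹ * w) * c⁻¹ := by group
          _ = _ := by rw [h1]; group) l
      ⟨⟨hl, H99.Wr.mem_cen1.2 (hlY x hxY)⟩, mem_centralizer_iff.mpr fun v hv => (hlY v hv).symm⟩
      ⟨b, hlb⟩ hlK
    have hv1 : ∀ v ∈ Yb, v ∈ K ∨ v * x ∈ K := fun v hv =>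
      hP.cenP x hx hx2 v hv.1 (mem_cen.2 fun w hw => (mem_centralizer_iff.mp (hPx hw).2 v hv).symm)
    refine hne (le_antisymm (fun u hu => ?_) (zpowers_le.mpr hs))
    have uL : u ∈ nor L := hn.ge (hTn hu)
    have uI : KL L u := by
      have c1 : u * x * u⁻¹ ∈ L := conj_mem_of_mem_normalizer uL hx
      have c2 : x * (u * x * u⁻¹) ∈ K := by
        have h1 : u * (k * x) * u⁻¹ = k * x := es ▸ cj_of_comm (mem_cen.1 hsc u hu)
        rw [show x * (u * x * u⁻¹) = x * (u * k⁻¹ * u⁻¹) * (u * (k * x) * u⁻¹) by group, h1,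
          ← mul_assoc, mul_assoc x, mem_cen.1 (mul_mem (conj_mem_of_mem_normalizer (hTn hu)
            (inv_mem hk)) hk) x hx, mul_assoc, xx, mul_one]
        exact mul_mem (conj_mem_of_mem_normalizer (hTn hu) (inv_mem hk)) hk
      have c3 : u * x * u⁻¹ * (u * x * u⁻¹) = 1 := by rw [conj_mul, xx]; group
      have c4 : u * x * u⁻¹ = x := by
        have h1 := mem_cen.1 c2 x hx
        have h2 : x * (u * x * u⁻¹) = 1 := one_of_odd_sq (odd_of_mem hZ ⟨L.mul_mem hx c1, c2⟩) (by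
          rw [← mul_assoc, ← h1, ← mul_assoc x x, xx, one_mul, c3])
        rw [eq_inv_of_mul_eq_one_right h2, inv_of_sq xx]
      have un : u ∈ nor (L ⊓ cen1 x) := cj_eq_self_iff.1 (by
        rw [cj_inf, cj_eq_self uL, cj_cen1, c4])
      have cn : L ⊓ cen1 x ≤ nor (cj g K) := fun c hc =>
        H14.te_centralizer_le hK' hs2 (hTK hs) (H99.Wr.mem_cen1.2 (by
          rw [es, ← mul_assoc, mem_cen.1 hk c hc.1, mul_assoc, H99.Wr.mem_cen1.1 hc.2, mul_assoc]))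
      rcases hqs x hx hx2 (L ⊓ cen1 x ⊓ cj g K) inf_le_left (le_normalizer_inf le_normalizer cn)
        with h | h
      · exfalso
        obtain ⟨v, hv, vv, v1, vx⟩ := hbig x hx hx2
        have h1 := h hv
        rcases hv1 v ⟨h1.1.1, ⟨1, by rw [pow_one, pow_two, vv]⟩, 1, one_mem _,
          by rw [one_mul]; exact h1.2⟩ with h2 | h2
        · exact v1 (one_of_odd_sq (odd_of_mem hZ ⟨h1.1.1, h2⟩) vv)
        · have h3 := one_of_odd_sq (odd_of_mem hZ ⟨L.mul_mem h1.1.1 hx, h2⟩) (by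
            rw [mul_assoc, ← mul_assoc x, ← H99.Wr.mem_cen1.1 h1.1.2, mul_assoc, xx, mul_one, vv])
          exact vx (by rw [eq_inv_of_mul_eq_one_left h3, inv_of_sq xx])
      · have h1 : ⁅P x, zpowers u⁆ ≤ cen (P x) := le_trans (le_inf
          ((commutator_mono (hP.le x hx hx2) le_rfl).trans
            (commutator_le_left' (zpowers_le.2 un)))
          ((commutator_mono (hP.le x hx hx2) (zpowers_le.2 (hTK hu))).trans
            (commutator_le_right' cn))) h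
        have h2 : ⁅⁅P x, P x⁆, zpowers u⁆ = ⊥ := commutator_commutator_eq_bot_of_rotate
          (commutator_eq_bot_iff_le_centralizer.2 h1)
          (by rw [commutator_comm (zpowers u)]; exact commutator_eq_bot_iff_le_centralizer.2 h1)
        rw [hP.perf x hx hx2, commutator_comm, commutator_eq_bot_iff_le_centralizer] at h2
        exact hout x hx hx2 u uL (h2 (mem_zpowers u))
    obtain ⟨k₂, hk₂, v, hv, eu, -, j, hj⟩ := uI.dec Nat.prime_two (two_T u hu)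
    rcases hv1 v ⟨hv, ⟨j, hj⟩, k₂, hk₂, eu ▸ hTK hu⟩ with h | h
    · rw [hTK1 u hu (eu ▸ mul_mem hk₂ h)]; exact one_mem _
    · have h1 : u * s = 1 := hTK1 _ (mul_mem hu hs) (by
        rw [eu, es, mul_assoc, ← mul_assoc v, mem_cen.1 hk v hv, mul_assoc]
        exact mul_mem hk₂ (mul_mem hk h))
      rw [eq_inv_of_mul_eq_one_left h1]; exact inv_mem (mem_zpowers s)
  obtain ⟨t, ht, ht2⟩ := H14.exists_involution_mem (H := T0) (hcT ▸ hT2)
  have tt := H14.mul_self_of_two ht2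
  have hT0z : zpowers t = T0 := eq_of_le_of_card_ge (zpowers_le.mpr ht) (by
    rw [hcT, hTz, Nat.card_zpowers, Nat.card_zpowers, hs2, ht2])
  -- `R = S ∩ K`
  have hSn : S ≤ nor K := hS.le.trans (sup_le le_normalizer hTn)
  have hR := hS.inf_of_le_normalizer le_sup_left hSn
  have hact : ∀ r ∈ K, k * r * k⁻¹ = s * r * s⁻¹ := fun r hr => by
    rw [es]
    calc k * r * k⁻¹ = k * (x * r * x⁻¹) * k⁻¹ := by rw [cj_of_comm (mem_cen.1 hr x hx)]
      _ = _ := by group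
  have hkR : k ∈ S ⊓ K := by
    refine hR.le_of_le_normalizer' (isPGroup_zpowers (k := 1) (by rw [pow_one, pow_two, kk]))
      (zpowers_le.mpr hk) (zpowers_le.mpr (mem_normalizer_of_cj_le ?_)) (mem_zpowers k)
    rintro _ ⟨r, hr, rfl⟩
    show k * r * k⁻¹ ∈ S ⊓ K
    refine mem_inf.mpr ⟨?_, K.mul_mem (K.mul_mem hk hr.2) (K.inv_mem hk)⟩
    rw [hact r hr.2]
    exact S.mul_mem (S.mul_mem (hTS hs) hr.1) (S.inv_mem (hTS hs))
  have hCR : ∀ r ∈ S ⊓ K, k * r = r * k → r ∈ zpowers t := fun r hr h => by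
    rw [hT0z]
    refine ⟨⟨hr.1, ?_⟩, hr.2⟩
    have h1 : s * r = r * s := comm_of_cj (by rw [← hact r hr.2, cj_of_comm h])
    rw [hTz]
    refine centralizer_le_normalizer _ (mem_cen.2 fun w hw => ?_)
    rcases (mem_zpowers_sq (H14.mul_self_of_two hs2)).1 hw with rfl | rfl
    · simp
    · exact h1
  have hkt := (mem_zpowers_sq tt).1 (hCR k hkR rfl)
  have hRz : S ⊓ K = zpowers t := by
    have hle : zpowers t ≤ S ⊓ K := zpowers_le.mpr ⟨ht.1.1, ht.2⟩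
    by_contra hne
    have h1 := lt_inf_normalizer hR.isPGroup (lt_of_le_of_ne hle (Ne.symm hne))
    refine h1.not_ge fun r hr => hCR r hr.1 ?_
    rcases hkt with rfl | rfl
    · simp
    · rcases (mem_zpowers_sq tt).1 (conj_mem_of_mem_normalizer hr.2 (mem_zpowers k)) with h | h
      · exact absurd (by simpa using h) (H14.ne_one_of_two ht2)
      · exact (comm_of_cj h).symm
  rw [hRz] at hR
  refine ⟨t, ht.2, ht2, hR, x, hx, hx2, ?_⟩
  have ss := H14.mul_self_of_two hs2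
  have ss' : g⁻¹ * s * g * (g⁻¹ * s * g) = 1 := by
    calc _ = g⁻¹ * (s * s) * g := by group
      _ = 1 := by rw [ss]; group
  obtain ⟨c, -, hc⟩ := hR.exists_le_cj (isPGroup_zpowers (x := g⁻¹ * s * g) (k := 1)
    (by rw [pow_one, pow_two, ss'])) (zpowers_le.mpr (mem_cj.mp (hTK hs)))
  have h5 : g * c * t * (g * c)⁻¹ = s := by
    rcases (mem_zpowers_sq tt).1 (mem_cj.mp (hc (mem_zpowers _))) with h | h
    · exfalso
      apply H14.ne_one_of_two hs2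
      calc s = g * c * (c⁻¹ * (g⁻¹ * s * g) * c) * (g * c)⁻¹ := by group
        _ = 1 := by rw [h]; group
    · rw [← h]; group
  refine ⟨g * c, ?_⟩
  rw [h5, es]
  rcases hkt with h | h
  · left; rw [h, one_mul]
  · right; rw [h]

end H44.WrO
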