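import Cfsg.Agent.H64.YESpec
import Cfsg.Agent.S2363

/-! STD-SP endgame (row S3129): the jobs NA and NZ. -/

set_option autoImplicit false
set_option linter.unusedSectionVars false

namespace H44.YE

open H64.SG (O2 Syl Cz Cs Ns cjs Is2 Inv2 UF IsO2 fx mem_Cz is2_of_sq)
open Subgroup H67.UA H67.SP H64.YE
open H59.SO (Ind)

universe u

theorem fact_ge (m : ℕ) (h : 22 ≤ m) : 2 * 8 ^ (m - 2) ≤ m.factorial := by
  induction m, h using Nat.le_induction with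
  | base => decide
  | succ k hk ih =>
    rw [show k + 1 - 2 = k - 2 + 1 by omega, pow_succ, Nat.factorial_succ, ← mul_assoc, mul_comm]
    exact Nat.mul_le_mul (by omega) ih

theorem jobNA : JobNA := by
  intro Y _ _ P hY hP h20 m
  refine ⟨fun e => ?_⟩
  have : Fact (Nat.Prime 2) := ⟨Nat.prime_two⟩
  have h1 := (Cfsg.Agent.S2363.result 2 Nat.prime_two hY).1
  obtain ⟨j, hj⟩ := hP.exists_card_eq
  have c0 : Nat.card Y ≠ 0 := Nat.card_pos.ne'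
  have hd : 2 ^ j ∣ Nat.card Y := hj ▸ card_subgroup_dvd_card P
  have hk : 20 ≤ (Nat.card Y).factorization 2 :=
    ((Nat.pow_le_pow_iff_right one_lt_two).1 (hj ▸ h20)).trans
      ((Nat.prime_two.pow_dvd_iff_le_factorization c0).1 hd)
  have cY : Nat.card Y = Nat.card (alternatingGroup (Fin m)) := Nat.card_congr e.toEquiv
  have m2 : 2 ≤ m := by
    by_contra hlt
    have a : Nat.card Y ≤ m.factorial := by
      rw [cY]
      refine (card_le_card_group _).trans ?_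
      rw [Nat.card_perm, Nat.card_fin]
    have b := Nat.le_of_dvd Nat.card_pos hd
    have : m.factorial ≤ 1 := by
      have : m ≤ 1 := by omega
      interval_cases m <;> simp
    omega
  have : Nontrivial (Fin m) := Fin.nontrivial_iff_two_le.2 m2
  have c2 : 2 * Nat.card Y = m.factorial := by
    rw [cY, two_mul_nat_card_alternatingGroup, Nat.card_perm, Nat.card_fin]
  have v := padicValNat_factorial_lt_of_ne_zero 2 (n := m) (by omega)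
  rw [← Nat.factorization_def _ Nat.prime_two, ← c2, Nat.factorization_mul two_ne_zero c0,
    Finsupp.add_apply, Nat.prime_two.factorization_self] at v
  have f := fact_ge m (by omega)
  have : 2 ^ (3 * (Nat.card Y).factorization 2) ≤ 8 ^ (m - 2) := by
    rw [pow_mul]
    exact Nat.pow_le_pow_right (by norm_num) (by omega)
  omega

section NZ

variable {Y : Type} [Group Y] [Finite Y] [QS Y] {G : Type u} [Group G] [Finite G] {Φ : Y →* G}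
  {K₀ : Subgroup G} {r : Y} {Z : Subgroup Y}

theorem root (hk : Φ.ker ≤ center Y) (ra : ∀ α : MulAut Y, IsConj r (α r)) (rf : RF Φ r) {y : Y}
    (hy : IsConj r y) {g : G} (hg : g * Φ y * g⁻¹ ∈ Φ.range) :
    ∃ y', IsConj r y' ∧ g * Φ y * g⁻¹ = Φ y' := by
  obtain ⟨w, rfl⟩ := isConj_iff.1 hy
  have e : g * Φ (w * r * w⁻¹) * g⁻¹ = g * Φ w * Φ r * (g * Φ w)⁻¹ := by simp [mul_assoc]
  rw [e] at hg ⊢
  obtain ⟨m, hm, c, hc, e'⟩ := rf _ hg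
  obtain ⟨β, hβ⟩ := exists_ind hk hm
  refine ⟨β r, ra β, ?_⟩
  rw [e', ← hβ, mul_inv_rev, mul_assoc m, ← mem_Cz.1 hc]
  group

theorem T2_eq (hk : Φ.ker ≤ center Y) (le : Φ.range ≤ K₀) (z2 : ∀ z ∈ Z, z * z = 1)
    (c2 : C2 Φ K₀ Z) : T2 (K₀ ⊓ Cs (Z.map Φ)) = (T2 (Cs Z)).map Φ := by
  rw [T2, T2, MonoidHom.map_closure]
  congr 1
  ext x
  refine ⟨fun ⟨⟨h1, h2⟩, h3⟩ => ?_, ?_⟩
  · obtain ⟨s, hs, rfl⟩ := exists_is2_range (c2 x h1 h2 h3) h3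
    exact ⟨s, ⟨fun z hz => ((e_comm_iff hk (is2_of_sq (z2 z hz))).1 (h2 _ ⟨z, hz, rfl⟩).symm).symm,
      hs⟩, rfl⟩
  · rintro ⟨s, ⟨h1, h2⟩, rfl⟩
    refine ⟨⟨le ⟨s, rfl⟩, ?_⟩, h2.map Φ⟩
    rintro _ ⟨z, hz, rfl⟩
    rw [← map_mul, ← map_mul, h1 z hz]

theorem nor_T2 {A : Subgroup G} {g : G} (hg : g ∈ Ns A) : g ∈ Ns (T2 A) := by
  refine H98.mem_normalizer_of_cj_le ?_
  rw [T2, H98.cj, MonoidHom.map_closure, closure_le]
  rintro _ ⟨x, ⟨h1, h2⟩, rfl⟩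
  exact subset_closure ⟨H98.conj_mem_of_mem_normalizer hg h1, h2.map (MulAut.conj g).toMonoidHom⟩

/-- The facts on the root group that are used. -/
structure RD' (r : Y) (Z : Subgroup Y) : Prop where
  inv : Inv2 r
  rz : r ∈ Z
  ab : Z ≤ Cs Z
  z2 : ∀ z ∈ Z, z * z = 1
  rt : ∀ z ∈ Z, z ≠ 1 → IsConj r z
  ra : ∀ α : MulAut Y, IsConj r (α r)

theorem nz (hk : Φ.ker ≤ center Y) [K₀.Normal] (le : Φ.range ≤ K₀) (rd : RD' r Z) (rn : RN r Z)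
    (rf : RF Φ r) (c2 : C2 Φ K₀ Z) : K₀ ⊓ Ns (Z.map Φ) ≤ Ns Φ.range := by
  intro g hg
  obtain ⟨y0, n0, zc, tr, gen⟩ := rn.tp
  have E := T2_eq hk le rd.z2 c2
  have nP : ∀ k ∈ Ns (Z.map Φ), k ∈ Ns ((T2 (Cs Z)).map Φ) := fun k hk => by
    rw [← E]
    exact nor_T2 (H98.le_normalizer_inf (le_normalizer_of_normal (H := K₀))
      (H98.le_normalizer_centralizer le_rfl) hk)
  have TC : T2 (Cs Z) ≤ Cs Z := (closure_le _).2 fun x hx => hx.1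
  have zT : ∀ z ∈ Z, y0 * z * y0⁻¹ ∈ T2 (Cs Z) := fun z hz => subset_closure
    ⟨zc ⟨z, hz, rfl⟩, (is2_of_sq (rd.z2 z hz)).map (MulAut.conj y0).toMonoidHom⟩
  have r2 : ∀ y, IsConj r y → y * y = 1 := fun y hy => by
    obtain ⟨w, rfl⟩ := isConj_iff.1 hy
    rw [conj_mul, rd.inv.1]; simp
  have Z2 : IsPGroup 2 Z := H64.SG.isPGroup_iff_is2.2 fun z hz => is2_of_sq (rd.z2 z hz)
  have rr : IsConj r (y0 * r * y0⁻¹) := isConj_iff.2 ⟨y0, rfl⟩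
  have m1 := H98.conj_mem_of_mem_normalizer (nP g hg.2) (mem_map_of_mem Φ (zT r rd.rz))
  obtain ⟨d, hd, ed⟩ := root hk rd.ra rf rr (map_le_range Φ _ m1)
  rw [ed] at m1
  obtain ⟨p, hp, m2⟩ := tr d (fun z hz => by
      obtain ⟨s, hs, es⟩ := m1
      refine ((e_comm_iff hk (is2_of_sq (rd.z2 z hz))).1 ?_).symm
      rw [← es, ← map_mul, ← map_mul, TC hs z hz]) hd fun hz => n0 (by
    have := H98.conj_mem_of_mem_normalizer (inv_mem hg.2) (mem_map_of_mem Φ hz)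
    rw [← ed, show g⁻¹ * (g * Φ (y0 * r * y0⁻¹) * g⁻¹) * g⁻¹⁻¹ = Φ (y0 * r * y0⁻¹) by group] at this
    exact (mem_map2 hk Z2 (is2_of_sq (r2 _ rr))).1 this)
  obtain ⟨z1, hz1, e1⟩ := m2
  replace e1 : y0 * z1 * y0⁻¹ = p * d * p⁻¹ := e1
  have g1 : Φ p * g ∈ Ns (Z.map Φ) := mul_mem (le_normalizer_map Φ (mem_map_of_mem Φ
    (centralizer_le_normalizer _ hp))) hg.2
  have er : (Φ y0)⁻¹ * (Φ p * g) * Φ y0 * Φ r * ((Φ y0)⁻¹ * (Φ p * g) * Φ y0)⁻¹ = Φ z1 := by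
    have : z1 = y0⁻¹ * (p * d * p⁻¹) * y0 := by rw [← e1]; group
    rw [this]
    simp only [map_mul, map_inv] at ed ⊢
    rw [← ed]; group
  have gM : Φ p * g ∈ Ns Φ.range → g ∈ Ns Φ.range := fun a =>
    (mul_mem_cancel_left (le_normalizer (show Φ p ∈ Φ.range from ⟨p, rfl⟩))).1 a
  generalize Φ p * g = k at g1 er gM
  have im : ∀ z ∈ Z, ∃ y, (y = 1 ∨ IsConj r y) ∧ (y = 1 → z = 1) ∧
      (Φ y0)⁻¹ * k * Φ y0 * Φ z * ((Φ y0)⁻¹ * k * Φ y0)⁻¹ = Φ y := fun z hz => by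
    by_cases z1 : z = 1
    · exact ⟨1, Or.inl rfl, fun _ => z1, by simp [z1]⟩
    have a := map_le_range Φ _ (H98.conj_mem_of_mem_normalizer (nP k g1) (mem_map_of_mem Φ (zT z hz)))
    obtain ⟨y, hy, ey⟩ := root hk rd.ra rf (rd.rt z hz z1) (g := (Φ y0)⁻¹ * k * Φ y0) (by
      have b := mul_mem (mul_mem (inv_mem (show Φ y0 ∈ Φ.range from ⟨y0, rfl⟩)) a)
        (show Φ y0 ∈ Φ.range from ⟨y0, rfl⟩)
      rw [map_mul, map_mul, map_inv] at b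
      rwa [show (Φ y0)⁻¹ * k * Φ y0 * Φ z * ((Φ y0)⁻¹ * k * Φ y0)⁻¹ =
        (Φ y0)⁻¹ * (k * (Φ y0 * Φ z * (Φ y0)⁻¹) * k⁻¹) * Φ y0 by group])
    exact ⟨y, Or.inr hy, fun y1 => absurd (isConj_one_left.1 (by rwa [y1] at hy)) rd.inv.2, ey⟩
  have sq : ∀ y, y = 1 ∨ IsConj r y → y * y = 1 := fun y hy => hy.elim (fun a => by simp [a]) (r2 y)
  have k2 : (Φ y0)⁻¹ * k * Φ y0 ∈ Ns (Z.map Φ) := by
    generalize (Φ y0)⁻¹ * k * Φ y0 = l at er im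
    refine H98.mem_normalizer_of_cj_le ?_
    rintro _ ⟨_, ⟨z, hz, rfl⟩, rfl⟩
    obtain ⟨y, hy, -, ey⟩ := im z hz
    refine ⟨y, ?_, ey.symm⟩
    rcases hy with rfl | hy
    · exact one_mem _
    obtain ⟨y', hy', -, ey'⟩ := im (z * r) (mul_mem hz rd.rz)
    have n1 : z1 ≠ 1 := fun a => rd.inv.2 (eq_one2 hk (is2_of_sq rd.inv.1) (by
      rw [a, map_one] at er
      simpa [mul_assoc] using conj_eq_one_iff.1 er))
    have cm : y * z1 = z1 * y := (e_comm_iff hk (is2_of_sq (rd.z2 z1 hz1))).1 (by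
      rw [← ey, ← er, conj_mul, conj_mul, ← map_mul, ← map_mul, rd.ab rd.rz z hz])
    have e3 : y' = y * z1 := inj2 hk (is2_of_sq (sq _ hy'))
      ((is2_of_sq (r2 y hy)).mul (is2_of_sq (rd.z2 z1 hz1)) cm) (by
        rw [← ey', map_mul, map_mul, ← ey, ← er, conj_mul])
    exact rn.zp z1 hz1 n1 y hy cm (by rwa [e3] at hy')
  have k3 : k ∈ Ns ((cjs y0 (T2 (Cs Z))).map Φ) := by
    have := H98.conj_mem_cj (g := Φ y0) (nP _ k2)
    rw [H98.cj_normalizer, ← H98.map_cj,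
      show Φ y0 * ((Φ y0)⁻¹ * k * Φ y0) * (Φ y0)⁻¹ = k by group] at this
    exact this
  have k4 : Φ.range = (T2 (Cs Z)).map Φ ⊔ (cjs y0 (T2 (Cs Z))).map Φ := by
    rw [← Subgroup.map_sup, gen, MonoidHom.range_eq_map]
  refine gM ?_
  rw [k4]
  exact H98.le_normalizer_sup (zpowers_le.2 (nP k g1)) (zpowers_le.2 k3) (mem_zpowers k)

end NZ

theorem jobNZ : JobNZ.{u} := by
  intro n F _ _ _ _ _ _ G _ _ e t Y _ _ _ ι τ Gd Go U Φ K₀ h r Z Q rd rn rf c2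
  have := h.nor
  exact nz h.ker h.le ⟨rd.inv, rd.rz, rd.zq.trans (rd.qu.trans rd.uz), rd.z2, rd.rt, rd.ra⟩ rn rf c2

end H44.YE
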